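import Cfsg.Agent.Lib.Known.AltE8.CountToral
import Cfsg.Agent.Lib.Known.AltE6.Toral
import Cfsg.Agent.Lib.Known.AltTorus.Sections

/-!
# The dimensions of the fixed points of elements of order three of the groups of type E8
-/

set_option autoImplicit false
set_option maxRecDepth 20000
set_option maxHeartbeats 1000000

namespace CfsgLib.Known.AltE8

open Cfsg.Lie (chevE8)
open CfsgLib.Lie.Chev hiding monP
open CfsgLib.Known.CyclicTorus (wMat)
open CfsgLib.Known.AltE6 (chi monP monMatrix monMatrix_mul monMatrix_inj monP_one exists_monMatrix fixd fixd_le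
  fixd_monP fixd_fromBlocks cartBlock cartBlock_one rep rep_apply fixd_rep_conj card_filter_countP wq qact_wq key_wq
  wq_append wq_nil wq_eq keyW)
open scoped Matrix

theorem symE8 : ∀ i j : Fin chevE8.rank, chevE8.cartan i (chevE8.simple j) = chevE8.cartan j (chevE8.simple i) := by
  decide +kernel

theorem dotL_ofFn : ∀ {m : ℕ} (c : List ℤ) (f : Fin m → ℤ), c.length = m →
    dotL c (List.ofFn f) = ∑ i : Fin m, c.getD i 0 * f i
  | 0, c, f, h => by simp [dotL, List.length_eq_zero_iff.1 h]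
  | m + 1, [], f, h => by simp at h
  | m + 1, x :: c, f, h => by
    have ih := dotL_ofFn c (fun i => f i.succ) (by simpa using h)
    simp only [dotL] at ih ⊢
    rw [List.ofFn_succ, List.zipWith_cons_cons, List.sum_cons, ih, Fin.sum_univ_succ]
    simp

theorem coef_simple8 : ∀ i j : Fin 8, auxE8.coef j (chevE8.simple i) = if j = i then 1 else 0 := by decide +kernel

theorem cast_matrix {F : Type*} [Field F] {a b c : ℕ} (A : Matrix (Fin a) (Fin b) ℤ) (B : Matrix (Fin b) (Fin c) ℤ) :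
    (A * B).map (Int.cast : ℤ → F) = A.map (Int.cast : ℤ → F) * B.map (Int.cast : ℤ → F) := by
  ext i j
  simp [Matrix.mul_apply]

/-- The fixed space of a matrix with a scaled projection. -/
theorem fixd_of_proj {F : Type*} [Field F] (h3 : (3 : F) ≠ 0) {n d : ℕ} (B : Matrix (Fin n) (Fin n) ℤ)
    (P : Matrix (Fin n) (Fin d) ℤ) (Q : Matrix (Fin d) (Fin n) ℤ) (hBP : B * P = P)
    (hQP : Q * P = Matrix.diagonal fun _ => (3 : ℤ)) (hPQ : P * Q = 1 + B + B * B) :
    fixd (Matrix.toLin' (B.map (Int.cast : ℤ → F))) = d := by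
  obtain ⟨B', hB'⟩ : ∃ B' : Matrix (Fin n) (Fin n) F, B' = B.map (Int.cast : ℤ → F) := ⟨_, rfl⟩
  obtain ⟨P', hP'⟩ : ∃ P' : Matrix (Fin n) (Fin d) F, P' = P.map (Int.cast : ℤ → F) := ⟨_, rfl⟩
  obtain ⟨Q', hQ'⟩ : ∃ Q' : Matrix (Fin d) (Fin n) F, Q' = Q.map (Int.cast : ℤ → F) := ⟨_, rfl⟩
  have e1 : B' * P' = P' := by rw [hB', hP', ← cast_matrix, hBP]
  have e2 : Q' * P' = (3 : F) • 1 := by
    rw [hQ', hP', ← cast_matrix, hQP, Matrix.diagonal_map Int.cast_zero, Matrix.smul_one_eq_diagonal]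
    simp
  have e3 : P' * Q' = 1 + B' + B' * B' := by
    rw [hB', hP', hQ', ← cast_matrix, ← cast_matrix, hPQ]
    ext i j
    rcases eq_or_ne i j with h | h <;> simp [h]
  rw [← hB']
  obtain ⟨e, -⟩ : ∃ e : ↥(CfsgLib.Perm.AltSection.eig (Matrix.toLin' B') (1 : F)) ≃ₗ[F] (Fin d → F), True := by
    refine ⟨LinearEquiv.ofBijective ((3 : F)⁻¹ • (Matrix.toLin' Q').comp (Submodule.subtype _)) ⟨?_, fun y => ?_⟩,
      trivial⟩
    · rw [injective_iff_map_eq_zero]
      intro x hx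
      have hx' : B' *ᵥ (x : Fin n → F) = x := by simpa using CfsgLib.Perm.AltSection.mem_eig.1 x.2
      have hQ0 : Q' *ᵥ (x : Fin n → F) = 0 := by simpa [h3] using hx
      have h := congrArg (P' *ᵥ ·) hQ0
      simp only [Matrix.mulVec_mulVec, e3, Matrix.add_mulVec, Matrix.one_mulVec, Matrix.mulVec_zero] at h
      rw [← Matrix.mulVec_mulVec, hx', hx', ← two_smul F (x : Fin n → F)] at h
      refine Subtype.ext ((smul_eq_zero.1 (show (3 : F) • (x : Fin n → F) = 0 from ?_)).resolve_left h3)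
      rw [show (3 : F) = 2 + 1 by norm_num, add_smul, one_smul]
      exact h
    · refine ⟨⟨P' *ᵥ y, CfsgLib.Perm.AltSection.mem_eig.2 ?_⟩, ?_⟩
      · rw [Matrix.toLin'_apply, one_smul, Matrix.mulVec_mulVec, e1]
      · simp [Matrix.mulVec_mulVec, e2, Matrix.smul_mulVec, h3]
  rw [fixd, e.finrank_eq, Module.finrank_pi, Fintype.card_fin]

variable {F : Type*} [Field F] [Fintype F]

/-- The fixed points of a monomial element of order three over a representative. -/
theorem fixd_NS_three (h3F : (3 : F) ≠ 0) (h3 : 3 ∣ Fintype.card F - 1) (n : (chevRel certE8 F).NS) (k : Fin 5)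
    (hi : (chevRel certE8 F).qmk n = wq (chevRel certE8 F) (w3Reps.getD k [])) (hn3 : n ^ 3 = 1) :
    fixd (rep chevE8 F (n : ↥(chevE8.group F))) ∈ dims := by
  classical
  obtain ⟨l, hl⟩ : ∃ l, l = w3Reps.getD (k : ℕ) [] := ⟨_, rfl⟩
  obtain ⟨σ, hσ⟩ : ∃ σ, σ = (chevRel certE8 F).nsPerm n := ⟨_, rfl⟩
  have hlin : (chevRel certE8 F).IsLin σ := hσ ▸ (chevRel certE8 F).isLin_nsPerm n
  have hact : ∀ r : Fin chevE8.nroots, (σ r : ℕ) = actW l r := fun r => by
    rw [hσ, ← (chevRel certE8 F).qact_qmk, hi, qact_wq, hl]; rfl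
  obtain ⟨a, u, ha, hu⟩ := exists_monMatrix F certE8 symE8 n
  rw [← hσ] at ha
  obtain ⟨hσ3, horb⟩ : σ * σ * σ = 1 ∧ ∀ r, a (σ (σ r)) * a (σ r) * a r = 1 := by
    have e := (chevRel certE8 F).mat_one
    rw [← OneMemClass.coe_one (chevRel certE8 F).NS, ← hn3, Subgroup.coe_pow, pow_succ, pow_two,
      (chevRel certE8 F).mat_mul, (chevRel certE8 F).mat_mul, ha,
      monMatrix_mul _ hlin, monMatrix_mul _ ((chevRel certE8 F).isLin_mul hlin hlin)] at e
    have e1 : monMatrix (chevRel certE8 F) 1 (fun _ => (1 : Fˣ)) = 1 := by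
      rw [monMatrix, cartBlock_one, monP_one, Matrix.fromBlocks_one]
    rw [← e1] at e
    exact ⟨(monMatrix_inj _ e).1, fun r => congrFun (monMatrix_inj _ e).2 r⟩
  have hσ3' : ∀ r, σ (σ (σ r)) = r := fun r => congrArg (fun s : Equiv.Perm _ => s r) hσ3
  -- the Cartan algebra
  have hdB : fixd (Matrix.toLin' (cartBlock (chevRel certE8 F) σ)) = 8 - 2 * (k : ℕ) := by
    have hB : cartBlock (F := F) (chevRel certE8 F) σ = (repB k).map (Int.cast : ℤ → F) := by
      rw [cartBlock, ← Matrix.transpose_map]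
      congr 1
      ext i j
      have hj : (keyW chevE8 auxE8 l).getD j 0 = actW l (chevE8.simple j) := by
        rw [keyW, List.getD_eq_getElem _ _ (by simp), List.getElem_map, List.getElem_range, actW]
      show auxE8.coef i (σ ((chevRel certE8 F).sroot j) : ℕ) =
        auxE8.coef i ((keyW chevE8 auxE8 (w3Reps.getD k [])).getD j 0)
      rw [hact, ← hl, hj]
      rfl
    obtain ⟨p1, p2, p3⟩ := proj_ok k
    rw [hB]
    exact fixd_of_proj h3F _ _ _ p1 p2 p3
  -- the roots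
  obtain ⟨R0, hR0⟩ : ∃ R0 : Finset (Fin chevE8.nroots), R0 = Finset.univ.filter (fun r => σ r = r ∧ a r = 1) ∪
      Finset.univ.filter (fun r => (r : ℕ) < (σ r : ℕ) ∧ (r : ℕ) < (σ (σ r) : ℕ)) := ⟨_, rfl⟩
  have hmem : ∀ r, r ∈ R0 ↔ (σ r = r ∧ a r = 1) ∨ ((r : ℕ) < (σ r : ℕ) ∧ (r : ℕ) < (σ (σ r) : ℕ)) := fun r => by
    simp [hR0]
  have hdP : fixd (Matrix.toLin' (monP σ a)) = R0.card := by
    refine fixd_monP σ a hσ3' horb R0 (fun r hr hf => ?_) (fun r hf h1 => (hmem r).2 (Or.inl ⟨hf, h1⟩))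
      (fun r hr hne => ?_) (fun r hne => ?_)
    · rcases (hmem r).1 hr with h | h
      · exact h.2
      · rw [hf] at h; omega
    · rcases (hmem r).1 hr with h | h
      · exact absurd h.1 hne
      refine ⟨fun h' => ?_, fun h' => ?_⟩ <;> rcases (hmem _).1 h' with h2 | h2
      · exact hne (σ.injective h2.1)
      · rw [hσ3'] at h2; omega
      · exact hne (σ.injective (σ.injective h2.1))
      · rw [hσ3'] at h2; omega
    · have h1 : (σ r : ℕ) ≠ r := fun h => hne (Fin.ext h)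
      have h2 : (σ (σ r) : ℕ) ≠ r := fun h => hne (by
        have h' : σ (σ r) = r := Fin.ext h
        calc σ r = σ (σ (σ r)) := by rw [h']
          _ = r := hσ3' r)
      have h3 : (σ (σ r) : ℕ) ≠ (σ r : ℕ) := fun h => hne (σ.injective (Fin.ext h))
      rcases Nat.lt_or_ge (r : ℕ) (σ r : ℕ) with ha1 | ha1 <;>
        rcases Nat.lt_or_ge (r : ℕ) (σ (σ r) : ℕ) with ha2 | ha2 <;>
        rcases Nat.lt_or_ge (σ r : ℕ) (σ (σ r) : ℕ) with ha3 | ha3
      all_goals first
        | exact Or.inl ((hmem r).2 (Or.inr ⟨by omega, by omega⟩))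
        | exact Or.inr (Or.inl ((hmem _).2 (Or.inr ⟨by omega, by rw [hσ3']; omega⟩)))
        | exact Or.inr (Or.inr ((hmem _).2 (Or.inr ⟨by rw [hσ3']; omega, by rw [hσ3']; omega⟩)))
  obtain ⟨Qb, hQb⟩ : ∃ Qb : ℕ → Bool, ∀ r : Fin chevE8.nroots, Qb r = decide (a r = 1) :=
    ⟨fun r => if h : r < chevE8.nroots then decide (a ⟨r, h⟩ = 1) else false, fun r => dif_pos r.2⟩
  have hcount : R0.card = (fixR l).countP Qb + (minR l).length := by
    rw [hR0, Finset.card_union_of_disjoint]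
    rotate_left
    · rw [Finset.disjoint_filter]
      intro r _ h1 h2
      rw [h1.1] at h2
      omega
    · congr 1
      · rw [fixR, List.countP_filter]
        refine card_filter_countP (n := chevE8.nroots) _ _ fun r => ?_
        simp only [Bool.and_eq_true, hQb, decide_eq_true_eq, beq_iff_eq, ← hact]
        exact ⟨fun h => ⟨h.2, congrArg Fin.val h.1⟩, fun h => ⟨Fin.ext h.2, h.1⟩⟩
      · rw [minR, ← List.countP_eq_length_filter]
        refine card_filter_countP (n := chevE8.nroots) _ _ fun r => ?_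
        simp only [Bool.and_eq_true, decide_eq_true_eq]
        rw [← hact, ← hact]
  have htot : fixd (rep chevE8 F (n : ↥(chevE8.group F))) =
      (8 - 2 * (k : ℕ)) + ((fixR l).countP Qb + (minR l).length) := by
    rw [rep_apply certE8, ha, monMatrix, fixd_fromBlocks, hdB, hdP, hcount]
  rw [htot]
  by_cases hk : 2 ≤ (k : ℕ)
  · obtain ⟨s1, s2⟩ := small_ok k hk
    rw [← hl] at s1 s2
    have hle := List.countP_le_length (p := Qb) (l := fixR l)
    simp only [dims, List.mem_cons, List.not_mem_nil, or_false]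
    omega
  -- the values on the fixed roots
  obtain ⟨ζ, hζ⟩ : ∃ ζ : Fˣ, IsPrimitiveRoot ζ 3 := by
    haveI : Fact (Nat.Prime 3) := ⟨Nat.prime_three⟩
    obtain ⟨z, hz⟩ := exists_prime_orderOf_dvd_card' (G := Fˣ) 3 (by
      rwa [Nat.card_units, Nat.card_eq_fintype_card])
    exact ⟨z, hz ▸ IsPrimitiveRoot.orderOf z⟩
  have hfix : ∀ r : Fin chevE8.nroots, σ r = r → a r ^ 3 = 1 ∧ a r = chi auxE8 u (r : ℕ) := fun r hr => by
    have h := horb r
    rw [hr, hr, ← pow_two, ← pow_succ] at h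
    exact ⟨h, by rw [← hu, pow_succ, h, one_mul]⟩
  have hval : ∀ {m : ℕ} (b : Fin m → Fin chevE8.nroots), (∀ i, σ (b i) = b i) → ∃ e : Fin m → Fin 3,
      ∀ (r : Fin chevE8.nroots) (c : Fin m → ℤ), σ r = r →
        (∀ j : Fin 8, auxE8.coef j r = ∑ i, c i * auxE8.coef j (b i : ℕ)) →
        (a r = 1 ↔ (∑ i, c i * ((e i : ℕ) : ℤ)) % 3 = 0) := by
    intro m b hb
    have he : ∀ i, ∃ e : Fin 3, a (b i) = ζ ^ (e : ℕ) := fun i => by
      obtain ⟨e, he, he'⟩ := (hζ.map_of_injective (f := Units.coeHom F) Units.val_injective).eq_pow_of_pow_eq_one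
        (ξ := ((a (b i) : Fˣ) : F)) (by rw [← Units.val_pow_eq_pow_val, (hfix _ (hb i)).1, Units.val_one])
      exact ⟨⟨e, he⟩, Units.ext (by rw [Units.val_pow_eq_pow_val]; exact he'.symm)⟩
    choose e he using he
    refine ⟨e, fun r c hr hc => ?_⟩
    have h1 : a r = ∏ i, a (b i) ^ c i := by
      rw [(hfix r hr).2, Finset.prod_congr rfl fun i _ => by rw [(hfix _ (hb i)).2], chi,
        Finset.prod_congr rfl fun j _ => by rw [hc j, zpow_finset_sum]]
      simp only [chi, ← Finset.prod_zpow, ← zpow_mul]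
      rw [Finset.prod_comm]
      exact Finset.prod_congr rfl fun i _ => Finset.prod_congr rfl fun j _ => by rw [mul_comm]
    rw [h1, Finset.prod_congr rfl fun i _ => by rw [he i, ← zpow_natCast, ← zpow_mul, mul_comm],
      ← zpow_finset_sum, hζ.zpow_eq_one_iff_dvd, Int.dvd_iff_emod_eq_zero]
    rfl
  have hfr : ∀ r : Fin chevE8.nroots, (r : ℕ) ∈ fixR l → σ r = r := fun r hr => by
    rw [fixR, List.mem_filter, beq_iff_eq, ← hact] at hr
    exact Fin.ext hr.2
  by_cases hk1 : (k : ℕ) = 1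
  · obtain ⟨f1, f2, f3⟩ := fix72_ok
    rw [hk1] at hl
    rw [← hl] at f1 f2
    obtain ⟨b, hb⟩ : ∃ b : Fin 6 → Fin chevE8.nroots, ∀ i, (b i : ℕ) = six.getD i 0 :=
      ⟨fun i => ⟨six.getD i 0, (six_fixed i).1⟩, fun _ => rfl⟩
    obtain ⟨e, he⟩ := hval b fun i => Fin.ext (by rw [hact, hb, hl, (six_fixed i).2])
    obtain ⟨E, hE⟩ : ∃ E : List ℤ, E = List.ofFn fun i : Fin 6 => ((e i : ℕ) : ℤ) := ⟨_, rfl⟩
    have h := six_dims E (hE ▸ mem_vecs 6 e)
    have hcnt : (fixR l).countP Qb = fix72.countP fun x => dotL x.2 E % 3 == 0 := by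
      rw [f1, List.countP_map]
      refine List.countP_congr fun x hx => ?_
      obtain ⟨g1, g2⟩ := f3 x hx
      have hx1 : x.1 ∈ fixR l := f1 ▸ List.mem_map.2 ⟨x, hx, rfl⟩
      have hlt : x.1 < chevE8.nroots := List.mem_range.1 (List.mem_filter.1 hx1).1
      have h1 := he ⟨x.1, hlt⟩ (fun i => x.2.getD i 0) (hfr _ hx1) (fun j => by simp only [hb]; exact g2 j)
      have hd : dotL x.2 E = ∑ i : Fin 6, x.2.getD i 0 * ((e i : ℕ) : ℤ) := by
        rw [hE, dotL_ofFn _ _ g1]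
      simp only [Function.comp_apply, beq_iff_eq, hd, ← h1]
      rw [show Qb x.1 = decide (a ⟨x.1, hlt⟩ = 1) from hQb ⟨x.1, hlt⟩, decide_eq_true_eq]
    rw [hcnt, f2, hk1]
    have hre : ∀ X : ℕ, 8 - 2 * 1 + (X + 56) = 62 + X := fun X => by omega
    rw [hre]
    exact h
  · have hk0 : (k : ℕ) = 0 := by omega
    obtain ⟨z1, z2⟩ := zero_ok
    rw [hk0] at hl
    rw [← hl] at z1 z2
    obtain ⟨b, hb⟩ : ∃ b : Fin 8 → Fin chevE8.nroots, ∀ i, b i = (chevRel certE8 F).sroot i := ⟨_, fun _ => rfl⟩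
    have hall : ∀ r : Fin chevE8.nroots, σ r = r := fun r => hfr r (z1 ▸ List.mem_range.2 r.2)
    obtain ⟨e, he⟩ := hval b fun i => hall _
    obtain ⟨hperm, hneg⟩ := neg_ok
    have hcnt : (fixR l).countP Qb = 2 * (List.range' 120 120).countP fun r =>
        Nat.beq ((0 + ∑ j, (e j : ℕ) * col j r) % 3) 0 := by
      have key : ∀ r < 240, Qb r = decide ((∑ j : Fin 8, auxE8.coef j r * ((e j : ℕ) : ℤ)) % 3 = 0) := by
        intro r hr
        have h1 := he ⟨r, hr⟩ (fun j => auxE8.coef j r) (hall _) (fun j => by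
          rw [Finset.sum_eq_single j]
          · rw [hb, show (((chevRel certE8 F).sroot j : Fin chevE8.nroots) : ℕ) = chevE8.simple j from rfl, coef_simple8,
              if_pos rfl, mul_one]
          · intro i _ hi
            rw [hb, show (((chevRel certE8 F).sroot i : Fin chevE8.nroots) : ℕ) = chevE8.simple i from rfl, coef_simple8,
              if_neg (Ne.symm hi), mul_zero]
          · simp)
        rw [show Qb r = decide (a ⟨r, hr⟩ = 1) from hQb ⟨r, hr⟩]
        exact decide_eq_decide.2 h1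
      rw [z1, hperm.countP_eq, List.countP_append, List.countP_map, two_mul]
      refine congrArg₂ (· + ·) ?_ ?_ <;> refine List.countP_congr fun r hr => ?_
      all_goals
        have hr' : r < 240 := by simp [List.mem_range'] at hr; omega
        simp only [Function.comp_apply, key r hr', key (239 - r) (by omega), decide_eq_true_eq, Nat.beq_eq,
          hneg r hr, neg_mul, Finset.sum_neg_distrib, zero_add]
        rw [← Int.dvd_iff_emod_eq_zero, ← Nat.dvd_iff_mod_eq_zero, ← Int.natCast_dvd_natCast, Nat.cast_sum]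
        try rw [dvd_neg]
        refine dvd_iff_dvd_of_dvd_sub ?_
        rw [← Finset.sum_sub_distrib]
        refine Finset.dvd_sum fun j _ => ?_
        have hc : (col j r : ℤ) = auxE8.coef j r % 3 := by
          rw [col, Int.toNat_of_nonneg (Int.emod_nonneg _ (by norm_num))]
        rw [Nat.cast_mul, hc, mul_comm ((e j : ℕ) : ℤ), ← sub_mul]
        exact Dvd.dvd.mul_right (Int.dvd_self_sub_emod) _
    have h := go_sound (List.range' 120 120) 8 col (fun _ => 0) go_ok e
    simp only [okCnt, decide_eq_true_eq] at h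
    rw [hcnt, z2, hk0]
    simpa using h

/-- The fixed points of an element of order dividing three. -/
theorem fixd_three (h3F : (3 : F) ≠ 0) (h3 : 3 ∣ Fintype.card F - 1)
    (hidx : ¬ 3 ∣ (chevRel certE8 F).NS.index) {x : ↥(chevE8.group F)} (hx : x ^ 3 = 1) :
    fixd (rep chevE8 F x) ∈ dims := by
  haveI : Fact (Nat.Prime 3) := ⟨Nat.prime_three⟩
  haveI : Finite ↥(chevE8.group F) := (chevRel certE8 F).Finite_of_field
  haveI : Finite (chevRel certE8 F).WQ := Finite.of_injective _ (chevRel certE8 F).qact_injective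
  obtain ⟨g, hg⟩ := AltTorus.exists_conj_into hidx (AltTorus.isPGroup_zpowers hx)
  obtain ⟨n₀, hn₀⟩ : ∃ n₀ : (chevRel certE8 F).NS, (n₀ : ↥(chevE8.group F)) = g * x * g⁻¹ :=
    ⟨⟨_, hg x (Subgroup.mem_zpowers x)⟩, rfl⟩
  have hn03 : n₀ ^ 3 = 1 := Subtype.ext (by rw [Subgroup.coe_pow, hn₀, conj_pow, hx, mul_one, mul_inv_cancel]; rfl)
  obtain ⟨w, hw⟩ := threeT8_ok.conj_into (chevRel certE8 F) (p := 3) (N := 2867200) (card_WQ_E8 _) (by norm_num)
    (AltTorus.isPGroup_zpowers (x := (chevRel certE8 F).qmk n₀) (l := 3) (by rw [← map_pow, hn03, map_one]))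
  obtain ⟨i, hi⟩ := threeT8_ok.exists_of_mem _ (hw _ (Subgroup.mem_zpowers _))
  obtain ⟨v, hv⟩ : ∃ v, v = w * (chevRel certE8 F).qmk n₀ * w⁻¹ := ⟨_, rfl⟩
  rw [← hv] at hi
  have hv3 : v * v * v = 1 := by
    rw [← pow_two, ← pow_succ, hv, conj_pow, ← map_pow, hn03, map_one, mul_one, mul_inv_cancel]
  obtain ⟨hj, hc⟩ := class_ok i (by
    rw [← key_wq (chevRel certE8 F), ← key_wq (chevRel certE8 F), wq_append, wq_append, ← hi, wq_nil, hv3])
  obtain ⟨c, hcdef⟩ : ∃ c, c = (w3Class.getD (i : ℕ) (0, [])).2 := ⟨_, rfl⟩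
  have hrev : wq (chevRel certE8 F) c.reverse = (wq (chevRel certE8 F) c)⁻¹ :=
    eq_inv_of_mul_eq_one_left (by rw [← wq_append, ← wq_nil (chevRel certE8 F), hcdef]; exact wq_eq _ (rev_ok i))
  have hrep : (wq (chevRel certE8 F) c)⁻¹ * v * wq (chevRel certE8 F) c =
      wq (chevRel certE8 F) (w3Reps.getD (w3Class.getD (i : ℕ) (0, [])).1 []) := by
    rw [← hrev, hi, ← wq_append, ← wq_append, hcdef]
    exact wq_eq _ hc
  obtain ⟨m, hm⟩ := (chevRel certE8 F).qmk_surjective ((wq (chevRel certE8 F) c)⁻¹ * w)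
  have h := fixd_NS_three h3F h3 (m * n₀ * m⁻¹) ⟨_, hj⟩
    (by rw [map_mul, map_mul, map_inv, hm, ← hrep, hv]; group)
    (by rw [conj_pow, hn03, mul_one, mul_inv_cancel])
  rwa [Subgroup.coe_mul, Subgroup.coe_mul, Subgroup.coe_inv, fixd_rep_conj, hn₀, fixd_rep_conj] at h

end CfsgLib.Known.AltE8
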