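import Cfsg.Agent.Lib.Known.AltE7.Cover
import Cfsg.Agent.Lib.Known.AltE8.Three
import Cfsg.Agent.Lib.Known.AltE6.Index
import Cfsg.Agent.Lib.Known.AltE6.Bound
import Cfsg.Agent.Lib.Char.Exceptional.AltMultiplierBound

/-!
# Elements of three power order of the kernel of a minimal cover inside a group of type E8
-/

set_option autoImplicit false
set_option maxRecDepth 20000
set_option maxHeartbeats 1000000

namespace CfsgLib.Known.AltE8

open Cfsg.Lie (ChevalleyDatum chevE8)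
open CfsgLib.Lie.Chev
open CfsgLib.Known.AltE6 (card_ker_pow card_torsion_le val_pow_sub_one)
open CfsgLib.Known.AltE7 (MinCover)

section Index

variable (F : Type*) [Field F] [Fintype F]

theorem index_HS_mul : (chevRel certE8 F).HS.index * (Fintype.card F - 1) ^ 8 =
    Fintype.card F ^ 120 * ([2, 8, 12, 14, 18, 20, 24, 30].map fun k => Fintype.card F ^ k - 1).prod := by
  haveI := (chevRel certE8 F).Finite_of_field
  have h := card_group certE8 F cmat_E8 smithE8 polyE8 rfl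
  have h2 := card_HS_mul certE8 F cmat_E8 smithE8
  rw [← Subgroup.card_mul_index (chevRel certE8 F).HS, ← mul_assoc, h2, mul_comm] at h
  exact h

theorem val_prod_degrees {l : ℕ} [Fact l.Prime] (h : l ∣ Fintype.card F - 1) (h2 : l ≠ 2) :
    padicValNat l (chevRel certE8 F).HS.index = padicValNat l 696729600 := by
  haveI := (chevRel certE8 F).Finite_of_field
  have hl : l.Prime := Fact.out
  have hQ : 1 < Fintype.card F := Fintype.one_lt_card
  have hnQ : ¬ l ∣ Fintype.card F := fun hd => hl.not_dvd_one (by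
    have := Nat.dvd_sub hd h
    rwa [Nat.sub_sub_self hQ.le] at this)
  have hne : ∀ n, n ≠ 0 → Fintype.card F ^ n - 1 ≠ 0 := fun n hn => Nat.sub_ne_zero_of_lt (Nat.one_lt_pow hn hQ)
  have v := fun n (hn : n ≠ 0) => val_pow_sub_one hQ h (fun e => absurd e h2) hn
  have e := congrArg (padicValNat l) (index_HS_mul F)
  rw [padicValNat.mul Subgroup.index_ne_zero_of_finite (pow_ne_zero _ (by omega)), padicValNat.pow,
    padicValNat.mul (pow_ne_zero _ (by omega)) (List.prod_ne_zero (by simp [(hne 2 (by norm_num)).symm,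
      (hne 8 (by norm_num)).symm, (hne 12 (by norm_num)).symm, (hne 14 (by norm_num)).symm,
      (hne 18 (by norm_num)).symm, (hne 20 (by norm_num)).symm, (hne 24 (by norm_num)).symm, (hne 30 (by norm_num)).symm])),
    padicValNat.pow, padicValNat.eq_zero_of_not_dvd hnQ, mul_zero, zero_add] at e
  simp only [List.map_cons, List.map_nil, List.prod_cons, List.prod_nil, mul_one] at e
  rw [padicValNat.mul (hne 2 (by norm_num)) (by simp [hne]), padicValNat.mul (hne 8 (by norm_num)) (by simp [hne]),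
    padicValNat.mul (hne 12 (by norm_num)) (by simp [hne]), padicValNat.mul (hne 14 (by norm_num)) (by simp [hne]),
    padicValNat.mul (hne 18 (by norm_num)) (by simp [hne]), padicValNat.mul (hne 20 (by norm_num)) (by simp [hne]),
    padicValNat.mul (hne 24 (by norm_num)) (hne 30 (by norm_num)),
    v 2 (by norm_num), v 8 (by norm_num), v 12 (by norm_num), v 14 (by norm_num), v 18 (by norm_num),
    v 20 (by norm_num), v 24 (by norm_num), v 30 (by norm_num)] at e
  rw [show (696729600 : ℕ) = 2 * (8 * (12 * (14 * (18 * (20 * (24 * 30)))))) from rfl,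
    padicValNat.mul (by norm_num) (by norm_num), padicValNat.mul (by norm_num) (by norm_num),
    padicValNat.mul (by norm_num) (by norm_num), padicValNat.mul (by norm_num) (by norm_num),
    padicValNat.mul (by norm_num) (by norm_num), padicValNat.mul (by norm_num) (by norm_num),
    padicValNat.mul (by norm_num) (by norm_num)]
  omega

theorem not_dvd_index_NS {l : ℕ} [Fact l.Prime] (h : l ∣ Fintype.card F - 1) (h2 : l ≠ 2) :
    ¬ l ∣ (chevRel certE8 F).NS.index := by
  haveI := (chevRel certE8 F).Finite_of_field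
  haveI : Finite (chevRel certE8 F).WQ := Finite.of_injective _ (chevRel certE8 F).qact_injective
  intro hd
  have e := val_prod_degrees F h h2
  rw [← Subgroup.relIndex_mul_index (chevRel certE8 F).HS_le_NS,
    show (chevRel certE8 F).HS.relIndex (chevRel certE8 F).NS = 696729600 from card_WQ_E8 (chevRel certE8 F),
    padicValNat.mul (by norm_num) Subgroup.index_ne_zero_of_finite] at e
  have h0 : padicValNat l (chevRel certE8 F).NS.index ≠ 0 := fun e0 => by
    rcases padicValNat.eq_zero_iff.1 e0 with h1 | h1 | h1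
    · exact (Fact.out : l.Prime).ne_one h1
    · exact Subgroup.index_ne_zero_of_finite h1
    · exact h1 hd
  omega

variable {F} {G : Type*} [Group G] (R : Rel chevE8 auxE8 F G)

/-- The torus has at most `l ^ 8` elements killed by `l`. -/
theorem card_HS_torsion8 (l : ℕ) [NeZero l] : Nat.card {t : ↥R.HS // t ^ l = 1} ≤ l ^ 8 := by
  classical
  letI := R.hsCommGroup
  haveI : Finite ↥R.HS := Finite.of_surjective R.torusHom R.torusHom_surjective
  refine le_trans (card_torsion_le l R.torusHom R.torusHom_surjective) ?_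
  refine (Nat.card_le_card_of_injective
    (fun c i => (⟨c.1 i, by rw [mem_rootsOfUnity]; exact congrFun (MonoidHom.mem_ker.1 c.2) i⟩ : rootsOfUnity l F))
    fun a b e => Subtype.ext (funext fun i => congrArg Subtype.val (congrFun e i))).trans ?_
  rw [Nat.card_fun, Nat.card_eq_fintype_card (α := Fin _), Fintype.card_fin]
  exact Nat.pow_le_pow_left (card_rootsOfUnity F l) 8

/-- A subgroup of prime power order is conjugate into the monomial group. -/
theorem exists_into_NS {l : ℕ} [Fact l.Prime] (h : l ∣ Fintype.card F - 1) (h3 : l = 3) {H : Type*} [Group H]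
    (ψ : H →* ↥(chevE8.group F)) (hψ : Function.Injective ψ) (hH : IsPGroup l H) :
    ∃ (g : ↥(chevE8.group F)) (φ : H →* ↥(chevRel certE8 F).NS), Function.Injective φ ∧
      ∀ x, (φ x : ↥(chevE8.group F)) = g * ψ x * g⁻¹ := by
  haveI : Finite ↥(chevE8.group F) := (chevRel certE8 F).Finite_of_field
  obtain ⟨g, hg⟩ := AltTorus.exists_conj_into (not_dvd_index_NS F h (by omega))
    (S := ψ.range) (hH.of_surjective ψ.rangeRestrict ψ.rangeRestrict_surjective)
  obtain ⟨φ, hφ⟩ : ∃ φ : H →* ↥(chevRel certE8 F).NS, ∀ x, (φ x : ↥(chevE8.group F)) = g * ψ x * g⁻¹ :=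
    ⟨((MulAut.conj g).toMonoidHom.comp ψ).codRestrict _ fun x => hg _ ⟨x, rfl⟩, fun _ => rfl⟩
  exact ⟨g, φ, fun a b e => hψ (by
    have := congrArg Subtype.val e
    rw [hφ, hφ, mul_left_inj, mul_right_inj] at this
    exact this), hφ⟩

end Index

theorem card_le_three {F : Type*} [Field F] {G : Type*} [Group G] (R : Rel chevE8 auxE8 F G) [Finite R.WQ]
    {l : ℕ} [Fact l.Prime] (hl : l = 3) {P : Subgroup R.WQ} (hP : IsPGroup l P) : Nat.card ↥P ≤ l ^ 5 := by
  subst hl
  obtain ⟨k, hk⟩ := IsPGroup.iff_card.1 hP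
  have hd : 3 ^ k ∣ 696729600 := hk ▸ card_WQ_E8 R ▸ Subgroup.card_subgroup_dvd_card P
  rw [hk]
  refine Nat.pow_le_pow_right (by norm_num) ?_
  by_contra hc
  exact absurd ((pow_dvd_pow 3 (by omega : 6 ≤ k)).trans hd) (by norm_num)

variable {F : Type*} [Field F] [Fintype F] {H : Type*} [Group H] [Finite H]

/-- Normal subgroups of prime power order are central. -/
theorem le_center_of_normal_pGroup {l : ℕ} [Fact l.Prime] (hl3 : l = 3) (h : l ∣ Fintype.card F - 1)
    {m : ℕ} {π : H →* alternatingGroup (Fin m)} (hπ : MinCover π) (hm : 18 ≤ m)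
    (ψ : H →* ↥(chevE8.group F)) (hψ : Function.Injective ψ) (Q : Subgroup H) (hQn : Q.Normal)
    (hQ : IsPGroup l Q) : Q ≤ Subgroup.center H := by
  classical
  obtain ⟨N, hN⟩ : ∃ N, N = Nat.card Q := ⟨_, rfl⟩
  induction N using Nat.strong_induction_on generalizing Q with
  | _ N ih =>
  subst hN
  haveI : Finite ↥(chevE8.group F) := (chevRel certE8 F).Finite_of_field
  haveI : Finite (chevRel certE8 F).WQ := Finite.of_injective _ (chevRel certE8 F).qact_injective
  have hl : l.Prime := Fact.out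
  have hsmall : ∀ Q' : Subgroup H, Q'.Normal → Q' < Q → Q' ≤ Subgroup.center H := fun Q' hn hlt =>
    ih _ (lt_of_le_of_ne (Subgroup.card_le_of_le hlt.le) fun e =>
      hlt.ne (Subgroup.eq_of_le_of_card_ge hlt.le e.ge)) Q' hn (hQ.to_le hlt.le) rfl
  by_contra hnc
  have hne : Q ≠ ⊥ := fun e => hnc (e ▸ bot_le)
  -- the Frattini subgroup
  obtain ⟨s, hs⟩ : ∃ s : Set H,
      s = {z | (∃ x ∈ Q, x ^ l = z) ∨ ∃ x ∈ Q, ∃ y ∈ Q, x * y * x⁻¹ * y⁻¹ = z} := ⟨_, rfl⟩
  obtain ⟨Q1, hQ1⟩ : ∃ Q1, Q1 = Subgroup.normalClosure s := ⟨_, rfl⟩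
  have hQ1n : Q1.Normal := hQ1 ▸ Subgroup.normalClosure_normal
  have hpow : ∀ x ∈ Q, x ^ l ∈ Q1 := fun x hx => hQ1 ▸ Subgroup.subset_normalClosure (hs ▸ Or.inl ⟨x, hx, rfl⟩)
  have hcomm : ∀ x ∈ Q, ∀ y ∈ Q, x * y * x⁻¹ * y⁻¹ ∈ Q1 := fun x hx y hy =>
    hQ1 ▸ Subgroup.subset_normalClosure (hs ▸ Or.inr ⟨x, hx, y, hy, rfl⟩)
  obtain ⟨M, hMn, hMidx⟩ : ∃ M : Subgroup ↥Q, M.Normal ∧ M.index = l := by
    obtain ⟨n, hn⟩ := IsPGroup.iff_card.1 hQ
    have hn0 : n ≠ 0 := fun e => hne (Subgroup.eq_bot_of_card_eq _ (by rw [hn, e, pow_zero]))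
    obtain ⟨M, hM⟩ := Sylow.exists_subgroup_card_pow_prime l (G := ↥Q) (n := n - 1)
      (hn ▸ pow_dvd_pow l (Nat.sub_le _ _))
    have hidx : M.index = l := by
      have e := M.card_mul_index
      rw [hM, hn, show l ^ n = l ^ (n - 1) * l by rw [← pow_succ, Nat.sub_add_cancel (Nat.pos_of_ne_zero hn0)]] at e
      exact Nat.eq_of_mul_eq_mul_left (pow_pos hl.pos _) e
    exact ⟨M, Subgroup.normal_of_index_eq_minFac_card (by rw [hidx, hn, hl.pow_minFac hn0]), hidx⟩
  have hQ1M : Q1 ≤ M.map Q.subtype := by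
    haveI := hMn
    have hcard : Nat.card (↥Q ⧸ M) = l := hMidx
    haveI : IsCyclic (↥Q ⧸ M) := isCyclic_of_prime_card hcard
    rw [hQ1, Subgroup.normalClosure, Subgroup.closure_le]
    intro z hz
    obtain ⟨a, ha, hconj⟩ := Group.mem_conjugatesOfSet_iff.1 hz
    obtain ⟨g, rfl⟩ := isConj_iff.1 hconj
    have hgQ : ∀ x ∈ Q, g * x * g⁻¹ ∈ Q := fun x hx => hQn.conj_mem x hx g
    rw [hs] at ha
    rcases ha with ⟨x, hx, rfl⟩ | ⟨x, hx, y, hy, rfl⟩
    · refine ⟨⟨g * x * g⁻¹, hgQ x hx⟩ ^ l, ?_, by simp [conj_pow]⟩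
      have := pow_card_eq_one' (G := ↥Q ⧸ M) (x := QuotientGroup.mk' M ⟨g * x * g⁻¹, hgQ x hx⟩)
      rw [hcard, ← map_pow, QuotientGroup.mk'_apply, QuotientGroup.eq_one_iff] at this
      exact this
    · obtain ⟨x', hx'⟩ : ∃ x' : ↥Q, x' = ⟨g * x * g⁻¹, hgQ x hx⟩ := ⟨_, rfl⟩
      obtain ⟨y', hy'⟩ : ∃ y' : ↥Q, y' = ⟨g * y * g⁻¹, hgQ y hy⟩ := ⟨_, rfl⟩
      refine ⟨x' * y' * x'⁻¹ * y'⁻¹, ?_, ?_⟩
      · rw [SetLike.mem_coe, ← QuotientGroup.eq_one_iff, ← QuotientGroup.mk'_apply, map_mul, map_mul, map_mul, map_inv,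
          map_inv]
        letI : CommGroup (↥Q ⧸ M) := IsCyclic.commGroup
        rw [mul_right_comm, mul_inv_cancel_right, mul_inv_cancel]
      · simp [hx', hy', mul_assoc]
  have hQ1Q : Q1 < Q := by
    refine lt_of_le_of_ne (hQ1M.trans (Subgroup.map_subtype_le _)) fun e => ?_
    have hMtop : M = ⊤ := eq_top_iff.2 fun x _ => by
      obtain ⟨y, hy, e'⟩ := hQ1M (by rw [e]; exact x.2)
      rwa [show x = y from Subtype.ext e'.symm]
    rw [hMtop, Subgroup.index_top] at hMidx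
    exact hl.ne_one hMidx.symm
  have hQ1c : Q1 ≤ Subgroup.center H := hsmall Q1 hQ1n hQ1Q
  have hbig := hπ.section_bound (l := l) hQn hQ1n hQ1Q.le hQ1c hpow hcomm hnc
  -- inside the monomial group
  obtain ⟨-, φ, hφi, -⟩ := exists_into_NS h hl3 (ψ.comp Q.subtype) (hψ.comp Q.subtype_injective) hQ
  obtain ⟨f, hf⟩ : ∃ f : ↥Q →* (chevRel certE8 F).WQ, f = (chevRel certE8 F).qmk.comp φ := ⟨_, rfl⟩
  obtain ⟨A, hA⟩ : ∃ A : Subgroup ↥Q, A = f.ker := ⟨_, rfl⟩
  obtain ⟨Q1', hQ1'⟩ : ∃ Q1' : Subgroup ↥Q, Q1' = Q1.subgroupOf Q := ⟨_, rfl⟩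
  haveI : Q1'.Normal := hQ1' ▸ hQ1n.subgroupOf Q
  have hidx : Q1.relIndex Q = Q1'.relIndex A * (A ⊔ Q1').index := by
    rw [show Q1'.relIndex A = Q1'.relIndex (A ⊔ Q1') from (Subgroup.relIndex_sup_right _ _).symm,
      Subgroup.relIndex_mul_index le_sup_right, hQ1']; rfl
  have hAHS : ∀ a : ↥Q, a ∈ A → (φ a : ↥(chevE8.group F)) ∈ (chevRel certE8 F).HS := fun a ha => by
    rw [hA, MonoidHom.mem_ker, hf] at ha
    exact (chevRel certE8 F).qmk_eq_one.1 ha
  have hAcomm : ∀ a b : ↥Q, a ∈ A → b ∈ A → a * b = b * a := fun a b ha hb => hφi (Subtype.ext (by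
    rw [map_mul, map_mul, Subgroup.coe_mul, Subgroup.coe_mul]
    exact (chevRel certE8 F).HS_isMulCommutative (hAHS a ha) (hAHS b hb)))
  -- the part in the torus
  haveI : NeZero l := ⟨hl.ne_zero⟩
  have hα : Q1'.relIndex A ≤ Nat.card {t : ↥A // t ^ l = 1} := by
    letI : CommGroup ↥A :=
      { (inferInstance : Group ↥A) with mul_comm := fun a b => Subtype.ext (hAcomm a b a.2 b.2) }
    have e : Nat.card {t : ↥A // t ^ l = 1} = Nat.card (powMonoidHom l : ↥A →* ↥A).ker := rfl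
    rw [e, card_ker_pow]
    refine Nat.le_of_dvd (Nat.pos_of_ne_zero Subgroup.index_ne_zero_of_finite)
      (Subgroup.index_dvd_of_le (K := Q1'.subgroupOf A) ?_)
    rintro _ ⟨a, rfl⟩
    rw [Subgroup.mem_subgroupOf, hQ1', Subgroup.mem_subgroupOf]
    exact hpow _ (a : ↥Q).2
  obtain ⟨j, hj⟩ : ∃ j : {t : ↥A // t ^ l = 1} → {t : ↥(chevRel certE8 F).HS // t ^ l = 1},
      ∀ t, ((j t).1 : ↥(chevE8.group F)) = φ (t.1 : ↥Q) :=
    ⟨fun t => ⟨⟨φ (t.1 : ↥Q), hAHS _ t.1.2⟩, Subtype.ext (by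
      rw [Subgroup.coe_pow]
      show ((φ (t.1 : ↥Q)) : ↥(chevE8.group F)) ^ l = 1
      rw [← Subgroup.coe_pow, ← map_pow, ← Subgroup.coe_pow, t.2, OneMemClass.coe_one, map_one,
        OneMemClass.coe_one])⟩, fun _ => rfl⟩
  have hji : Function.Injective j := fun a b e => Subtype.ext (Subtype.ext (hφi (Subtype.ext (by
    rw [← hj, ← hj, e]))))
  haveI : Finite {t : ↥(chevRel certE8 F).HS // t ^ l = 1} := Subtype.finite
  have hT := Nat.card_le_card_of_injective j hji
  have hT8 := card_HS_torsion8 (chevRel certE8 F) l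
  -- the part in the Weyl group
  obtain ⟨Rs, hRs⟩ : ∃ Rs : Subgroup ↥f.range, Rs = Q1'.map f.rangeRestrict := ⟨_, rfl⟩
  have hβ : (A ⊔ Q1').index = Rs.index := by
    rw [hRs, Subgroup.index_map, MonoidHom.ker_rangeRestrict,
      MonoidHom.range_eq_top.2 f.rangeRestrict_surjective, Subgroup.index_top, mul_one, sup_comm, hA]
  have hP : IsPGroup l f.range := hQ.of_surjective f.rangeRestrict f.rangeRestrict_surjective
  have hRpow : ∀ x : ↥f.range, x ^ l ∈ Rs := fun x => by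
    obtain ⟨y, rfl⟩ := f.rangeRestrict_surjective x
    rw [← map_pow, hRs]
    exact Subgroup.mem_map_of_mem _ (by rw [hQ1', Subgroup.mem_subgroupOf]; exact hpow _ y.2)
  rw [hidx] at hbig
  have hb : Rs.index ≤ l ^ 5 := (Nat.le_of_dvd Nat.card_pos Rs.index_dvd_card).trans (card_le_three (chevRel certE8 F) hl3 hP)
  have h1 := hbig.trans (Nat.mul_le_mul ((hα.trans hT).trans hT8) (hβ ▸ hb))
  rw [← pow_add] at h1
  have := (Nat.pow_le_pow_iff_right hl.one_lt).1 h1
  omega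

/-- A kernel without a central part of order prime to two for the alternating group of degree eighteen. -/
theorem ker_trivial {π : H →* alternatingGroup (Fin 18)} (hπ : MinCover π)
    (hcen : ∀ Q : Subgroup H, Q.Normal → IsPGroup 3 Q → Q ≤ Subgroup.center H) :
    ∀ x ∈ π.ker, ∀ j : ℕ, x ^ (3 ^ j) = 1 → x = 1 := by
  classical
  haveI : Fact (Nat.Prime 3) := ⟨Nat.prime_three⟩
  obtain ⟨P⟩ : Nonempty (Sylow 3 π.ker) := inferInstance
  obtain ⟨Z, hZ⟩ : ∃ Z, Z = (P : Subgroup π.ker).map π.ker.subtype := ⟨_, rfl⟩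
  have hZc : Z ≤ Subgroup.center H := by
    subst hZ
    refine hcen _ (Subgroup.normalizer_eq_top_iff.1 (hπ.min _ ?_)) (P.2.map _)
    have h1 := congrArg (Subgroup.map π) (Sylow.normalizer_sup_eq_top P)
    rwa [Subgroup.map_sup, (Subgroup.map_eq_bot_iff π.ker).mpr le_rfl, sup_bot_eq, ← MonoidHom.range_eq_map,
      MonoidHom.range_eq_top.mpr hπ.surj] at h1
  have hPc : ∀ z ∈ (P : Subgroup π.ker), (z : H) ∈ Subgroup.center H := fun z hz => hZc (hZ ▸ ⟨z, hz, rfl⟩)
  have hPk : ∀ z ∈ (P : Subgroup π.ker), ∀ g : π.ker, g * z = z * g := fun z hz g => Subtype.ext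
    (Subgroup.mem_center_iff.1 (hPc z hz) g)
  letI : CommGroup ↥(P : Subgroup π.ker) :=
    { (inferInstance : Group ↥(P : Subgroup π.ker)) with mul_comm := fun a b => Subtype.ext (hPk b b.2 a) }
  obtain ⟨f, hf⟩ : ∃ f : π.ker →* ↥(P : Subgroup π.ker), f = MonoidHom.transfer (MonoidHom.id _) := ⟨_, rfl⟩
  have hfP : ∀ z ∈ (P : Subgroup π.ker), f z = 1 → z = 1 := by
    intro z hz h
    rw [hf, MonoidHom.transfer_eq_pow _ _ fun k g _ => by
      rw [mul_assoc, ← hPk _ (pow_mem hz k) g, inv_mul_cancel_left]] at h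
    have h1 : z ^ (P : Subgroup π.ker).index = 1 := congrArg Subtype.val h
    obtain ⟨j, hj⟩ := P.2 ⟨z, hz⟩
    have h2 : z ^ (3 ^ j) = 1 := by simpa [Subtype.ext_iff] using hj
    refine orderOf_eq_one_iff.1 (Nat.eq_one_of_dvd_coprimes ?_ (orderOf_dvd_of_pow_eq_one h2)
      (orderOf_dvd_of_pow_eq_one h1))
    exact Nat.Coprime.pow_left _ (Nat.prime_three.coprime_iff_not_dvd.2 P.not_dvd_index)
  obtain ⟨N, hN⟩ : ∃ N : Subgroup H,
      N = Subgroup.closure {x | x ∈ π.ker ∧ ¬ 3 ∣ orderOf x} := ⟨_, rfl⟩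
  have hNK : N ≤ π.ker := hN ▸ (Subgroup.closure_le _).2 fun x hx => hx.1
  haveI hNn : N.Normal := by
    rw [hN]
    refine ⟨fun x hx g => ?_⟩
    induction hx using Subgroup.closure_induction with
    | mem z hz =>
      refine Subgroup.subset_closure ⟨(inferInstance : π.ker.Normal).conj_mem z hz.1 g, ?_⟩
      rw [← MulAut.conj_apply, MulEquiv.orderOf_eq]
      exact hz.2
    | one => simp
    | mul u w _ _ hu hw => simpa [mul_assoc] using mul_mem hu hw
    | inv u _ hu => simpa [mul_assoc] using inv_mem hu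
  have hNf : N.subgroupOf π.ker ≤ f.ker := by
    rintro ⟨x, hxK⟩ hx
    suffices key : ∀ y ∈ N, ∀ hy : y ∈ π.ker, f ⟨y, hy⟩ = 1 from key x hx hxK
    clear hx hxK x
    intro y hy
    rw [hN] at hy
    induction hy using Subgroup.closure_induction with
    | mem z hz =>
      intro hzK
      obtain ⟨j, hj⟩ := P.2 (f ⟨z, hzK⟩)
      refine orderOf_eq_one_iff.1 (Nat.eq_one_of_dvd_coprimes
        (Nat.Coprime.pow_left j (Nat.prime_three.coprime_iff_not_dvd.2 hz.2))
        (orderOf_dvd_of_pow_eq_one hj) ((orderOf_map_dvd f _).trans (dvd_of_eq ?_)))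
      exact Subgroup.orderOf_mk _ _
    | one => intro h; exact map_one f
    | mul u w hu hw ihu ihw =>
      intro h
      have hu' : u ∈ π.ker := hNK (hN ▸ hu)
      have hw' : w ∈ π.ker := hNK (hN ▸ hw)
      rw [show (⟨u * w, h⟩ : π.ker) = ⟨u, hu'⟩ * ⟨w, hw'⟩ from rfl, map_mul, ihu hu', ihw hw', mul_one]
    | inv u hu ihu =>
      intro h
      have hu' : u ∈ π.ker := hNK (hN ▸ hu)
      rw [show (⟨u⁻¹, h⟩ : π.ker) = ⟨u, hu'⟩⁻¹ from rfl, map_inv, ihu hu', inv_one]
  obtain ⟨τ, hτ⟩ : ∃ τ : H ⧸ N →* alternatingGroup (Fin 18), τ = QuotientGroup.lift N π hNK := ⟨_, rfl⟩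
  have hτs : Function.Surjective τ := fun a => by
    obtain ⟨x, rfl⟩ := hπ.surj a
    exact ⟨x, by rw [hτ]; rfl⟩
  have hbd : Nat.card τ.ker ≤ 2 := by
    refine CfsgLib.Char.Exceptional.AltMultiplier.bound 18 (by norm_num) (by norm_num) (by norm_num) τ hτs ?_ ?_
    · intro q hq
      obtain ⟨x, rfl⟩ := QuotientGroup.mk'_surjective N q
      have hx : x ∈ π.ker := MonoidHom.mem_ker.2 (by rw [hτ, MonoidHom.mem_ker] at hq; exact hq)
      -- split off the central part
      obtain ⟨o, ho⟩ : ∃ o, o = orderOf x := ⟨_, rfl⟩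
      obtain ⟨e, he⟩ : ∃ e, e = o.factorization 3 := ⟨_, rfl⟩
      obtain ⟨d, hd⟩ : ∃ d, d = o / 3 ^ e := ⟨_, rfl⟩
      have ho0 : o ≠ 0 := ho ▸ (orderOf_pos x).ne'
      have hmul : 3 ^ e * d = o := by rw [hd, he]; exact Nat.ordProj_mul_ordCompl_eq_self o 3
      have hd3 : ¬ 3 ∣ d := by rw [hd, he]; exact Nat.not_dvd_ordCompl Nat.prime_three ho0
      have hd0 : d ≠ 0 := fun h => hd3 (h ▸ dvd_zero 3)
      obtain ⟨c, hc⟩ := Nat.chineseRemainder
        (Nat.Coprime.pow_left e (Nat.prime_three.coprime_iff_not_dvd.2 hd3)) 1 0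
      have hdc : d ∣ c := Nat.modEq_zero_iff_dvd.1 hc.2
      have hy : x ^ c ∈ Subgroup.center H := by
        have hp : IsPGroup 3 (Subgroup.zpowers (⟨x, hx⟩ ^ c : π.ker)) := by
          rintro ⟨z, m, rfl⟩
          refine ⟨e, Subtype.ext ?_⟩
          show ((⟨x, hx⟩ ^ c : π.ker) ^ m) ^ (3 ^ e) = 1
          rw [← zpow_natCast, ← zpow_mul, mul_comm, zpow_mul, zpow_natCast, ← pow_mul]
          have : o ∣ c * 3 ^ e := by
            rw [← hmul, mul_comm c]; exact Nat.mul_dvd_mul_left _ hdc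
          rw [show (⟨x, hx⟩ : π.ker) ^ (c * 3 ^ e) = 1 from orderOf_dvd_iff_pow_eq_one.1
            (by rw [Subgroup.orderOf_mk, ← ho]; exact this), one_zpow]
        obtain ⟨P', hP'⟩ := hp.exists_le_sylow
        obtain ⟨g, hg⟩ := MulAction.exists_smul_eq π.ker P P'
        have hmem := hP' (Subgroup.mem_zpowers _)
        rw [← hg, Sylow.coe_subgroup_smul, Subgroup.mem_pointwise_smul_iff_inv_smul_mem] at hmem
        have h' := hPc _ hmem
        simp only [MulAut.smul_def, MulAut.conj_inv_apply, Subgroup.coe_mul, Subgroup.coe_inv, Subgroup.coe_pow] at h'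
        have := (inferInstance : (Subgroup.center H).Normal).conj_mem _ h' (g : H)
        simpa [mul_assoc] using this
      have hxN : (x ^ c)⁻¹ * x ∈ N := by
        rw [hN]
        refine Subgroup.subset_closure ⟨mul_mem (inv_mem (pow_mem hx c)) hx, fun h3 => ?_⟩
        have hpow : ((x ^ c)⁻¹ * x) ^ d = 1 := by
          rw [((Commute.self_pow x c).symm.inv_left).mul_pow, inv_pow, ← pow_mul, inv_mul_eq_one,
            pow_eq_pow_iff_modEq, ← ho, ← hmul]
          refine ((Nat.modEq_and_modEq_iff_modEq_mul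
            (Nat.Coprime.pow_left e (Nat.prime_three.coprime_iff_not_dvd.2 hd3))).1 ⟨?_, ?_⟩)
          · simpa using hc.1.mul_right d
          · exact (Nat.modEq_zero_iff_dvd.2 (dvd_mul_of_dvd_left hdc d)).trans
              (Nat.modEq_zero_iff_dvd.2 dvd_rfl).symm
        exact hd3 (h3.trans (orderOf_dvd_of_pow_eq_one hpow))
      have e1 : QuotientGroup.mk' N x = QuotientGroup.mk' N (x ^ c) := ((QuotientGroup.eq).2 hxN).symm
      rw [e1]
      refine Subgroup.mem_center_iff.2 fun g => ?_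
      obtain ⟨g, rfl⟩ := QuotientGroup.mk'_surjective N g
      rw [← map_mul, ← map_mul, Subgroup.mem_center_iff.1 hy g]
    · have e : commutator (H ⧸ N) = ⊤ := by
        rw [commutator_def, ← Subgroup.map_top_of_surjective _ (QuotientGroup.mk'_surjective N),
          ← Subgroup.map_commutator, ← commutator_def, hπ.perfect]
      rw [e]; exact le_top
  intro x hx j hj
  obtain ⟨q, hq⟩ : ∃ q : τ.ker, (q : H ⧸ N) = QuotientGroup.mk' N x :=
    ⟨⟨QuotientGroup.mk' N x, MonoidHom.mem_ker.2 (by rw [hτ]; exact MonoidHom.mem_ker.1 hx)⟩, rfl⟩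
  have h1 : orderOf q ∣ 3 ^ j := orderOf_dvd_of_pow_eq_one (Subtype.ext (by
    rw [Subgroup.coe_pow, hq, ← map_pow, hj, map_one]; rfl))
  have hcop : Nat.Coprime (3 ^ j) (Nat.card τ.ker) := Nat.Coprime.pow_left _
    (Nat.prime_three.coprime_iff_not_dvd.2 fun hd => by
      have := Nat.le_of_dvd Nat.card_pos hd; omega)
  have h3 := congrArg Subtype.val (orderOf_eq_one_iff.1 (Nat.eq_one_of_dvd_coprimes hcop h1 (orderOf_dvd_natCard q)))
  rw [hq] at h3
  have hxN : x ∈ N := (QuotientGroup.eq_one_iff x).1 h3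
  obtain ⟨P', hP'⟩ : ∃ P' : Sylow 3 π.ker, (⟨x, hx⟩ : π.ker) ∈ (P' : Subgroup π.ker) := by
    have hp : IsPGroup 3 (Subgroup.zpowers (⟨x, hx⟩ : π.ker)) := by
      rintro ⟨z, m, rfl⟩
      refine ⟨j, Subtype.ext (Subtype.ext ?_)⟩
      show (x ^ m) ^ (3 ^ j) = 1
      rw [← zpow_natCast, ← zpow_mul, mul_comm, zpow_mul, zpow_natCast, hj, one_zpow]
    obtain ⟨P', hP'⟩ := hp.exists_le_sylow
    exact ⟨P', hP' (Subgroup.mem_zpowers _)⟩
  obtain ⟨g, hg⟩ := MulAction.exists_smul_eq π.ker P P'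
  rw [← hg, Sylow.coe_subgroup_smul, Subgroup.mem_pointwise_smul_iff_inv_smul_mem] at hP'
  simp only [MulAut.smul_def, MulAut.conj_inv_apply] at hP'
  have hfx : f (g⁻¹ * ⟨x, hx⟩ * g) = 1 := by
    have : f (⟨x, hx⟩ : π.ker) = 1 := MonoidHom.mem_ker.1 (hNf (Subgroup.mem_subgroupOf.2 hxN))
    rw [map_mul, map_mul, this, mul_one, ← map_mul, inv_mul_cancel, map_one]
  have h4 : g⁻¹ * (⟨x, hx⟩ : π.ker) * g = 1 := hfP _ hP' hfx
  have h5 : (⟨x, hx⟩ : π.ker) = 1 := by
    have := congrArg (fun w => g * w * g⁻¹) h4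
    simpa [mul_assoc] using this
  exact congrArg Subtype.val h5

end CfsgLib.Known.AltE8
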