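import Cfsg.Agent.Lib.Known.AltE8.FrameFixed
import Cfsg.Agent.Lib.Known.AltE8.Kernel
import Cfsg.Agent.Lib.Known.AltTorus.Sections
import Cfsg.Agent.Lib.Known.AltE7.Elements

/-!
# No element of order seventeen with a sixteen-fold automorphism inside groups of type E8
-/

set_option autoImplicit false
set_option maxRecDepth 20000
set_option maxHeartbeats 1000000

namespace CfsgLib.Known.AltE8

open Cfsg.Lie (chevE8)
open CfsgLib.Lie.Chev
open CfsgLib.Known.CyclicTorus (cE8 vE8 bE8 cvec wMat vecMul_wMat cvec_sroot bil_invariant bilE8 wMat_pow wMat_one)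
open CfsgLib.Known.AltTorus (NoEigen key keyMat_key)
open CfsgLib.Known.AltE7 (alt)
open scoped Matrix

theorem evZ_iff (c : Fin 8 → Fin 2) (x : Fin 8 → ℤ) : evZ c x = true ↔ (par c x : ZMod 2) = 0 := by
  rw [evZ, beq_iff_eq, ZMod.intCast_zmod_eq_zero_iff_dvd, Nat.cast_ofNat, Int.dvd_iff_emod_eq_zero]

/-- The action of a matrix on the functionals modulo two. -/
def actM (M : Matrix (Fin 8) (Fin 8) ℤ) (c : Fin 8 → Fin 2) : Fin 8 → Fin 2 := fun i => if evZ c (M i) then 0 else 1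

theorem evZ_actM (M : Matrix (Fin 8) (Fin 8) ℤ) (c : Fin 8 → Fin 2) (x : Fin 8 → ℤ) :
    evZ (actM M c) x = evZ c (x ᵥ* M) := by
  have h : ∀ i, (((actM M c i : Fin 2) : ℕ) : ZMod 2) = (par c (M i) : ZMod 2) := fun i => by
    unfold actM
    split
    · next e => rw [(evZ_iff _ _).1 e]; rfl
    · next e =>
      have h1 : ∀ z : ZMod 2, z ≠ 0 → z = 1 := by decide
      rw [h1 _ fun e' => e ((evZ_iff _ _).2 e')]
      rfl
  have h2 : par c (x ᵥ* M) = x 0 * par c (M 0) + x 1 * par c (M 1) + x 2 * par c (M 2) + x 3 * par c (M 3) +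
      x 4 * par c (M 4) + x 5 * par c (M 5) + x 6 * par c (M 6) + x 7 * par c (M 7) := by
    simp only [par, Matrix.vecMul, dotProduct, Fin.sum_univ_eight]
    ring
  rw [Bool.eq_iff_iff, evZ_iff, evZ_iff, h2]
  simp only [par, Int.cast_add, Int.cast_mul, Int.cast_natCast, h]

theorem actM_mul (M N : Matrix (Fin 8) (Fin 8) ℤ) (c : Fin 8 → Fin 2) : actM (M * N) c = actM M (actM N c) :=
  funext fun i => by
    show (if evZ c ((M * N) i) = true then (0 : Fin 2) else 1) = if evZ (actM N c) (M i) = true then 0 else 1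
    rw [evZ_actM]
    rfl

theorem actM_one : ∀ c : Fin 8 → Fin 2, actM 1 c = c := by decide +kernel

theorem eq_ite_evZ : ∀ (c : Fin 8 → Fin 2) (i : Fin 8), c i = if evZ c (Pi.single i 1) then 0 else 1 := by
  decide +kernel

theorem three_six : (3 : ZMod 17) * 6 = 1 ∧ (6 : ZMod 17) ^ 8 = -1 := by decide +kernel

theorem val17_vecMul (v : Fin 8 → ZMod 17) (M : Matrix (Fin 8) (Fin 8) ℤ) (x : Fin 8 → ℤ) :
    val17 v (x ᵥ* M) = val17 (fun i => val17 v (M i)) x := by
  simp only [val17, Matrix.vecMul, dotProduct, Int.cast_sum, Int.cast_mul, Finset.sum_mul, Finset.mul_sum, mul_assoc]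
  exact Finset.sum_comm

theorem val17_single (v : Fin 8 → ZMod 17) (i : Fin 8) : val17 v (Pi.single i 1) = v i := by
  simp [val17, Pi.single_apply]

variable {F : Type*} [Field F] {G : Type*} [Group G] (R : Rel chevE8 auxE8 F G)

/-- The permutation of the roots. -/
noncomputable def pm : R.NS →* Equiv.Perm (Fin 240) := R.nsPerm

/-- The matrix of an element. -/
noncomputable def mat8 (g : R.NS) : Matrix (Fin 8) (Fin 8) ℤ := wMat R (R.nsPerm g)

/-- The simple roots. -/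
def sr (i : Fin 8) : Fin 240 := R.sroot i

theorem mat8_root (g : R.NS) (r : Fin 240) : cE8 r ᵥ* mat8 R g = cE8 (pm R g r) :=
  vecMul_wMat R (R.isLin_nsPerm g) r

theorem mat8_inv (g : R.NS) : mat8 R g * bE8 * (mat8 R g)ᵀ = bE8 := bil_invariant R bilE8 g

theorem mat8_apply (g : R.NS) (i : Fin 8) : mat8 R g i = cE8 (pm R g (sr R i)) := rfl

theorem mat8_pow_eq_one (g : R.NS) {k : ℕ} (h : pm R g ^ k = 1) : mat8 R g ^ k = 1 :=
  (wMat_pow R (R.isLin_nsPerm g) k).symm.trans ((congrArg (wMat R) h).trans (wMat_one R))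

theorem cE8_sr (i : Fin 8) : cE8 (sr R i) = Pi.single i 1 := cvec_sroot R i

theorem pm_word (l : List (Fin 8)) (r : Fin 240) :
    (pm R (l.map (fun j : Fin 8 => R.nS j)).prod r : ℕ) = wordAct auxE8 (l.map fun j : Fin 8 => (j : ℕ)) r := by
  induction l with
  | nil => rw [List.map_nil, List.prod_nil, map_one]; rfl
  | cons k l ih =>
    have e : pm R (R.nS k) = R.wperm k := R.nsPerm_nS k
    rw [List.map_cons, List.prod_cons, map_mul, Equiv.Perm.mul_apply, e]
    show auxE8.w (k : ℕ) _ = _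
    rw [ih]
    rfl

/-- No element of the Weyl group multiplies a vector modulo seventeen by six. -/
theorem no_eigen (g : R.NS) (v : Fin 8 → ZMod 17)
    (hv : ∀ r : Fin 240, val17 v (cE8 (pm R g r)) = 6 * val17 v (cE8 r)) : v = 0 := by
  classical
  obtain ⟨π, hπ⟩ : ∃ π : Equiv.Perm (Fin 240), π = pm R g := ⟨_, rfl⟩
  obtain ⟨a, m, hm2, ho⟩ := Nat.exists_eq_pow_mul_and_not_dvd (orderOf_pos π).ne' 2 (by norm_num)
  have hmodd : Odd m := Nat.odd_iff.2 (by omega)
  have hvp : ∀ j : ℕ, ∀ r, val17 v (cE8 ((π ^ j) r)) = 6 ^ j * val17 v (cE8 r) := by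
    intro j
    induction j with
    | zero => intro r; simp
    | succ j ih =>
      intro r
      rw [pow_succ', Equiv.Perm.mul_apply, hπ, hv, ← hπ, ih, ← mul_assoc, ← pow_succ']
  obtain ⟨τ, hτ⟩ : ∃ τ, τ = pm R (g ^ m) := ⟨_, rfl⟩
  have hτπ : τ = π ^ m := by rw [hτ, map_pow, hπ]
  have hτ2 : τ ^ (2 ^ a) = 1 := by rw [hτπ, ← pow_mul, mul_comm, ← ho, pow_orderOf_eq_one]
  obtain ⟨M, hM⟩ : ∃ M, M = mat8 R (g ^ m) := ⟨_, rfl⟩
  have hMr : ∀ r, cE8 r ᵥ* M = cE8 (pm R (g ^ m) r) := fun r => hM ▸ mat8_root R _ r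
  have hM2 : M ^ (2 ^ a) = 1 := by
    rw [hM]
    exact mat8_pow_eq_one R _ (hτ ▸ hτ2)
  -- a fixed class
  have hcnt : ∀ c, cnt2 (actM M c) = cnt2 c := by
    intro c
    have e : ∀ d, cnt2 d = (Finset.univ.filter fun r : Fin 240 => evZ d (cE8 r) = true).card := fun d => by
      rw [cnt2, List.countP_eq_length_filter, ← List.toFinset_card_of_nodup ((List.nodup_finRange 240).filter _)]
      congr 1
      ext
      simp
    rw [e, e]
    refine Finset.card_bij (fun r _ => τ r) (fun r hr => ?_) (fun r _ s _ h => τ.injective h) fun r hr => ?_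
    · simp only [Finset.mem_filter, Finset.mem_univ, true_and] at hr ⊢
      rwa [evZ_actM, hMr, ← hτ] at hr
    · obtain ⟨s, rfl⟩ := τ.surjective r
      refine ⟨s, ?_, rfl⟩
      simp only [Finset.mem_filter, Finset.mem_univ, true_and] at hr ⊢
      rwa [evZ_actM, hMr, ← hτ]
  have hpow1 : 1 ≤ 2 ^ a := Nat.one_le_two_pow
  obtain ⟨p, hp⟩ : ∃ p : Equiv.Perm {c : Fin 8 → Fin 2 // cnt2 c = 112}, ∀ c, (p c).1 = actM M c.1 := by
    refine ⟨Equiv.ofBijective (fun c => ⟨actM M c.1, (hcnt _).trans c.2⟩) (Finite.injective_iff_bijective.1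
      fun c d h => Subtype.ext ?_), fun _ => rfl⟩
    have h1 := congrArg (actM (M ^ (2 ^ a - 1))) (congrArg Subtype.val h)
    rwa [← actM_mul, ← actM_mul, ← pow_succ, Nat.sub_add_cancel hpow1, hM2, actM_one, actM_one] at h1
  have hpk : ∀ k : ℕ, ∀ c, ((p ^ k) c).1 = actM (M ^ k) c.1 := by
    intro k
    induction k with
    | zero => intro c; rw [pow_zero, pow_zero, actM_one]; rfl
    | succ k ih => intro c; rw [pow_succ', Equiv.Perm.mul_apply, hp, ih, pow_succ', actM_mul]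
  haveI : Fact (Nat.Prime 2) := ⟨Nat.prime_two⟩
  obtain ⟨c, hc⟩ := Equiv.Perm.exists_fixed_point_of_prime (p := 2) (n := a)
    (by rw [Fintype.card_subtype, classes_card]; norm_num) (σ := p)
    (Equiv.ext fun c => Subtype.ext (by rw [hpk, hM2, actM_one]; rfl))
  have hfix : ∀ r, evZ c.1 (cE8 (τ r)) = evZ c.1 (cE8 r) := fun r => by
    rw [hτ, ← hMr, ← evZ_actM, ← hp, hc]
  -- move it to the base class
  obtain ⟨w, -, hw⟩ := classes_word c.1 c.2
  obtain ⟨n, hn⟩ : ∃ n : R.NS, n = (w.map fun j : Fin 8 => R.nS j).prod := ⟨_, rfl⟩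
  obtain ⟨N, hN⟩ : ∃ N, N = mat8 R n := ⟨_, rfl⟩
  have hNr : ∀ r, cE8 r ᵥ* N = cE8 (pm R n r) := fun r => hN ▸ mat8_root R _ r
  have hNc : actM N c.1 = c17 := funext fun i => by
    rw [eq_ite_evZ c17 i, actM, hN, mat8_apply, ← cE8_sr R i]
    exact congrArg (fun b : Bool => if b = true then (0 : Fin 2) else 1) (by
      show evZ c.1 (vE8 (pm R n (sr R i) : ℕ)) = _
      rw [hn, pm_word]
      exact hw i)
  obtain ⟨g', hg'⟩ : ∃ g' : R.NS, g' = n⁻¹ * g ^ m * n := ⟨_, rfl⟩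
  have hng : ∀ r, pm R n (pm R g' r) = τ (pm R n r) := fun r => by
    rw [hτ, ← Equiv.Perm.mul_apply, ← Equiv.Perm.mul_apply, ← map_mul, ← map_mul, hg']
    congr 2
    group
  have hzero := frame_fixed (pm R g') (mat8 R g') (mat8_root R g') (mat8_inv R g') (fun r => by
      rw [← hNc, evZ_actM, evZ_actM, hNr, hNr, hng, hfix])
    (fun i => val17 v (N i)) (c := 6 ^ m)
    (by rw [← pow_mul, mul_comm, pow_mul, three_six.2, hmodd.neg_one_pow])
    fun r => by rw [← val17_vecMul, ← val17_vecMul, hNr, hNr, hng, hτπ, hvp]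
  funext i
  obtain ⟨r, hr⟩ := (pm R n).surjective (sr R i)
  have h1 : val17 v (cE8 (pm R n r)) = 0 := by
    rw [← hNr, val17_vecMul, hzero]; simp [val17]
  rwa [hr, cE8_sr R i, val17_single] at h1

theorem noEigen_seventeen (g : R.NS) : NoEigen chevE8 auxE8 17 3 (key R (R.nsPerm g)) := by
  classical
  intro h
  rw [keyMat_key] at h
  obtain ⟨M, hM⟩ : ∃ M, M = mat8 R g := ⟨_, rfl⟩
  have h' : (17 : ℤ) ∣ ((3 : ℤ) • M - 1).det := by rw [hM]; exact h
  haveI : Fact (Nat.Prime 17) := ⟨by norm_num⟩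
  have h1 : (((3 : ℤ) • M - 1).map (Int.castRingHom (ZMod 17))).det = 0 := by
    rw [← RingHom.mapMatrix_apply, ← RingHom.map_det]
    exact (ZMod.intCast_zmod_eq_zero_iff_dvd _ 17).2 h'
  obtain ⟨v, hv0, hv⟩ := Matrix.exists_mulVec_eq_zero_iff.2 h1
  refine hv0 (no_eigen R g v fun r => ?_)
  rw [← mat8_root, ← hM, val17_vecMul]
  have h2 : ∀ i, val17 v (M i) = 6 * v i := fun i => by
    have e := congrFun hv i
    simp only [Matrix.mulVec, dotProduct, Matrix.map_apply, Matrix.sub_apply, Matrix.smul_apply, smul_eq_mul, map_sub,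
      map_mul, sub_mul, Finset.sum_sub_distrib, mul_assoc, ← Finset.mul_sum, Pi.zero_apply, sub_eq_zero] at e
    simp [Matrix.one_apply] at e
    unfold val17
    calc ∑ j, (M i j : ZMod 17) * v j = (3 * 6) * ∑ j, (M i j : ZMod 17) * v j := by rw [three_six.1, one_mul]
      _ = 6 * v i := by rw [mul_comm (3 : ZMod 17), mul_assoc, e]
  simp only [h2]
  simp only [val17, Finset.mul_sum, mul_left_comm]

/-- The seventeen cycle. -/
def cyc17 : alternatingGroup (Fin 19) :=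
  alt ⟨![1, 2, 3, 4, 5, 6, 7, 8, 9, 10, 11, 12, 13, 14, 15, 16, 0, 17, 18],
    ![16, 0, 1, 2, 3, 4, 5, 6, 7, 8, 9, 10, 11, 12, 13, 14, 15, 17, 18], by decide +kernel, by decide +kernel⟩
    (by decide +kernel)

/-- An element cubing the seventeen cycle. -/
def aut17 : alternatingGroup (Fin 19) :=
  alt ⟨![0, 3, 6, 9, 12, 15, 1, 4, 7, 10, 13, 16, 2, 5, 8, 11, 14, 18, 17],
    ![0, 6, 12, 1, 7, 13, 2, 8, 14, 3, 9, 15, 4, 10, 16, 5, 11, 18, 17], by decide +kernel, by decide +kernel⟩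
    (by decide +kernel)

theorem cyc17_ok : cyc17 ^ 17 = 1 ∧ cyc17 ≠ 1 ∧ aut17 * cyc17 * aut17⁻¹ = cyc17 ^ 3 := by decide +kernel

variable {K : Type*} [Field K] [Fintype K]

/-- No alternating group of degree nineteen. -/
theorem not_altSect_nineteen_of_dvd (h17 : 17 ∣ Fintype.card K - 1) : ¬ AltTorus.AltSect ↥(chevE8.group K) 19 := by
  rintro ⟨H, π, hπ⟩
  haveI : Fact (Nat.Prime 17) := ⟨by norm_num⟩
  haveI : Finite ↥(chevE8.group K) := (chevRel certE8 K).Finite_of_field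
  obtain ⟨hx, hx1, hax⟩ := cyc17_ok
  obtain ⟨S, hS, hmap, hlift⟩ := AltTorus.exists_lift hπ (AltTorus.isPGroup_zpowers hx)
  obtain ⟨y, hy, hya⟩ := hlift aut17 (AltTorus.mem_normalizer_zpowers hax)
  have hidx : ¬ 17 ∣ (chevRel certE8 K).HS.index := fun hd => by
    have e := val_prod_degrees K h17 (by norm_num)
    rw [padicValNat.eq_zero_of_not_dvd (by norm_num : ¬ 17 ∣ 696729600)] at e
    rcases padicValNat.eq_zero_iff.1 e with h | h | h
    · norm_num at h
    · exact Subgroup.index_ne_zero_of_finite h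
    · exact h hd
  obtain ⟨g, hg⟩ := AltTorus.exists_conj_into hidx (hS.map H.subtype)
  obtain ⟨ψ, hψ⟩ : ∃ ψ : ↥H →* ↥(chevE8.group K), ψ = (MulAut.conj g).toMonoidHom.comp H.subtype := ⟨_, rfl⟩
  have hψi : Function.Injective ψ := by
    rw [hψ]; exact (MulAut.conj g).injective.comp H.subtype_injective
  have hST : ∀ s ∈ S, ψ s ∈ (chevRel certE8 K).HS := fun s hs => by
    rw [hψ]; exact hg _ ⟨s, hs, rfl⟩
  obtain ⟨b', hb, n, u, hu, e⟩ := (chevRel certE8 K).exists_bnu (ψ y)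
  have hxS : cyc17 ∈ S.map π := hmap ▸ Subgroup.mem_zpowers _
  obtain ⟨s, hs, hsx⟩ := hxS
  obtain ⟨t, ht, hst⟩ := AltTorus.exists_commutator_eq certE8 hψi hS hST hy hb hu e
    (noEigen_seventeen (chevRel certE8 K) n) hs
  obtain ⟨k, hk⟩ : π t ∈ Subgroup.zpowers cyc17 := hmap ▸ ⟨t, ht, rfl⟩
  apply hx1
  have hk' : cyc17 ^ k = π t := hk
  rw [← hsx, hst, map_mul, map_mul, map_mul, map_inv, map_inv, map_pow, hya, ← hk', ← conj_zpow, hax, mul_inv_eq_one,
    ← zpow_natCast, ← zpow_natCast, ← zpow_mul, ← zpow_mul, mul_comm]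

end CfsgLib.Known.AltE8
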