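import Cfsg.Agent.Lib.Known.AltE8.Main
import Cfsg.Agent.Lib.Known.AltE8.Seventeen
import Cfsg.Agent.Lib.Known.AltTorus.Counting

/-!
# Degrees of alternating sections of the groups of type E8
-/

set_option autoImplicit false
set_option maxRecDepth 20000

namespace CfsgLib.Known.AltE8

open Cfsg.Lie (chevE8)
open CfsgLib.Lie.Chev hiding monP
open CfsgLib.Known.AltE6 (rep rep_injective)
open CfsgLib.Known.AltE7 (exists_min)

theorem card_idx : Fintype.card chevE8.Idx = 248 := by decide +kernel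

theorem three_ne_zero' {K : Type*} [Field K] [Fintype K] (h : 3 ∣ Fintype.card K - 1) : (3 : K) ≠ 0 := fun h0 => by
  have h1 : ((Fintype.card K - 1 : ℕ) : K) = 0 := by
    obtain ⟨c, hc⟩ := h
    rw [hc, Nat.cast_mul, Nat.cast_ofNat, h0, zero_mul]
  rw [Nat.cast_sub Fintype.card_pos, Nat.cast_one, FiniteField.cast_card_eq_zero, zero_sub] at h1
  exact one_ne_zero (neg_eq_zero.1 h1)

theorem not_altSect_eighteen_of_dvd {K : Type*} [Field K] [Fintype K] (h3 : 3 ∣ Fintype.card K - 1) :
    ¬ AltTorus.AltSect ↥(chevE8.group K) 18 := by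
  intro h
  haveI : Fact (Nat.Prime 3) := ⟨Nat.prime_three⟩
  haveI : Finite ↥(chevE8.group K) := (chevRel certE8 K).Finite_of_field
  obtain ⟨H, π, hπ⟩ := exists_min (by norm_num) h
  have hker := ker_trivial hπ fun Q hQn hQ =>
    le_center_of_normal_pGroup (l := 3) rfl h3 hπ le_rfl H.subtype H.subtype_injective Q hQn hQ
  obtain ⟨z, hz⟩ := exists_prime_orderOf_dvd_card' (G := Kˣ) 3 (by
    rwa [Nat.card_units, Nat.card_eq_fintype_card])
  have hζ : IsPrimitiveRoot ((z : Kˣ) : K) 3 :=
    (hz ▸ IsPrimitiveRoot.orderOf z).map_of_injective (f := Units.coeHom K) Units.val_injective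
  refine false_of_rep hπ.surj hker ((rep chevE8 K).comp H.subtype)
    ((rep_injective chevE8 K).comp H.subtype_injective) ?_ hζ (by exact_mod_cast three_ne_zero' h3) fun u hu => ?_
  · rw [Module.finrank_pi, card_idx]
  · exact fixd_three (three_ne_zero' h3) h3 (not_dvd_index_NS K h3 (by norm_num))
      (show ((u : ↥(chevE8.group K))) ^ 3 = 1 by rw [← Subgroup.coe_pow, hu]; rfl)

theorem not_altSect_eighteen {F : Type*} [Field F] [Fintype F] {p : ℕ} [Fact p.Prime] [CharP F p] (hp : p ≠ 3) :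
    ¬ AltTorus.AltSect ↥(chevE8.group F) 18 := fun h => by
  obtain ⟨F1, _, _, j, hF1⟩ := AltTorus.exists_ext F 2
  exact not_altSect_eighteen_of_dvd
    (hF1 ▸ AltTorus.dvd_pow_sub_one_of_char (p := p) Nat.prime_three hp (dvd_refl 2))
    (h.map (ChevFixed.groupMap_injective j))

theorem not_altSect_nineteen {F : Type*} [Field F] [Fintype F] [CharP F 3] :
    ¬ AltTorus.AltSect ↥(chevE8.group F) 19 := fun h => by
  haveI : Fact (Nat.Prime 3) := ⟨Nat.prime_three⟩
  obtain ⟨F1, _, _, j, hF1⟩ := AltTorus.exists_ext F 16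
  exact not_altSect_nineteen_of_dvd
    (hF1 ▸ AltTorus.dvd_pow_sub_one_of_char (p := 3) (by norm_num : Nat.Prime 17) (by norm_num) (dvd_refl 16))
    (h.map (ChevFixed.groupMap_injective j))

/-- The bound on the degree. -/
theorem degree_bound {F : Type*} [Field F] [Fintype F] {p : ℕ} [Fact p.Prime] [CharP F p] {r : ℕ}
    (h : AltTorus.AltSect ↥(chevE8.group F) r) : r ≤ 17 + (if p = 3 then 1 else 0) := by
  by_contra hlt
  by_cases h3 : p = 3
  · subst h3
    rw [if_pos rfl] at hlt
    exact not_altSect_nineteen (h.le (by omega))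
  · rw [if_neg h3] at hlt
    exact not_altSect_eighteen (p := p) h3 (h.le (by omega))

end CfsgLib.Known.AltE8
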