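import Cfsg.Agent.Lib.Known.AltE8.W3Data

/-!
# The numbers of roots fixed by elements of order three of the monomial group of type E8
-/

set_option autoImplicit false
set_option maxRecDepth 20000
set_option maxHeartbeats 2000000

namespace CfsgLib.Known.AltE8

open Cfsg.Lie (chevE8)
open CfsgLib.Lie.Chev
open CfsgLib.Known.AltE6 (keyW fins)

/-- The possible dimensions. -/
def dims : List ℕ := [80, 81, 82, 83, 84, 85, 86, 87, 88, 89, 90, 91, 92, 102, 134, 248]

/-- The action of a word on the roots. -/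
def actW (l : List ℕ) (r : ℕ) : ℕ := wordAct auxE8 ((fins chevE8 l).map fun j : Fin chevE8.rank => (j : ℕ)) r

/-- The fixed roots. -/
def fixR (l : List ℕ) : List ℕ := (List.range 240).filter fun r => actW l r == r

/-- The first roots of the nontrivial orbits. -/
def minR (l : List ℕ) : List ℕ :=
  (List.range 240).filter fun r => decide (r < actW l r) && decide (r < actW l (actW l r))

/-- The residues of the coefficients of the positive roots, as functions. -/
def col (j : Fin 8) (r : ℕ) : ℕ := ((auxE8.coef j r) % 3).toNat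

/-- The numbers of vanishing positive roots which are allowed. -/
def okCnt (n : ℕ) : Bool :=
  decide (8 + 2 * n ∈ dims)

/-- All the elements of the torus of exponent three, by their residues. -/
def go : List (List ℕ) → List ℕ → Bool
  | [], acc => okCnt (acc.countP fun x => Nat.beq (x % 3) 0)
  | c :: cs, acc =>
    let a1 := List.zipWith (fun x y => x + y) acc c
    let a2 := List.zipWith (fun x y => x + y) a1 c
    go cs acc && go cs a1 && go cs a2

theorem go_sound {α : Type*} (L : List α) : ∀ (k : ℕ) (g : Fin k → α → ℕ) (f : α → ℕ),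
    go (List.ofFn fun j => L.map (g j)) (L.map f) = true → ∀ e : Fin k → Fin 3,
      okCnt (L.countP fun r => Nat.beq ((f r + ∑ j, (e j : ℕ) * g j r) % 3) 0) = true
  | 0, g, f, h, e => by
    simpa [go, List.countP_map, Function.comp_def] using h
  | k + 1, g, f, h, e => by
    rw [List.ofFn_succ, go] at h
    simp only [List.zipWith_map, List.zipWith_self, Bool.and_eq_true] at h
    obtain ⟨⟨h0, h1⟩, h2⟩ := h
    obtain ⟨x, hx⟩ : ∃ x, x = e 0 := ⟨_, rfl⟩
    have key : okCnt (L.countP fun r =>
        Nat.beq ((f r + (x : ℕ) * g 0 r + ∑ j : Fin k, (e j.succ : ℕ) * g j.succ r) % 3) 0) = true := by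
      fin_cases x
      · simpa using go_sound L k _ _ h0 fun j => e j.succ
      · simpa using go_sound L k _ _ h1 fun j => e j.succ
      · simpa [two_mul, add_assoc] using go_sound L k _ _ h2 fun j => e j.succ
    rw [hx] at key
    convert key using 4 with r
    rw [Fin.sum_univ_succ, add_assoc]

/-- A scalar product. -/
def dotL (c e : List ℤ) : ℤ := (List.zipWith (fun x y => x * y) c e).sum

/-- The exponent lists. -/
def vecs : ℕ → List (List ℤ)
  | 0 => [[]]
  | n + 1 => (vecs n).flatMap fun v => [0 :: v, 1 :: v, 2 :: v]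

theorem mem_vecs : ∀ (n : ℕ) (f : Fin n → Fin 3), (List.ofFn fun i => ((f i : ℕ) : ℤ)) ∈ vecs n
  | 0, _ => by simp [vecs]
  | n + 1, f => by
    rw [List.ofFn_succ]
    refine List.mem_flatMap.2 ⟨_, mem_vecs n (fun i => f i.succ), ?_⟩
    obtain ⟨k, hk⟩ : ∃ k, k = f 0 := ⟨_, rfl⟩
    rw [← hk]
    fin_cases k <;> simp

theorem six_dims : ∀ e ∈ vecs 6, 62 + (fix72.countP fun x => dotL x.2 e % 3 == 0) ∈ dims := by decide +kernel

theorem fix72_ok : fixR (w3Reps.getD 1 []) = fix72.map Prod.fst ∧ (minR (w3Reps.getD 1 [])).length = 56 ∧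
    ∀ x ∈ fix72, x.2.length = 6 ∧ ∀ j : Fin 8,
      auxE8.coef j x.1 = ∑ i : Fin 6, x.2.getD i 0 * auxE8.coef j (six.getD i 0) := by decide +kernel

theorem six_fixed : ∀ i : Fin 6, six.getD i 0 < 240 ∧ actW (w3Reps.getD 1 []) (six.getD i 0) = six.getD i 0 := by
  decide +kernel

theorem small_ok : ∀ k : Fin 5, 2 ≤ (k : ℕ) →
    80 ≤ (8 - 2 * (k : ℕ)) + (minR (w3Reps.getD k [])).length ∧
      (8 - 2 * (k : ℕ)) + (minR (w3Reps.getD k [])).length + (fixR (w3Reps.getD k [])).length ≤ 92 := by
  decide +kernel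

theorem zero_ok : fixR (w3Reps.getD 0 []) = List.range 240 ∧ minR (w3Reps.getD 0 []) = [] := by decide +kernel

/-- The matrix of a representative on the coordinates. -/
def repB (k : Fin 5) : Matrix (Fin 8) (Fin 8) ℤ :=
  Matrix.of fun i j => auxE8.coef i ((keyW chevE8 auxE8 (w3Reps.getD k [])).getD j 0)

/-- The basis of the fixed lattice. -/
def repP (k : Fin 5) : Matrix (Fin 8) (Fin (8 - 2 * (k : ℕ))) ℤ :=
  Matrix.of fun i j => ((w3P.getD k []).getD i []).getD j 0

/-- The coordinates of the orbit sums. -/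
def repQ (k : Fin 5) : Matrix (Fin (8 - 2 * (k : ℕ))) (Fin 8) ℤ :=
  Matrix.of fun i j => ((w3Q.getD k []).getD i []).getD j 0

theorem proj_ok : ∀ k : Fin 5, repB k * repP k = repP k ∧
    repQ k * repP k = Matrix.diagonal (fun _ => (3 : ℤ)) ∧
    repP k * repQ k = 1 + repB k + repB k * repB k := by decide +kernel

theorem class_ok : ∀ i : Fin 243,
    keyW chevE8 auxE8 (threeT8.wd i ++ threeT8.wd i ++ threeT8.wd i) = keyW chevE8 auxE8 [] →
      (w3Class.getD i (0, [])).1 < 5 ∧
        keyW chevE8 auxE8 ((w3Class.getD i (0, [])).2.reverse ++ threeT8.wd i ++ (w3Class.getD i (0, [])).2) =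
          keyW chevE8 auxE8 (w3Reps.getD (w3Class.getD i (0, [])).1 []) := by decide +kernel

theorem rev_ok : ∀ i : Fin 243,
    keyW chevE8 auxE8 ((w3Class.getD i (0, [])).2.reverse ++ (w3Class.getD i (0, [])).2) = keyW chevE8 auxE8 [] := by
  decide +kernel

end CfsgLib.Known.AltE8
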