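import Cfsg.Agent.Lib.Known.AltE8.Count

/-!
# The numbers of roots fixed by elements of order three of the torus of type E8
-/

set_option autoImplicit false
set_option maxRecDepth 20000

namespace CfsgLib.Known.AltE8

open Cfsg.Lie (chevE8)
open CfsgLib.Lie.Chev

theorem go_ok : go (List.ofFn fun j : Fin 8 => (List.range' 120 120).map (col j))
    ((List.range' 120 120).map fun _ => 0) = true := by decide +kernel

theorem neg_ok : (List.range 240).Perm (List.range' 120 120 ++ (List.range' 120 120).map (239 - ·)) ∧
    ∀ r ∈ List.range' 120 120, ∀ j : Fin 8, auxE8.coef j (239 - r) = -auxE8.coef j r := by decide +kernel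

end CfsgLib.Known.AltE8
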