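import Cfsg.Agent.Lib.Known.AltE8.Perms

/-!
# Weights of six three cycles of the alternating group of degree eighteen
-/

set_option autoImplicit false
set_option maxRecDepth 20000
set_option maxHeartbeats 2000000

namespace CfsgLib.Known.AltE8

open CfsgLib.Known.AltE7 (actf)

/-- The size of the support of a weight. -/
def cls8 (lam : Fin 6 → Fin 3) : Fin 7 := Fin.ofNat 7 (∑ i, if lam i = 0 then 0 else 1)

/-- The code of a weight. -/
def code8 (lam : Fin 6 → Fin 3) : ℕ := ∑ i, (lam i : ℕ) * 3 ^ (5 - (i : ℕ))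

/-- The representatives. -/
def repv (j : Fin 7) : Fin 6 → Fin 3 := fun i => if 6 ≤ (i : ℕ) + (j : ℕ) then 1 else 0

/-- The exponents of the representatives of the elements. -/
def vk (k : Fin 7) : Fin 6 → ℕ := fun i => if (i : ℕ) < (k : ℕ) then 1 else 0

/-- The numbers of weights of each size orthogonal to an element. -/
def tab8 : List (List ℕ) := [[1, 12, 60, 160, 240, 192, 64], [1, 10, 40, 80, 80, 32, 0], [1, 8, 26, 48, 64, 64, 32],
  [1, 6, 18, 46, 84, 72, 16], [1, 4, 16, 56, 86, 56, 24], [1, 2, 20, 60, 70, 70, 20], [1, 0, 30, 40, 90, 60, 22]]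

theorem t8_facts : (∀ i, t8 i ^ 3 = 1) ∧ (∀ i j, t8 i * t8 j = t8 j * t8 i) ∧
    ∀ k : Fin 7, k ≠ 0 → (List.ofFn fun i => t8 i ^ vk k i).prod ≠ 1 := by decide +kernel

theorem gens8_norm : ∀ g ∈ gens8, ∀ i, g.1⁻¹ * t8 i * g.1 = (List.ofFn fun j => t8 j ^ g.2.1 i j).prod := by
  decide +kernel

theorem gens8_inv : ∀ g ∈ gens8, ∀ lam : Fin 6 → Fin 3,
    actf 3 g.2.2 (actf 3 g.2.1 lam) = lam ∧ cls8 (actf 3 g.2.1 lam) = cls8 lam := by decide +kernel

theorem descent8 : ∀ lam : Fin 6 → Fin 3,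
    lam = repv (cls8 lam) ∨ ∃ g ∈ gens8, code8 (actf 3 g.2.1 lam) < code8 lam := by decide +kernel

theorem tab8_ok : ∀ k j : Fin 7, ((Finset.univ.filter fun lam : Fin 6 → Fin 3 =>
    3 ∣ ∑ i, (lam i : ℕ) * vk k i).filter fun lam => cls8 lam = j).card =
      (tab8.getD k []).getD j 0 := by decide +kernel

theorem top_facts : top ^ 3 = 1 ∧ (∀ i, top⁻¹ * t8 i * top = (List.ofFn fun j => t8 j ^ topV i j).prod) ∧
    (top : Equiv.Perm (Fin 18)).support.card =
      (((List.ofFn fun i => t8 i ^ vk 3 i).prod : alternatingGroup (Fin 18)) : Equiv.Perm (Fin 18)).support.card ∧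
    ((List.ofFn fun i => t8 i ^ vk 3 i).prod : alternatingGroup (Fin 18)) ^ 3 = 1 ∧
    Equiv.swap 9 10 * (((List.ofFn fun i => t8 i ^ vk 3 i).prod : alternatingGroup (Fin 18)) : Equiv.Perm (Fin 18)) =
      (((List.ofFn fun i => t8 i ^ vk 3 i).prod : alternatingGroup (Fin 18)) : Equiv.Perm (Fin 18)) * Equiv.swap 9 10 := by
  decide +kernel

theorem top_cube : ∀ lam : Fin 6 → Fin 3, actf 3 topV (actf 3 topV (actf 3 topV lam)) = lam := by decide +kernel

/-- The fixed weights of full support. -/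
def fixW : Finset (Fin 6 → Fin 3) := Finset.univ.filter fun lam => actf 3 topV lam = lam ∧ cls8 lam = 6

/-- The first weights of the nontrivial orbits. -/
def minW : Finset (Fin 6 → Fin 3) := Finset.univ.filter fun lam =>
  code8 lam < code8 (actf 3 topV lam) ∧ code8 lam < code8 (actf 3 topV (actf 3 topV lam))

theorem minW_ok : ∀ b : Fin 6 → Fin 3, b ∈ minW → actf 3 topV b ∉ minW ∪ fixW ∧
    actf 3 topV (actf 3 topV b) ∉ minW ∪ fixW ∧ b ∉ fixW := by
  simp only [minW, fixW, Finset.mem_union, Finset.mem_filter, Finset.mem_univ, true_and]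
  decide +kernel

theorem weights_count :
    (∑ lam ∈ minW ∪ fixW, ([12, 4, 1, 0, 0, 0, 2] : List ℕ).getD (cls8 lam) 0) = 88 := by decide +kernel

theorem stab_cover : ∀ lam : Fin 6 → Fin 3, actf 3 topV lam = lam → cls8 lam = 6 → ∃ x ∈ stab, x.1 = lam := by
  decide +kernel

theorem stab_norm : ∀ x ∈ stab,
    (∀ i, x.2.1.1⁻¹ * t8 i * x.2.1.1 = (List.ofFn fun j => t8 j ^ x.2.1.2 i j).prod) ∧
    (∀ i, x.2.2.1⁻¹ * t8 i * x.2.2.1 = (List.ofFn fun j => t8 j ^ x.2.2.2 i j).prod) ∧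
    x.2.1.1 ^ 3 = 1 ∧ top * x.2.1.1 = x.2.1.1 * top ∧ x.2.2.1⁻¹ * top * x.2.2.1 = x.2.1.1 ∧
    x.2.2.1⁻¹ * x.2.1.1 * x.2.2.1 = top ^ 2 ∧
    actf 3 topV x.1 = x.1 ∧ actf 3 x.2.1.2 x.1 = x.1 ∧ actf 3 x.2.2.2 x.1 = x.1 := by decide +kernel

/-- Possible dimensions of the fixed points of an element of order three. -/
def inDims (d : ℕ) : Bool := (Nat.ble 80 d && Nat.ble d 92) || Nat.beq d 102 || Nat.beq d 134

/-- The dimensions from the multiplicities. -/
def dimK (m0 m1 m2 m3 m4 m5 m6 : ℕ) (k : Fin 7) : ℕ :=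
  (List.zipWith (fun x y => x * y) (tab8.getD k []) [m0, m1, m2, m3, m4, m5, m6]).sum

/-- The check of a candidate profile. -/
def profChk (m1 m2 m3 m4 m5 m6 : ℕ) : Bool :=
  let m0 := 248 - (12 * m1 + 60 * m2 + 160 * m3 + 240 * m4 + 192 * m5 + 64 * m6)
  !(Nat.ble (12 * m1 + 60 * m2 + 160 * m3 + 240 * m4 + 192 * m5 + 64 * m6) 248 &&
      ((List.finRange 6).all fun k => inDims (dimK m0 m1 m2 m3 m4 m5 m6 k.succ))) ||
    [m0, m1, m2, m3, m4, m5, m6] == [12, 4, 1, 0, 0, 0, 2]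

theorem profile_ok : ((List.range 4).all fun m6 => (List.range 2).all fun m5 => (List.range 2).all fun m4 =>
    (List.range 2).all fun m3 => (List.range 5).all fun m2 => (List.range 21).all fun m1 =>
      profChk m1 m2 m3 m4 m5 m6) = true := by decide +kernel

theorem profile {m0 m1 m2 m3 m4 m5 m6 : ℕ}
    (hsum : m0 + 12 * m1 + 60 * m2 + 160 * m3 + 240 * m4 + 192 * m5 + 64 * m6 = 248)
    (hd : ∀ k : Fin 7, k ≠ 0 → inDims (dimK m0 m1 m2 m3 m4 m5 m6 k) = true) :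
    m0 = 12 ∧ m1 = 4 ∧ m2 = 1 ∧ m3 = 0 ∧ m4 = 0 ∧ m5 = 0 ∧ m6 = 2 := by
  have e : m0 = 248 - (12 * m1 + 60 * m2 + 160 * m3 + 240 * m4 + 192 * m5 + 64 * m6) := by omega
  have h := profile_ok
  simp only [List.all_eq_true, List.mem_range] at h
  have h' := h m6 (by omega) m5 (by omega) m4 (by omega) m3 (by omega) m2 (by omega) m1 (by omega)
  simp only [profChk, ← e, Bool.or_eq_true, Bool.not_eq_true', beq_iff_eq, List.cons.injEq, and_true] at h'
  rcases h' with h' | h'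
  · exfalso
    have hle : Nat.ble (12 * m1 + 60 * m2 + 160 * m3 + 240 * m4 + 192 * m5 + 64 * m6) 248 = true :=
      Nat.ble_eq_true_of_le (by omega)
    have hall : ((List.finRange 6).all fun k => inDims (dimK m0 m1 m2 m3 m4 m5 m6 k.succ)) = true :=
      List.all_eq_true.2 fun k _ => hd _ (Fin.succ_ne_zero k)
    rw [hle, hall] at h'
    exact Bool.noConfusion h'
  · exact h'

end CfsgLib.Known.AltE8
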