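import Cfsg.Agent.Lib.Known.CyclicTorus.E8

/-!
# The frame of eight orthogonal vectors attached to a class modulo two of the lattice of type E8
-/

set_option autoImplicit false
set_option maxRecDepth 20000
set_option maxHeartbeats 2000000

namespace CfsgLib.Known.AltE8

open CfsgLib.Lie.Chev (auxE8)
open CfsgLib.Known.CyclicTorus (cE8 vE8 ipE8)

/-- A functional modulo two. -/
def par (c : Fin 8 → Fin 2) (x : Fin 8 → ℤ) : ℤ :=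
  x 0 * (c 0 : ℕ) + x 1 * (c 1 : ℕ) + x 2 * (c 2 : ℕ) + x 3 * (c 3 : ℕ) + x 4 * (c 4 : ℕ) + x 5 * (c 5 : ℕ) +
    x 6 * (c 6 : ℕ) + x 7 * (c 7 : ℕ)

/-- The vanishing of a functional modulo two. -/
def evZ (c : Fin 8 → Fin 2) (x : Fin 8 → ℤ) : Bool := par c x % 2 == 0

/-- The number of roots in the kernel. -/
def cnt2 (c : Fin 8 → Fin 2) : ℕ := (List.finRange 240).countP fun r => evZ c (cE8 r)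

/-- The base class. -/
def c17 : Fin 8 → Fin 2 := ![0, 0, 0, 0, 0, 1, 0, 0]

/-- The simple roots of the subsystem of type D8. -/
def simA : Fin 8 → Fin 240 := ![120, 121, 126, 130, 135, 141, 159, 162]

/-- The frame. -/
def fr : Fin 8 → Fin 8 → ℤ := ![
  ![-2, -3, -4, -6, -5, -4, -4, -2],
  ![-2, -3, -4, -6, -5, -4, -2, -2],
  ![-2, -3, -4, -6, -5, -4, -2, 0],
  ![-2, -1, -2, -2, -1, 0, 0, 0],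
  ![0, -1, -2, -2, -1, 0, 0, 0],
  ![0, -1, 0, -2, -1, 0, 0, 0],
  ![0, -1, 0, 0, -1, 0, 0, 0],
  ![0, 1, 0, 0, -1, 0, 0, 0]]

/-- Roots of the subsystem with the sum a frame vector. -/
def frA : Fin 8 → Fin 240 := ![0, 0, 1, 11, 18, 23, 27, 37]

/-- Their partners. -/
def frB : Fin 8 → Fin 240 := ![118, 121, 122, 161, 183, 193, 199, 209]

/-- Words moving the classes to the base class. -/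
def words17 : List (List (Fin 8)) := [
  [], [5], [4, 5], [6, 5], [3, 4, 5], [6, 4, 5], [7, 6, 5], [1, 3, 4, 5], [2, 3, 4, 5], [6, 3, 4, 5],
  [5, 6, 4, 5], [7, 6, 4, 5], [2, 1, 3, 4, 5], [6, 1, 3, 4, 5], [0, 2, 3, 4, 5], [6, 2, 3, 4, 5],
  [5, 6, 3, 4, 5], [7, 6, 3, 4, 5], [7, 5, 6, 4, 5], [0, 2, 1, 3, 4, 5], [3, 2, 1, 3, 4, 5],
  [6, 2, 1, 3, 4, 5], [5, 6, 1, 3, 4, 5], [7, 6, 1, 3, 4, 5], [6, 0, 2, 3, 4, 5], [5, 6, 2, 3, 4, 5],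
  [7, 6, 2, 3, 4, 5], [4, 5, 6, 3, 4, 5], [7, 5, 6, 3, 4, 5], [6, 7, 5, 6, 4, 5], [3, 0, 2, 1, 3, 4, 5],
  [6, 0, 2, 1, 3, 4, 5], [4, 3, 2, 1, 3, 4, 5], [6, 3, 2, 1, 3, 4, 5], [5, 6, 2, 1, 3, 4, 5],
  [7, 6, 2, 1, 3, 4, 5], [4, 5, 6, 1, 3, 4, 5], [7, 5, 6, 1, 3, 4, 5], [5, 6, 0, 2, 3, 4, 5],
  [7, 6, 0, 2, 3, 4, 5], [4, 5, 6, 2, 3, 4, 5], [7, 5, 6, 2, 3, 4, 5], [7, 4, 5, 6, 3, 4, 5],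
  [6, 7, 5, 6, 3, 4, 5], [2, 3, 0, 2, 1, 3, 4, 5], [4, 3, 0, 2, 1, 3, 4, 5], [6, 3, 0, 2, 1, 3, 4, 5],
  [5, 6, 0, 2, 1, 3, 4, 5], [7, 6, 0, 2, 1, 3, 4, 5], [5, 4, 3, 2, 1, 3, 4, 5], [6, 4, 3, 2, 1, 3, 4, 5],
  [5, 6, 3, 2, 1, 3, 4, 5], [7, 6, 3, 2, 1, 3, 4, 5], [4, 5, 6, 2, 1, 3, 4, 5], [7, 5, 6, 2, 1, 3, 4, 5],
  [3, 4, 5, 6, 1, 3, 4, 5], [7, 4, 5, 6, 1, 3, 4, 5], [6, 7, 5, 6, 1, 3, 4, 5], [4, 5, 6, 0, 2, 3, 4, 5],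
  [7, 5, 6, 0, 2, 3, 4, 5], [3, 4, 5, 6, 2, 3, 4, 5], [7, 4, 5, 6, 2, 3, 4, 5], [6, 7, 5, 6, 2, 3, 4, 5],
  [6, 7, 4, 5, 6, 3, 4, 5], [4, 2, 3, 0, 2, 1, 3, 4, 5], [6, 2, 3, 0, 2, 1, 3, 4, 5],
  [5, 4, 3, 0, 2, 1, 3, 4, 5], [6, 4, 3, 0, 2, 1, 3, 4, 5], [5, 6, 3, 0, 2, 1, 3, 4, 5],
  [7, 6, 3, 0, 2, 1, 3, 4, 5], [4, 5, 6, 0, 2, 1, 3, 4, 5], [7, 5, 6, 0, 2, 1, 3, 4, 5],
  [7, 6, 4, 3, 2, 1, 3, 4, 5], [7, 5, 6, 3, 2, 1, 3, 4, 5], [7, 4, 5, 6, 2, 1, 3, 4, 5],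
  [6, 7, 5, 6, 2, 1, 3, 4, 5], [7, 3, 4, 5, 6, 1, 3, 4, 5], [6, 7, 4, 5, 6, 1, 3, 4, 5],
  [3, 4, 5, 6, 0, 2, 3, 4, 5], [7, 4, 5, 6, 0, 2, 3, 4, 5], [6, 7, 5, 6, 0, 2, 3, 4, 5],
  [7, 3, 4, 5, 6, 2, 3, 4, 5], [6, 7, 4, 5, 6, 2, 3, 4, 5], [5, 6, 7, 4, 5, 6, 3, 4, 5],
  [3, 4, 2, 3, 0, 2, 1, 3, 4, 5], [5, 4, 2, 3, 0, 2, 1, 3, 4, 5], [6, 4, 2, 3, 0, 2, 1, 3, 4, 5],
  [5, 6, 2, 3, 0, 2, 1, 3, 4, 5], [7, 6, 2, 3, 0, 2, 1, 3, 4, 5], [7, 6, 4, 3, 0, 2, 1, 3, 4, 5],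
  [7, 5, 6, 3, 0, 2, 1, 3, 4, 5], [7, 4, 5, 6, 0, 2, 1, 3, 4, 5], [6, 7, 5, 6, 0, 2, 1, 3, 4, 5],
  [6, 7, 5, 6, 3, 2, 1, 3, 4, 5], [6, 7, 4, 5, 6, 2, 1, 3, 4, 5], [6, 7, 3, 4, 5, 6, 1, 3, 4, 5],
  [5, 6, 7, 4, 5, 6, 1, 3, 4, 5], [2, 3, 4, 5, 6, 0, 2, 3, 4, 5], [7, 3, 4, 5, 6, 0, 2, 3, 4, 5],
  [6, 7, 4, 5, 6, 0, 2, 3, 4, 5], [6, 7, 3, 4, 5, 6, 2, 3, 4, 5], [5, 6, 7, 4, 5, 6, 2, 3, 4, 5],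
  [1, 3, 4, 2, 3, 0, 2, 1, 3, 4, 5], [5, 3, 4, 2, 3, 0, 2, 1, 3, 4, 5], [6, 3, 4, 2, 3, 0, 2, 1, 3, 4, 5],
  [7, 6, 4, 2, 3, 0, 2, 1, 3, 4, 5], [7, 5, 6, 2, 3, 0, 2, 1, 3, 4, 5], [6, 7, 5, 6, 3, 0, 2, 1, 3, 4, 5],
  [6, 7, 4, 5, 6, 0, 2, 1, 3, 4, 5], [5, 6, 7, 4, 5, 6, 2, 1, 3, 4, 5], [5, 6, 7, 3, 4, 5, 6, 1, 3, 4, 5],
  [7, 2, 3, 4, 5, 6, 0, 2, 3, 4, 5], [6, 7, 3, 4, 5, 6, 0, 2, 3, 4, 5], [5, 6, 7, 4, 5, 6, 0, 2, 3, 4, 5],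
  [5, 6, 7, 3, 4, 5, 6, 2, 3, 4, 5], [5, 1, 3, 4, 2, 3, 0, 2, 1, 3, 4, 5],
  [6, 1, 3, 4, 2, 3, 0, 2, 1, 3, 4, 5], [4, 5, 3, 4, 2, 3, 0, 2, 1, 3, 4, 5],
  [7, 6, 3, 4, 2, 3, 0, 2, 1, 3, 4, 5], [6, 7, 5, 6, 2, 3, 0, 2, 1, 3, 4, 5],
  [5, 6, 7, 4, 5, 6, 0, 2, 1, 3, 4, 5], [4, 5, 6, 7, 3, 4, 5, 6, 1, 3, 4, 5],
  [6, 7, 2, 3, 4, 5, 6, 0, 2, 3, 4, 5], [5, 6, 7, 3, 4, 5, 6, 0, 2, 3, 4, 5],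
  [4, 5, 6, 7, 3, 4, 5, 6, 2, 3, 4, 5], [4, 5, 1, 3, 4, 2, 3, 0, 2, 1, 3, 4, 5],
  [7, 6, 1, 3, 4, 2, 3, 0, 2, 1, 3, 4, 5], [5, 6, 7, 2, 3, 4, 5, 6, 0, 2, 3, 4, 5],
  [4, 5, 6, 7, 3, 4, 5, 6, 0, 2, 3, 4, 5], [3, 4, 5, 1, 3, 4, 2, 3, 0, 2, 1, 3, 4, 5],
  [4, 5, 6, 7, 2, 3, 4, 5, 6, 0, 2, 3, 4, 5], [2, 3, 4, 5, 1, 3, 4, 2, 3, 0, 2, 1, 3, 4, 5],
  [3, 4, 5, 6, 7, 2, 3, 4, 5, 6, 0, 2, 3, 4, 5], [0, 2, 3, 4, 5, 1, 3, 4, 2, 3, 0, 2, 1, 3, 4, 5],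
  [1, 3, 4, 5, 6, 7, 2, 3, 4, 5, 6, 0, 2, 3, 4, 5]]

theorem classes_card : (Finset.univ.filter fun c : Fin 8 → Fin 2 => cnt2 c = 112).card = 135 := by decide +kernel

theorem classes_word : ∀ c : Fin 8 → Fin 2, cnt2 c = 112 → ∃ w ∈ words17, ∀ i : Fin 8,
    evZ c (vE8 (CfsgLib.Lie.Chev.wordAct auxE8 (w.map (fun j : Fin 8 => (j : ℕ))) (Cfsg.Lie.chevE8.simple i))) =
      evZ c17 (vE8 (Cfsg.Lie.chevE8.simple i)) := by decide +kernel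

theorem fr_eq : ∀ i j, fr i j = cE8 (frA i) j + cE8 (frB i) j := by decide +kernel

theorem fr_mem : ∀ i, evZ c17 (cE8 (frA i)) = true ∧ evZ c17 (cE8 (frB i)) = true ∧
    evZ c17 (cE8 (simA i)) = true ∧ ipE8 (cE8 (frA i)) (cE8 (frB i)) = 0 := by decide +kernel

theorem fr_even : ∀ i, ∀ t : Fin 240, evZ c17 (cE8 t) = true → ipE8 (fr i) (cE8 t) % 2 = 0 := by decide +kernel

theorem fr_gram : ∀ i j, ipE8 (fr i) (fr j) = if i = j then 4 else 0 := by decide +kernel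

theorem fr_spin : ∀ t : Fin 240, evZ c17 (cE8 t) = false → ∏ i, ipE8 (fr i) (cE8 t) = 1 := by decide +kernel

theorem fr_span : ∀ j k : Fin 8, ∑ i, ipE8 (fr i) (Pi.single j 1) * fr i k = if j = k then 4 else 0 := by
  decide +kernel

/-- The sum is plus or minus a frame vector. -/
def isFr (x : Fin 8 → ℤ) : Bool :=
  (List.finRange 8).any fun j => ((List.finRange 8).all fun k => x k == fr j k) ||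
    ((List.finRange 8).all fun k => x k == -fr j k)

/-- The check of a pair of roots. -/
def chkPair (x y : Fin 8 → ℤ) : Bool :=
  !(evZ c17 x) || !(evZ c17 y) || !(ipE8 x y == 0) ||
    !((List.finRange 8).all fun k => ipE8 (x + y) (cE8 (simA k)) % 2 == 0) || isFr (x + y)

theorem chkPair_rows : ∀ (s : Fin 240) (t : Fin 240), chkPair (cE8 s) (cE8 t) = true := by decide +kernel

theorem exists_fr {s t : Fin 240} (hs : evZ c17 (cE8 s) = true) (ht : evZ c17 (cE8 t) = true)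
    (h : ipE8 (cE8 s) (cE8 t) = 0) (he : ∀ k, ipE8 (cE8 s + cE8 t) (cE8 (simA k)) % 2 = 0) :
    ∃ j, ∃ u : ℤ, (u = 1 ∨ u = -1) ∧ cE8 s + cE8 t = u • fr j := by
  have h1 := chkPair_rows s t
  simp only [chkPair, hs, ht, h, Bool.not_true, Bool.false_or, beq_self_eq_true, Bool.or_eq_true,
    Bool.not_eq_true', List.all_eq_false, List.mem_finRange, true_and, he, isFr, List.any_eq_true,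
    List.all_eq_true, beq_iff_eq, forall_const] at h1
  rcases h1 with ⟨k, hk⟩ | ⟨j, hj | hj⟩
  · simp at hk
  · exact ⟨j, 1, Or.inl rfl, funext fun k => by simpa using hj k⟩
  · exact ⟨j, -1, Or.inr rfl, funext fun k => by simpa using hj k⟩

end CfsgLib.Known.AltE8
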