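import Cfsg.Agent.Lib.Known.AltE8.Frame

/-!
# A symmetry of the frame has no eigenvalue of order sixteen modulo seventeen
-/

set_option autoImplicit false
set_option maxRecDepth 20000

namespace CfsgLib.Known.AltE8

open CfsgLib.Known.CyclicTorus (cE8 bE8 ipE8 ipE8_eq)
open scoped Matrix

/-- The value of a vector of the lattice. -/
def val17 (v : Fin 8 → ZMod 17) (x : Fin 8 → ℤ) : ZMod 17 := ∑ j, (x j : ZMod 17) * v j

theorem val17_add (v : Fin 8 → ZMod 17) (x y : Fin 8 → ℤ) : val17 v (x + y) = val17 v x + val17 v y := by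
  simp [val17, add_mul, Finset.sum_add_distrib]

theorem val17_smul (v : Fin 8 → ZMod 17) (u : ℤ) (x : Fin 8 → ℤ) : val17 v (u • x) = (u : ZMod 17) * val17 v x := by
  simp [val17, Finset.mul_sum, mul_assoc]

theorem ipE8_vecMul {M : Matrix (Fin 8) (Fin 8) ℤ} (hinv : M * bE8 * Mᵀ = bE8) (x y : Fin 8 → ℤ) :
    ipE8 (x ᵥ* M) (y ᵥ* M) = ipE8 x y := by
  rw [← ipE8_eq, ← ipE8_eq]
  conv_rhs => rw [← hinv]
  rw [← Matrix.mulVec_transpose M y, ← Matrix.dotProduct_mulVec, Matrix.mulVec_mulVec, Matrix.mulVec_mulVec,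
    Matrix.mul_assoc]

theorem ipE8_smul_left (u : ℤ) (x y : Fin 8 → ℤ) : ipE8 (u • x) y = u * ipE8 x y := by
  simp [ipE8]; ring

theorem ipE8_smul_right (u : ℤ) (x y : Fin 8 → ℤ) : ipE8 x (u • y) = u * ipE8 x y := by
  simp [ipE8]; ring

theorem ord_sixteen : ∀ c : ZMod 17, c ^ 8 = -1 → ∀ j : Fin 8, (j : ℕ) ≠ 0 → c ^ (2 * (j : ℕ)) ≠ 1 := by decide +kernel

theorem seventeen_ne : (2 : ZMod 17) ≠ 0 ∧ (4 : ZMod 17) ≠ 0 ∧ (0 : ZMod 17) ≠ -1 := by decide

/-- A permutation of the roots preserving the base class has no eigenvalue of order sixteen. -/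
theorem frame_fixed (π : Equiv.Perm (Fin 240)) (M : Matrix (Fin 8) (Fin 8) ℤ)
    (hM : ∀ r, cE8 r ᵥ* M = cE8 (π r)) (hinv : M * bE8 * Mᵀ = bE8)
    (hcls : ∀ r, evZ c17 (cE8 (π r)) = evZ c17 (cE8 r)) (v : Fin 8 → ZMod 17) {c : ZMod 17} (hc : c ^ 8 = -1)
    (hv : ∀ r, val17 v (cE8 (π r)) = c * val17 v (cE8 r)) : v = 0 := by
  classical
  have hfr : ∀ i, fr i = cE8 (frA i) + cE8 (frB i) := fun i => funext fun j => fr_eq i j
  have hfM : ∀ i, fr i ᵥ* M = cE8 (π (frA i)) + cE8 (π (frB i)) := fun i => by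
    rw [hfr, Matrix.add_vecMul, hM, hM]
  have himg : ∀ i, ∃ j, ∃ u : ℤ, (u = 1 ∨ u = -1) ∧ fr i ᵥ* M = u • fr j := by
    intro i
    obtain ⟨a, b, -, h0⟩ := fr_mem i
    rw [hfM]
    refine exists_fr (by rw [hcls, a]) (by rw [hcls, b]) (by rw [← hM, ← hM, ipE8_vecMul hinv, h0]) fun k => ?_
    obtain ⟨t, ht⟩ := π.surjective (simA k)
    rw [← hfM, ← ht, ← hM, ipE8_vecMul hinv]
    exact fr_even i t (by rw [← hcls, ht]; exact (fr_mem k).2.2.1)
  choose p u hu hp using himg
  have hu2 : ∀ i, u i * u i = 1 := fun i => by rcases hu i with h | h <;> simp [h]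
  have hpinj : Function.Injective p := fun i k e => by
    by_contra hik
    have h := ipE8_vecMul hinv (fr i) (fr k)
    rw [hp, hp, e, ipE8_smul_left, ipE8_smul_right, fr_gram, fr_gram, if_pos rfl, if_neg hik] at h
    rcases hu i with h1 | h1 <;> rcases hu k with h2 | h2 <;> simp [h1, h2] at h
  have hpbij : Function.Bijective p := Finite.injective_iff_bijective.1 hpinj
  -- the product of the signs
  obtain ⟨t, ht⟩ : ∃ t : Fin 240, evZ c17 (cE8 t) = false := ⟨3, by decide +kernel⟩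
  have hsign : ∏ i, u i = 1 := by
    have h1 := fr_spin (π t) (by rw [hcls]; exact ht)
    rw [← hpbij.prod_comp (fun i => ipE8 (fr i) (cE8 (π t)))] at h1
    have h2 : ∀ i, ipE8 (fr (p i)) (cE8 (π t)) = u i * ipE8 (fr i) (cE8 t) := fun i => by
      rw [← ipE8_vecMul hinv (fr i) (cE8 t), hp, hM, ipE8_smul_left, ← mul_assoc, hu2, one_mul]
    rw [Finset.prod_congr rfl fun i _ => h2 i, Finset.prod_mul_distrib, fr_spin t ht, mul_one] at h1
    exact h1
  obtain ⟨y, hy⟩ : ∃ y : Fin 8 → ZMod 17, ∀ i, y i = val17 v (fr i) := ⟨_, fun _ => rfl⟩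
  have hstep : ∀ i, (u i : ZMod 17) * y (p i) = c * y i := fun i => by
    rw [hy, hy, ← val17_smul, ← hp, hfM, val17_add, hv, hv, ← mul_add, ← val17_add, ← hfr]
  have hu17 : ∀ i, (u i : ZMod 17) * u i = 1 := fun i => by rw [← Int.cast_mul, hu2, Int.cast_one]
  -- a vanishing coordinate
  obtain ⟨i0, hi0⟩ : ∃ i, y i = 0 := by
    have h1 : ∏ i, ((u i : ZMod 17) * y (p i)) = ∏ i, c * y i := Finset.prod_congr rfl fun i _ => hstep i
    rw [Finset.prod_mul_distrib, Finset.prod_mul_distrib, hpbij.prod_comp y, ← Int.cast_prod, hsign,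
      Int.cast_one, one_mul, Finset.prod_const, Finset.card_univ, Fintype.card_fin, hc, neg_one_mul] at h1
    have h2 : (2 : ZMod 17) * ∏ i, y i = 0 := by linear_combination h1
    haveI : Fact (Nat.Prime 17) := ⟨by norm_num⟩
    obtain ⟨i, -, h⟩ := Finset.prod_eq_zero_iff.1 ((mul_eq_zero.1 h2).resolve_left seventeen_ne.1)
    exact ⟨i, h⟩
  have hzero : ∀ i, y i = 0 := by
    haveI : Fact (Nat.Prime 17) := ⟨by norm_num⟩
    intro i
    by_contra hi
    have hsq : ∀ j : ℕ, y (p^[j] i) ^ 2 = c ^ (2 * j) * y i ^ 2 := by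
      intro j
      induction j with
      | zero => simp
      | succ j ih =>
        rw [Function.iterate_succ_apply']
        have h1 := congrArg (· ^ 2) (hstep (p^[j] i))
        simp only [mul_pow, show ((u (p^[j] i) : ZMod 17)) ^ 2 = 1 by rw [sq, hu17], one_mul] at h1
        rw [h1, ih]
        ring
    have hne : ∀ j : Fin 8, (j : ℕ) ≠ 0 → p^[(j : ℕ)] i ≠ i := fun j hj e => by
      have h1 := hsq j
      rw [e] at h1
      exact ord_sixteen c hc j hj ((mul_eq_right₀ (pow_ne_zero 2 hi)).1 h1.symm)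
    have hinj : Function.Injective fun j : Fin 8 => p^[(j : ℕ)] i := by
      intro a b e
      by_contra hab
      rcases lt_or_gt_of_ne (Fin.val_ne_of_ne hab) with h | h
      · refine hne ⟨(b : ℕ) - a, by omega⟩ (by simp; omega) (hpinj.iterate a ?_)
        rw [← Function.iterate_add_apply]
        simpa [Nat.add_sub_cancel' h.le] using e.symm
      · refine hne ⟨(a : ℕ) - b, by omega⟩ (by simp; omega) (hpinj.iterate b ?_)
        rw [← Function.iterate_add_apply]
        simpa [Nat.add_sub_cancel' h.le] using e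
    obtain ⟨j, hj⟩ := (Finite.injective_iff_surjective.1 hinj) i0
    have h1 := hsq j
    simp only at hj
    rw [hj, hi0, zero_pow two_ne_zero, eq_comm, mul_eq_zero] at h1
    rcases h1 with h1 | h1
    · have hc0 : c = 0 := eq_zero_of_pow_eq_zero h1
      rw [hc0, zero_pow (by norm_num)] at hc
      exact seventeen_ne.2.2 hc
    · exact hi (eq_zero_of_pow_eq_zero h1)
  funext j
  haveI : Fact (Nat.Prime 17) := ⟨by norm_num⟩
  have h4 : (4 : ZMod 17) * v j = 0 := by
    calc (4 : ZMod 17) * v j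
        = ∑ k, ((∑ i, ipE8 (fr i) (Pi.single j 1) * fr i k : ℤ) : ZMod 17) * v k := by
          simp [fr_span]
      _ = ∑ i, (ipE8 (fr i) (Pi.single j 1) : ZMod 17) * y i := by
          simp only [hy, val17, Int.cast_sum, Int.cast_mul, Finset.sum_mul, Finset.mul_sum, mul_assoc]
          exact Finset.sum_comm
      _ = 0 := Finset.sum_eq_zero fun i _ => by rw [hzero, mul_zero]
  exact (mul_eq_zero.1 h4).resolve_left seventeen_ne.2.1

end CfsgLib.Known.AltE8
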