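import Cfsg.Agent.Lib.Known.AltE7.Exact

/-!
# Exact lifts of elementary abelian three subgroups with their normalisers
-/

set_option autoImplicit false

namespace CfsgLib.Known.AltE8

variable {H A : Type*} [Group H] [Finite H] [Group A]

/-- A normalising element conjugates as its image does. -/
theorem conj_eq {π : H →* A} (hker : ∀ x ∈ π.ker, ∀ j : ℕ, x ^ (3 ^ j) = 1 → x = 1)
    {n : ℕ} {s : Fin n → H} {t : Fin n → A} (hs : ∀ i, π (s i) = t i) (hpow : ∀ i, s i ^ 3 = 1)
    (hcomm : ∀ i j, s i * s j = s j * s i) {y : H}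
    (hy : y ∈ Subgroup.normalizer ((Subgroup.closure (Set.range s) : Subgroup H) : Set H)) {v : Fin n → Fin n → ℕ}
    (hv : ∀ i, (π y)⁻¹ * t i * π y = (List.ofFn fun j => t j ^ v i j).prod) (i : Fin n) :
    y⁻¹ * s i * y = (List.ofFn fun j => s j ^ v i j).prod := by
  obtain ⟨S, hS⟩ : ∃ S, S = Subgroup.closure (Set.range s) := ⟨_, rfl⟩
  rw [← hS] at hy
  haveI := Subgroup.isMulCommutative_closure (k := Set.range s) (by
    rintro _ ⟨i, rfl⟩ _ ⟨j, rfl⟩; exact hcomm i j)
  have hexp : ∀ x ∈ S, x ^ 3 = 1 := by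
    intro x hx
    rw [hS] at hx
    induction hx using Subgroup.closure_induction with
    | mem z hz => obtain ⟨i, rfl⟩ := hz; exact hpow i
    | one => exact one_pow _
    | mul u w hu hw ihu ihw =>
      have hc : Commute u w := congrArg Subtype.val
        (mul_comm' (⟨u, hu⟩ : Subgroup.closure (Set.range s)) ⟨w, hw⟩)
      rw [hc.mul_pow, ihu, ihw, mul_one]
    | inv u hu ihu => rw [inv_pow, ihu, inv_one]
  have hsS : ∀ i, s i ∈ S := fun i => hS ▸ Subgroup.subset_closure ⟨i, rfl⟩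
  have h1 : y⁻¹ * s i * y ∈ S := by
    simpa using (Subgroup.mem_normalizer_iff.1 (inv_mem hy) (s i)).1 (hsS i)
  have h2 : (List.ofFn fun j => s j ^ v i j).prod ∈ S := Subgroup.list_prod_mem _ fun w hw => by
    obtain ⟨j, rfl⟩ := List.mem_ofFn.1 hw
    exact pow_mem (hsS j) _
  refine (inv_mul_eq_one.1 (hker _ (MonoidHom.mem_ker.2 ?_) 1
    (by rw [pow_one]; exact hexp _ (mul_mem (inv_mem h2) h1)))).symm
  rw [map_mul, map_inv, map_mul, map_mul, map_inv, hs, hv, map_list_prod, List.map_ofFn, inv_mul_eq_one]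
  exact congrArg (fun f => (List.ofFn f).prod) (funext fun j => by simp [hs])

/-- Without kernel elements of order a power of three an elementary abelian group lifts with its normaliser. -/
theorem exists_norm_lifts {π : H →* A} (hπ : Function.Surjective π)
    (hker : ∀ x ∈ π.ker, ∀ j : ℕ, x ^ (3 ^ j) = 1 → x = 1) {n : ℕ} (t : Fin n → A) (hpow : ∀ i, t i ^ 3 = 1)
    (hcomm : ∀ i j, t i * t j = t j * t i) :
    ∃ s : Fin n → H, (∀ i, π (s i) = t i) ∧ (∀ i, s i ^ 3 = 1) ∧ (∀ i j, s i * s j = s j * s i) ∧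
      ∀ (a : A) (v : Fin n → Fin n → ℕ), (∀ i, a⁻¹ * t i * a = (List.ofFn fun j => t j ^ v i j).prod) →
        ∃ y ∈ Subgroup.normalizer ((Subgroup.closure (Set.range s) : Subgroup H) : Set H), π y = a ∧
          ∀ i, y⁻¹ * s i * y = (List.ofFn fun j => s j ^ v i j).prod := by
  classical
  haveI : Fact (Nat.Prime 3) := ⟨Nat.prime_three⟩
  obtain ⟨P, hP⟩ : ∃ P : Subgroup A, P = Subgroup.closure (Set.range t) := ⟨_, rfl⟩
  have htP : ∀ i, t i ∈ P := fun i => hP ▸ Subgroup.subset_closure ⟨i, rfl⟩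
  have hPl : ∀ x ∈ P, x ^ 3 = 1 := by
    intro x hx
    rw [hP] at hx
    haveI := Subgroup.isMulCommutative_closure (k := Set.range t) (by
      rintro _ ⟨i, rfl⟩ _ ⟨j, rfl⟩; exact hcomm i j)
    induction hx using Subgroup.closure_induction with
    | mem z hz => obtain ⟨i, rfl⟩ := hz; exact hpow i
    | one => exact one_pow _
    | mul u w hu hw ihu ihw =>
      have hc : Commute u w := congrArg Subtype.val
        (mul_comm' (⟨u, hu⟩ : Subgroup.closure (Set.range t)) ⟨w, hw⟩)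
      rw [hc.mul_pow, ihu, ihw, mul_one]
    | inv u hu ihu => rw [inv_pow, ihu, inv_one]
  obtain ⟨S, hS, hmap, hlift⟩ := AltTorus.exists_lift hπ (P := P)
    (fun x => ⟨1, Subtype.ext (by rw [pow_one]; exact hPl _ x.2)⟩)
  have heq : ∀ x ∈ S, ∀ y ∈ S, π x = π y → x = y := fun x hx y hy e => by
    obtain ⟨j, hj⟩ := hS ⟨y⁻¹ * x, mul_mem (inv_mem hy) hx⟩
    exact (inv_mul_eq_one.1 (hker (y⁻¹ * x) (MonoidHom.mem_ker.2 (by rw [map_mul, map_inv, e, inv_mul_cancel])) j
      (by simpa [Subtype.ext_iff] using hj))).symm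
  have hex : ∀ i, ∃ s ∈ S, π s = t i := fun i => by
    obtain ⟨s, hs, e⟩ := hmap.symm ▸ htP i
    exact ⟨s, hs, e⟩
  choose s hsS hs using hex
  have hsl : ∀ i, s i ^ 3 = 1 := fun i =>
    heq _ (pow_mem (hsS i) 3) _ (one_mem S) (by rw [map_pow, hs, hpow, map_one])
  have hsc : ∀ i j, s i * s j = s j * s i := fun i j => heq _ (mul_mem (hsS i) (hsS j)) _
    (mul_mem (hsS j) (hsS i)) (by rw [map_mul, map_mul, hs, hs, hcomm])
  have hle : Subgroup.closure (Set.range s) ≤ S :=
    (Subgroup.closure_le _).2 (by rintro _ ⟨i, rfl⟩; exact hsS i)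
  have hST : Subgroup.closure (Set.range s) = S := by
    refine le_antisymm hle fun x hx => ?_
    have h1 : π x ∈ (Subgroup.closure (Set.range s)).map π := by
      rw [MonoidHom.map_closure, ← Set.range_comp, show ⇑π ∘ s = t from funext hs, ← hP, ← hmap]
      exact ⟨x, hx, rfl⟩
    obtain ⟨w, hw, e⟩ := h1
    exact heq _ (hle hw) _ hx e ▸ hw
  refine ⟨s, hs, hsl, hsc, fun a v hav => ?_⟩
  have hinv : a⁻¹ ∈ Subgroup.normalizer (P : Set A) := by
    haveI : Finite A := Finite.of_surjective π hπ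
    refine Subgroup.mem_normalizer_fintype fun x hx => ?_
    show a⁻¹ * x * a⁻¹⁻¹ ∈ P
    rw [inv_inv]
    rw [SetLike.mem_coe, hP] at hx
    induction hx using Subgroup.closure_induction with
    | mem z hz =>
      obtain ⟨i, rfl⟩ := hz
      rw [hav]
      refine Subgroup.list_prod_mem _ fun w hw => ?_
      obtain ⟨j, rfl⟩ := List.mem_ofFn.1 hw
      exact pow_mem (htP j) _
    | one => simp
    | mul u w _ _ hu hw => simpa [mul_assoc] using mul_mem hu hw
    | inv u _ hu => simpa [mul_assoc] using inv_mem hu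
  obtain ⟨y, hy, hya⟩ := hlift a (by simpa using inv_mem hinv)
  rw [← hST] at hy
  exact ⟨y, hy, hya, conj_eq hker hs hsl hsc hy (by rw [hya]; exact hav)⟩

end CfsgLib.Known.AltE8
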