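import Cfsg.Agent.Lib.Known.AltE6.Weights

/-!
# Fixed points of an operator permuting weight spaces in orbits of three
-/

set_option autoImplicit false
set_option maxHeartbeats 400000

namespace CfsgLib.Known.AltE8

open Module
open CfsgLib.Perm.AltSection (eig mem_eig wsp mem_wsp)
open CfsgLib.Known.AltE6 (fixd System mult wt)

variable {k W : Type*} [Field k] [AddCommGroup W] [Module k W] [FiniteDimensional k W]
variable {ι : Type*} [Fintype ι] [DecidableEq ι] {l : ℕ} {t : ι → End k W} {ζ : k}

/-- Every orbit of three weight spaces contributes its first space to the fixed points, and so does every space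
on which the operator is trivial. -/
theorem le_fixd_of_orbits (h : System t ζ l) (T : End k W) (p : Equiv.Perm (ι → Fin l))
    (hstep : ∀ a, ∀ x ∈ wsp t (wt ζ a), T x ∈ wsp t (wt ζ (p a))) (hT : ∀ x, T (T (T x)) = x)
    (A B : Finset (ι → Fin l)) (hA : ∀ a ∈ A, ∀ x ∈ wsp t (wt ζ a), T x = x)
    (hB : ∀ b ∈ B, p b ∉ B ∪ A ∧ p (p b) ∉ B ∪ A ∧ b ∉ A) :
    ∑ a ∈ B ∪ A, mult t ζ a ≤ fixd T := by
  classical
  obtain ⟨R, hR⟩ : ∃ R, R = B ∪ A := ⟨_, rfl⟩
  rw [← hR]
  obtain ⟨Φ, hΦ⟩ : ∃ Φ : (∀ a : ↥R, ↥(wsp t (wt ζ (a : ι → Fin l)))) →ₗ[k] W, ∀ f,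
      Φ f = ∑ a : ↥R, if (a : ι → Fin l) ∈ A then (f a : W) else ((f a : W) + T (f a : W) + T (T (f a : W))) := by
    refine ⟨∑ a : ↥R, (if (a : ι → Fin l) ∈ A then LinearMap.id else (LinearMap.id + T + T.comp T)).comp
      ((Submodule.subtype _).comp (LinearMap.proj a)), fun f => ?_⟩
    rw [LinearMap.sum_apply]
    refine Finset.sum_congr rfl fun a _ => ?_
    by_cases ha : (a : ι → Fin l) ∈ A <;> simp [ha]
  have hrange : ∀ f, Φ f ∈ eig T (1 : k) := fun f => by
    refine mem_eig.2 ?_
    rw [one_smul, hΦ, map_sum]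
    refine Finset.sum_congr rfl fun a _ => ?_
    by_cases ha : (a : ι → Fin l) ∈ A
    · rw [if_pos ha]; exact hA _ ha _ (f a).2
    · rw [if_neg ha, map_add, map_add, hT]; abel
  have hinj : Function.Injective Φ := by
    rw [injective_iff_map_eq_zero]
    intro f hf
    obtain ⟨X, hX⟩ : ∃ X : (ι → Fin l) → W, ∀ a, X a = if ha : a ∈ R then (f ⟨a, ha⟩ : W) else 0 :=
      ⟨_, fun _ => rfl⟩
    obtain ⟨c, hc⟩ : ∃ c : (ι → Fin l) → W, ∀ a, c a = (if a ∈ R then X a else 0) +
        (if p.symm a ∈ B then T (X (p.symm a)) else 0) +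
        (if p.symm (p.symm a) ∈ B then T (T (X (p.symm (p.symm a)))) else 0) := ⟨_, fun _ => rfl⟩
    have hXw : ∀ a, X a ∈ wsp t (wt ζ a) := fun a => by
      rw [hX]
      split
      · next ha => exact (f ⟨a, ha⟩).2
      · exact zero_mem _
    have hcw : ∀ a, c a ∈ wsp t (wt ζ a) := fun a => by
      rw [hc]
      refine add_mem (add_mem ?_ ?_) ?_ <;> split
      · exact hXw a
      · exact zero_mem _
      · simpa using hstep _ _ (hXw (p.symm a))
      · exact zero_mem _
      · simpa using hstep _ _ (hstep _ _ (hXw (p.symm (p.symm a))))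
      · exact zero_mem _
    have hsum : ∑ a, c a = 0 := by
      have e2 : ∑ a, (if p.symm a ∈ B then T (X (p.symm a)) else 0) = ∑ a, if a ∈ B then T (X a) else 0 :=
        Equiv.sum_comp p.symm fun a => if a ∈ B then T (X a) else 0
      have e3 : ∑ a, (if p.symm (p.symm a) ∈ B then T (T (X (p.symm (p.symm a)))) else 0) =
          ∑ a, if a ∈ B then T (T (X a)) else 0 :=
        Equiv.sum_comp (p.symm.trans p.symm) fun a => if a ∈ B then T (T (X a)) else 0
      rw [Finset.sum_congr rfl fun a _ => hc a, Finset.sum_add_distrib, Finset.sum_add_distrib, e2, e3,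
        ← Finset.sum_add_distrib, ← Finset.sum_add_distrib,
        ← Finset.sum_subset (Finset.subset_univ R) (fun a _ ha => by
          have hn : a ∉ B := fun hb => ha (hR ▸ Finset.mem_union_left _ hb)
          simp [ha, hn]),
        ← Finset.sum_coe_sort R]
      refine Eq.trans ?_ hf
      rw [hΦ]
      refine Finset.sum_congr rfl fun a _ => ?_
      have haR : (a : ι → Fin l) ∈ R := a.2
      rw [if_pos haR, hX, dif_pos haR]
      by_cases ha : (a : ι → Fin l) ∈ A
      · have hn : (a : ι → Fin l) ∉ B := fun hb => (hB _ hb).2.2 ha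
        simp [ha, hn]
      · have hn : (a : ι → Fin l) ∈ B := (Finset.mem_union.1 (hR ▸ haR)).resolve_right ha
        simp [ha, hn]
    funext a
    refine Subtype.ext ?_
    have h0 := h.eq_zero hcw hsum (a : ι → Fin l)
    have haR : (a : ι → Fin l) ∈ R := a.2
    have h1 : p.symm (a : ι → Fin l) ∉ B := fun hb => by
      have := (hB _ hb).1
      rw [Equiv.apply_symm_apply] at this
      exact this (hR ▸ haR)
    have h2 : p.symm (p.symm (a : ι → Fin l)) ∉ B := fun hb => by
      have := (hB _ hb).2.1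
      rw [Equiv.apply_symm_apply, Equiv.apply_symm_apply] at this
      exact this (hR ▸ haR)
    rw [hc, if_pos haR, if_neg h1, if_neg h2, add_zero, add_zero, hX, dif_pos haR] at h0
    exact h0
  have hle := LinearMap.finrank_le_finrank_of_injective
    (f := LinearMap.codRestrict (eig T (1 : k)) Φ hrange)
    fun a b e => hinj (congrArg Subtype.val e)
  rw [Module.finrank_pi_fintype] at hle
  refine le_trans (le_of_eq ?_) hle
  exact (Finset.sum_coe_sort R fun a => mult t ζ a).symm

end CfsgLib.Known.AltE8
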