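import Cfsg.Agent.Lib.Known.AltE8.Kernel
import Cfsg.Agent.Lib.Known.AltE8.Facts
import Cfsg.Agent.Lib.Known.AltE8.Lift
import Cfsg.Agent.Lib.Known.AltE8.Orbits
import Cfsg.Agent.Lib.Known.AltE6.Lifts

/-!
# No alternating group of degree eighteen inside groups of type E8 in characteristic different from three
-/

set_option autoImplicit false
set_option maxRecDepth 20000
set_option maxHeartbeats 1000000

namespace CfsgLib.Known.AltE8

open Module
open CfsgLib.Perm.AltSection (eig mem_eig wsp mem_wsp)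
open CfsgLib.Known.AltE6 (fixd fixd_one System mult wt map_wsp prod_pow_apply Triv IsLiftOf fixd_lift_unique
  exists_conj_alt dd dd_eq dd_conj)
open CfsgLib.Known.AltE7 (actf exists_exact_lifts)

variable {k V H : Type*} [Field k] [AddCommGroup V] [Module k V] [FiniteDimensional k V] [Group H] [Finite H]

theorem eq_one_of_fixd {g : End k V} (h : fixd g = finrank k V) : g = 1 := by
  refine LinearMap.ext fun x => ?_
  have htop : eig g (1 : k) = ⊤ := Submodule.eq_top_of_finrank_eq h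
  have := mem_eig.1 (htop ▸ Submodule.mem_top : x ∈ eig g (1 : k))
  simpa using this

/-- The representation on an invariant subspace. -/
def onSub {K : Type*} [Group K] (σ : K →* End k V) (W : Submodule k V) (hW : ∀ y, ∀ x ∈ W, σ y x ∈ W) :
    K →* End k W where
  toFun y := (σ y).restrict (hW y)
  map_one' := LinearMap.ext fun x => Subtype.ext (by simp)
  map_mul' a b := LinearMap.ext fun x => Subtype.ext (by simp)

omit [FiniteDimensional k V] in
theorem onSub_apply {K : Type*} [Group K] (σ : K →* End k V) (W : Submodule k V)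
    (hW : ∀ y, ∀ x ∈ W, σ y x ∈ W) (y : K) (x : W) : (onSub σ W hW y x : V) = σ y x := rfl

/-- The matrix of the permutation of two commuting elements. -/
def gMat : Fin 2 → Fin 2 → ℕ := ![![0, 1], ![2, 0]]

theorem gMat_orbit : ∀ μ : Fin 2 → Fin 3, μ ≠ 0 →
    [μ, actf 3 gMat μ, actf 3 gMat (actf 3 gMat μ), actf 3 gMat (actf 3 gMat (actf 3 gMat μ))].Nodup := by
  decide +kernel

theorem gMat_four : ∀ μ : Fin 2 → Fin 3, actf 3 gMat (actf 3 gMat (actf 3 gMat (actf 3 gMat μ))) = μ := by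
  decide +kernel

/-- Two commuting elements with a fixed point free permutation act trivially on a plane. -/
theorem trivial_on_plane {W : Type*} [AddCommGroup W] [Module k W] [FiniteDimensional k W] {K : Type*} [Group K]
    (σ : K →* End k W) (h3 : ((3 : ℕ) : k) ≠ 0) {ζ : k} (hζ : IsPrimitiveRoot ζ 3) (hdim : finrank k W = 2)
    (z : Fin 2 → K) (hz : ∀ i, z i ^ 3 = 1) (hc : ∀ i j, z i * z j = z j * z i) (y : K)
    (hy : ∀ i, y⁻¹ * z i * y = (List.ofFn fun j => z j ^ gMat i j).prod) : σ (z 0) = 1 := by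
  classical
  have hsys : System (fun i => σ (z i)) ζ 3 :=
    ⟨fun i => by rw [← map_pow, hz, map_one], fun i j => (show Commute (z i) (z j) from hc i j).map σ, hζ, h3⟩
  obtain ⟨p, hp⟩ : ∃ p : Equiv.Perm (Fin 2 → Fin 3), ∀ a, p a = actf 3 gMat a :=
    ⟨⟨actf 3 gMat, fun a => actf 3 gMat (actf 3 gMat (actf 3 gMat a)), gMat_four, fun a => gMat_four a⟩,
      fun _ => rfl⟩
  have hinv : ∀ a, mult (fun i => σ (z i)) ζ (p a) = mult (fun i => σ (z i)) ζ a := fun a => by
    refine hsys.mult_perm (σ y) (fun x x' e => ?_) p (fun b x hx => ?_) a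
    · have := congrArg (σ y⁻¹) e
      rwa [← End.mul_apply, ← End.mul_apply, ← map_mul, inv_mul_cancel, map_one] at this
    · refine map_wsp hsys.root.pow_eq_one _ gMat (fun i => ?_) b _ (fun i => ?_) hx
      · have e : (List.ofFn fun j => σ (z j) ^ gMat i j).prod = σ (List.ofFn fun j => z j ^ gMat i j).prod := by
          rw [map_list_prod, List.map_ofFn]
          exact congrArg (fun f => (List.ofFn f).prod) (funext fun j => by simp)
        rw [e, ← map_mul, ← map_mul, ← hy i]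
        congr 1
        group
      · rw [hp, actf, Fin.val_ofNat]
  have hzero : ∀ μ : Fin 2 → Fin 3, μ ≠ 0 → mult (fun i => σ (z i)) ζ μ = 0 := fun μ hμ => by
    have hnd := gMat_orbit μ hμ
    have h4 : ∀ a ∈ ([μ, actf 3 gMat μ, actf 3 gMat (actf 3 gMat μ),
        actf 3 gMat (actf 3 gMat (actf 3 gMat μ))] : List (Fin 2 → Fin 3)),
        mult (fun i => σ (z i)) ζ a = mult (fun i => σ (z i)) ζ μ := by
      simp only [← hp, List.mem_cons, List.not_mem_nil, or_false, forall_eq_or_imp, forall_eq, hinv, and_self]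
    have hle := Finset.sum_le_sum_of_subset (f := mult (fun i => σ (z i)) ζ)
      (Finset.subset_univ (List.toFinset [μ, actf 3 gMat μ, actf 3 gMat (actf 3 gMat μ),
        actf 3 gMat (actf 3 gMat (actf 3 gMat μ))]))
    rw [Finset.sum_const_nat fun a ha => h4 a (List.mem_toFinset.1 ha), List.toFinset_card_of_nodup hnd,
      hsys.sum_mult, hdim] at hle
    simp only [List.length_cons, List.length_nil] at hle
    omega
  refine eq_one_of_fixd ?_
  have h := hsys.fixd_prod ![1, 0]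
  rw [show (List.ofFn fun i => σ (z i) ^ (![1, 0] : Fin 2 → ℕ) i).prod = σ (z 0) by simp [List.ofFn_succ]] at h
  rw [h, ← hsys.sum_mult]
  refine Finset.sum_subset (Finset.subset_univ _) fun μ _ hμ => hzero μ fun e => hμ ?_
  simp [e]

omit [FiniteDimensional k V] in
/-- A normalising element maps weight spaces as its matrix does. -/
theorem map_act {σ : H →* End k V} {n : ℕ} {s : Fin n → H} {ζ : k} (hζ : ζ ^ 3 = 1) {y : H}
    {v : Fin n → Fin n → ℕ} (hy : ∀ i, y⁻¹ * s i * y = (List.ofFn fun j => s j ^ v i j).prod)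
    (lam : Fin n → Fin 3) {x : V} (hx : x ∈ wsp (fun i => σ (s i)) (wt ζ lam)) :
    σ y x ∈ wsp (fun i => σ (s i)) (wt ζ (actf 3 v lam)) := by
  refine map_wsp hζ _ v (fun i => ?_) lam _ (fun i => by rw [actf, Fin.val_ofNat]) hx
  have e : (List.ofFn fun j => σ (s j) ^ v i j).prod = σ (List.ofFn fun j => s j ^ v i j).prod := by
    rw [map_list_prod, List.map_ofFn]
    exact congrArg (fun f => (List.ofFn f).prod) (funext fun j => by simp)
  rw [e, ← map_mul, ← map_mul, ← hy i]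
  congr 1
  group

/-- A faithful representation of dimension 248 of a cover with these dimensions does not exist. -/
theorem false_of_rep {π : H →* alternatingGroup (Fin 18)} (hπ : Function.Surjective π)
    (hker : ∀ x ∈ π.ker, ∀ j : ℕ, x ^ (3 ^ j) = 1 → x = 1) (σ : H →* End k V) (hσ : Function.Injective σ)
    (hdim : finrank k V = 248) {ζ : k} (hζ : IsPrimitiveRoot ζ 3) (h3 : ((3 : ℕ) : k) ≠ 0)
    (hd : ∀ u : H, u ^ 3 = 1 → fixd (σ u) ∈ dims) : False := by
  classical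
  haveI : Fact (Nat.Prime 3) := ⟨Nat.prime_three⟩
  have hdims : ∀ u : H, u ^ 3 = 1 → u ≠ 1 → inDims (fixd (σ u)) = true := fun u hu hu1 => by
    have hne : fixd (σ u) ≠ 248 := fun e => hu1 (hσ (by rw [map_one, eq_one_of_fixd (e.trans hdim.symm)]))
    have hm := hd u hu
    simp only [dims, List.mem_cons, List.not_mem_nil, or_false] at hm
    rcases hm with h | h | h | h | h | h | h | h | h | h | h | h | h | h | h | h <;>
      first | exact absurd h hne | (rw [h]; decide)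
  obtain ⟨f1, f2, f3⟩ := t8_facts
  obtain ⟨s, hs, hsl, hsc, hlift'⟩ := exists_norm_lifts hπ hker t8 f1 f2
  obtain ⟨N0, hN0⟩ : ∃ N0, N0 = Subgroup.normalizer ((Subgroup.closure (Set.range s) : Subgroup H) : Set H) :=
    ⟨_, rfl⟩
  have hlift : ∀ a (v : Fin 6 → Fin 6 → ℕ), (∀ i, a⁻¹ * t8 i * a = (List.ofFn fun j => t8 j ^ v i j).prod) →
      ∃ y ∈ N0, π y = a ∧ ∀ i, y⁻¹ * s i * y = (List.ofFn fun j => s j ^ v i j).prod := hN0 ▸ hlift'
  have hsys : System (fun i => σ (s i)) ζ 3 :=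
    ⟨fun i => by rw [← map_pow, hsl, map_one], fun i j => (show Commute (s i) (s j) from hsc i j).map σ, hζ, h3⟩
  -- the multiplicities
  have hclass : ∀ lam, mult (fun i => σ (s i)) ζ lam = mult (fun i => σ (s i)) ζ (repv (cls8 lam)) := by
    intro lam
    induction hN : code8 lam using Nat.strong_induction_on generalizing lam with
    | _ N ih =>
      rcases descent8 lam with h | ⟨g, hg, hlt⟩
      · rw [← h]
      obtain ⟨y, -, -, hy⟩ := hlift g.1 g.2.1 (gens8_norm g hg)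
      obtain ⟨p, hp⟩ : ∃ p : Equiv.Perm (Fin 6 → Fin 3), ∀ a, p a = actf 3 g.2.1 a :=
        ⟨Equiv.ofBijective _ (Finite.injective_iff_bijective.1
          (Function.LeftInverse.injective fun a => (gens8_inv g hg a).1)), fun _ => rfl⟩
      have hperm := hsys.mult_perm (σ y) (fun x x' e => by
          have := congrArg (σ y⁻¹) e
          rwa [← End.mul_apply, ← End.mul_apply, ← map_mul, inv_mul_cancel, map_one] at this)
        p (fun b x hx => by rw [hp]; exact map_act hζ.pow_eq_one hy b hx) lam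
      rw [← hperm, hp, ih _ (hN ▸ hlt) _ rfl, (gens8_inv g hg lam).2]
  obtain ⟨M, hM⟩ : ∃ M : Fin 7 → ℕ, ∀ j, M j = mult (fun i => σ (s i)) ζ (repv j) := ⟨_, fun _ => rfl⟩
  have hm : ∀ lam, mult (fun i => σ (s i)) ζ lam = M (cls8 lam) := fun lam => by rw [hM, hclass]
  have hrow : ∀ k : Fin 7, fixd (List.ofFn fun i => σ (s i) ^ vk k i).prod =
      dimK (M 0) (M 1) (M 2) (M 3) (M 4) (M 5) (M 6) k := fun k => by
    rw [hsys.fixd_prod, Finset.sum_congr rfl fun lam _ => hm lam, ← Finset.sum_fiberwise _ cls8,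
      Finset.sum_congr rfl fun j _ => by
        rw [Finset.sum_congr rfl fun lam hlam => by rw [(Finset.mem_filter.1 hlam).2], Finset.sum_const, smul_eq_mul,
          tab8_ok k j],
      Fin.sum_univ_seven, dimK]
    fin_cases k <;> simp [tab8, add_assoc]
  have hprod : ∀ k : Fin 7, σ (List.ofFn fun i => s i ^ vk k i).prod = (List.ofFn fun i => σ (s i) ^ vk k i).prod ∧
      π (List.ofFn fun i => s i ^ vk k i).prod = (List.ofFn fun i => t8 i ^ vk k i).prod ∧
      (List.ofFn fun i => s i ^ vk k i).prod ^ 3 = 1 := fun k => by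
    refine ⟨?_, ?_, ?_⟩
    · rw [map_list_prod, List.map_ofFn]
      exact congrArg (fun f => (List.ofFn f).prod) (funext fun i => by simp)
    · rw [map_list_prod, List.map_ofFn]
      exact congrArg (fun f => (List.ofFn f).prod) (funext fun i => by simp [hs])
    · haveI := Subgroup.isMulCommutative_closure (k := Set.range s) (by
        rintro _ ⟨i, rfl⟩ _ ⟨j, rfl⟩; exact hsc i j)
      have hpowS : ∀ x ∈ Subgroup.closure (Set.range s), x ^ 3 = 1 := fun x hx => by
        induction hx using Subgroup.closure_induction with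
        | mem z hz => obtain ⟨i, rfl⟩ := hz; exact hsl i
        | one => exact one_pow _
        | mul u w hu hw ihu ihw =>
          have hc : Commute u w := congrArg Subtype.val
            (mul_comm' (⟨u, hu⟩ : Subgroup.closure (Set.range s)) ⟨w, hw⟩)
          rw [hc.mul_pow, ihu, ihw, mul_one]
        | inv u hu ihu => rw [inv_pow, ihu, inv_one]
      exact hpowS _ (Subgroup.list_prod_mem _ fun w hw => by
        obtain ⟨j, rfl⟩ := List.mem_ofFn.1 hw
        exact pow_mem (Subgroup.subset_closure (Set.mem_range_self j)) _)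
  obtain ⟨q0, q1, q2, q3, q4, q5, q6⟩ := profile (m0 := M 0) (m1 := M 1) (m2 := M 2) (m3 := M 3) (m4 := M 4)
    (m5 := M 5) (m6 := M 6) (by
      have h := hrow 0
      rw [show (List.ofFn fun i => σ (s i) ^ vk 0 i).prod = 1 by simp [vk, List.ofFn_succ], fixd_one, hdim] at h
      simp [dimK, tab8] at h
      omega) fun k hk => by
      obtain ⟨e1, e2, e3⟩ := hprod k
      rw [← hrow, ← e1]
      exact hdims _ e3 fun e => f3 k hk (by rw [← e2, e, map_one])
  have hmW : ∀ lam, mult (fun i => σ (s i)) ζ lam = ([12, 4, 1, 0, 0, 0, 2] : List ℕ).getD (cls8 lam) 0 :=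
    fun lam => by
    rw [hm]
    generalize cls8 lam = j
    fin_cases j <;> simp [q0, q1, q2, q3, q4, q5, q6]
  -- the lift of the permutation of the cycles
  obtain ⟨t1, t2, t3, t4, t5⟩ := top_facts
  obtain ⟨π0, hπ0⟩ : ∃ π0 : N0 →* ↥((π.comp N0.subtype).range), π0 = (π.comp N0.subtype).rangeRestrict :=
    ⟨_, rfl⟩
  have hπ0v : ∀ y : N0, ((π0 y : ↥((π.comp N0.subtype).range)) : alternatingGroup (Fin 18)) = π y := fun y => by
    rw [hπ0]; rfl
  have hker0 : ∀ x ∈ π0.ker, ∀ j : ℕ, x ^ (3 ^ j) = 1 → x = 1 := fun x hx j hj =>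
    Subtype.ext (hker _ (MonoidHom.mem_ker.2 (by rw [← hπ0v, MonoidHom.mem_ker.1 hx]; rfl)) j
      (by rw [← Subgroup.coe_pow, hj]; rfl))
  obtain ⟨y, hyN, hyπ, -⟩ := hlift top topV t2
  obtain ⟨Y0, hY0π, hY03, -, -⟩ := exists_exact_lifts (l := 3) (π := π0) (by
      rw [hπ0]; exact MonoidHom.rangeRestrict_surjective _) hker0
    (fun _ : Fin 1 => ⟨top, ⟨⟨y, hyN⟩, hyπ⟩⟩) (fun _ => Subtype.ext t1) (fun _ _ => rfl)
  obtain ⟨Y, hY⟩ : ∃ Y : H, Y = (Y0 0 : H) := ⟨_, rfl⟩
  have hYN : Y ∈ N0 := hY ▸ (Y0 0).2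
  have hYπ : π Y = top := by
    rw [hY, ← hπ0v, hY0π]
  have hY3 : Y ^ 3 = 1 := by rw [hY, ← Subgroup.coe_pow, hY03]; rfl
  have hYs : ∀ i, Y⁻¹ * s i * Y = (List.ofFn fun j => s j ^ topV i j).prod :=
    conj_eq hker hs hsl hsc (hN0 ▸ hYN) (by rw [hYπ]; exact t2)
  -- trivial on the fixed weights of full support
  have htriv : ∀ lam ∈ fixW, ∀ x ∈ wsp (fun i => σ (s i)) (wt ζ lam), σ Y x = x := by
    intro lam hlam
    simp only [fixW, Finset.mem_filter, Finset.mem_univ, true_and] at hlam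
    obtain ⟨⟨μ, ⟨c2, vc⟩, ⟨g, vg⟩⟩, hmem, rfl⟩ := stab_cover lam hlam.1 hlam.2
    obtain ⟨n1, n2, n3, n4, n5, n6, n7, n8, n9⟩ := stab_norm _ hmem
    obtain ⟨W, hW⟩ : ∃ W, W = wsp (fun i => σ (s i)) (wt ζ μ) := ⟨_, rfl⟩
    obtain ⟨K, hK⟩ : ∃ K : Subgroup H, ∀ z, z ∈ K ↔ ∀ x ∈ W, σ z x ∈ W := by
      have hmul : ∀ {a b : H}, (∀ x ∈ W, σ a x ∈ W) → (∀ x ∈ W, σ b x ∈ W) → ∀ x ∈ W, σ (a * b) x ∈ W :=
        fun ha hb x hx => by rw [map_mul, End.mul_apply]; exact ha _ (hb x hx)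
      refine ⟨{ carrier := {z | ∀ x ∈ W, σ z x ∈ W}, mul_mem' := hmul,
                one_mem' := fun x hx => by rw [map_one]; exact hx, inv_mem' := fun {a} ha => ?_ }, fun _ => Iff.rfl⟩
      have hp : ∀ j : ℕ, ∀ x ∈ W, σ (a ^ j) x ∈ W := by
        intro j
        induction j with
        | zero => intro x hx; rw [pow_zero, map_one]; exact hx
        | succ j ih => rw [pow_succ]; exact hmul ih ha
      obtain ⟨j, hj⟩ : ∃ j : ℕ, a ^ j = a⁻¹ := ⟨orderOf a - 1, eq_inv_of_mul_eq_one_left (by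
        rw [← pow_succ, Nat.sub_add_cancel (orderOf_pos a), pow_orderOf_eq_one])⟩
      exact hj ▸ hp j
    have hpres : ∀ z ∈ N0, ∀ v, (∀ i, (π z)⁻¹ * t8 i * π z = (List.ofFn fun j => t8 j ^ v i j).prod) →
        actf 3 v μ = μ → z ∈ K := fun z hz v hv hfix => (hK z).2 fun x hx => by
      rw [hW] at hx ⊢
      have := map_act (σ := σ) hζ.pow_eq_one (conj_eq hker hs hsl hsc (hN0 ▸ hz) hv) μ hx
      rwa [hfix] at this
    obtain ⟨π1, hπ1⟩ : ∃ π1 : ↥(N0 ⊓ K) →* ↥((π.comp (N0 ⊓ K).subtype).range),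
        π1 = (π.comp (N0 ⊓ K).subtype).rangeRestrict := ⟨_, rfl⟩
    have hπ1v : ∀ z : ↥(N0 ⊓ K), ((π1 z : ↥((π.comp (N0 ⊓ K).subtype).range)) : alternatingGroup (Fin 18)) = π z :=
      fun z => by rw [hπ1]; rfl
    have hker1 : ∀ x ∈ π1.ker, ∀ j : ℕ, x ^ (3 ^ j) = 1 → x = 1 := fun x hx j hj =>
      Subtype.ext (hker _ (MonoidHom.mem_ker.2 (by rw [← hπ1v, MonoidHom.mem_ker.1 hx]; rfl)) j
        (by rw [← Subgroup.coe_pow, hj]; rfl))
    have hYK : Y ∈ K := hpres Y hYN topV (by rw [hYπ]; exact t2) n7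
    obtain ⟨z2, hz2N, hz2π, -⟩ := hlift c2 vc n1
    obtain ⟨zg, hzgN, hzgπ, -⟩ := hlift g vg n2
    have hz2K : z2 ∈ K := hpres z2 hz2N vc (by rw [hz2π]; exact n1) n8
    have hzgK : zg ∈ K := hpres zg hzgN vg (by rw [hzgπ]; exact n2) n9
    obtain ⟨T, hT0, hT1⟩ : ∃ T : Fin 2 → ↥((π.comp (N0 ⊓ K).subtype).range),
        (T 0 : alternatingGroup (Fin 18)) = top ∧ (T 1 : alternatingGroup (Fin 18)) = c2 :=
      ⟨![⟨top, ⟨⟨Y, hYN, hYK⟩, hYπ⟩⟩, ⟨c2, ⟨⟨z2, hz2N, hz2K⟩, hz2π⟩⟩], rfl, rfl⟩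
    obtain ⟨z, hzπ, hz3, hzc, hznorm⟩ := exists_exact_lifts (l := 3) (π := π1) (by
        rw [hπ1]; exact MonoidHom.rangeRestrict_surjective _) hker1 T
      (fun i => Subtype.ext (by fin_cases i <;> simp [hT0, hT1, t1, n3]))
      (fun i j => Subtype.ext (by fin_cases i <;> fin_cases j <;> simp [hT0, hT1, n4]))
    obtain ⟨y', hy'⟩ := hznorm ⟨g, ⟨⟨zg, hzgN, hzgK⟩, hzgπ⟩⟩ gMat (fun i => Subtype.ext (by
      fin_cases i <;> simp [gMat, List.ofFn_succ, hT0, hT1, n5, n6]))
    have hWinv : ∀ z : ↥(N0 ⊓ K), ∀ x ∈ W, σ (z : H) x ∈ W := fun z => (hK _).1 z.2.2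
    obtain ⟨σW, hσW⟩ : ∃ σW, σW = onSub (σ.comp (N0 ⊓ K).subtype) W hWinv := ⟨_, rfl⟩
    have hdimW : finrank k W = 2 := by
      have := hmW μ
      rw [hlam.2] at this
      rw [hW]
      exact this
    have h0 : σW (z 0) = 1 := trivial_on_plane σW h3 hζ hdimW z hz3 hzc y' hy'
    have hYlift : IsLiftOf π1 3 (T 0) ⟨Y, hYN, hYK⟩ :=
      ⟨Subtype.ext (by rw [hπ1v, hT0]; exact hYπ), 1, Subtype.ext (by rw [Subgroup.coe_pow, pow_one]; exact hY3)⟩
    have hzlift : IsLiftOf π1 3 (T 0) (z 0) := ⟨hzπ 0, 1, by rw [pow_one]; exact hz3 0⟩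
    have htrivσ : Triv π1 σW 3 := fun x hx j hj => by rw [hker1 x hx j hj, map_one]
    have h1 : σW ⟨Y, hYN, hYK⟩ = 1 := eq_one_of_fixd (by
      rw [fixd_lift_unique htrivσ hYlift hzlift, h0, fixd_one])
    intro x hx
    have h2 := congrArg (fun T : End k W => ((T ⟨x, hW ▸ hx⟩ : W) : V)) h1
    rw [hσW] at h2
    exact (onSub_apply (σ.comp (N0 ⊓ K).subtype) W hWinv _ _).symm.trans h2
  -- the fixed points of the lift
  have h88 : 88 ≤ fixd (σ Y) := by
    obtain ⟨p, hp⟩ : ∃ p : Equiv.Perm (Fin 6 → Fin 3), ∀ a, p a = actf 3 topV a :=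
      ⟨⟨actf 3 topV, fun a => actf 3 topV (actf 3 topV a), top_cube, top_cube⟩, fun _ => rfl⟩
    have hY3' : ∀ x, σ Y (σ Y (σ Y x)) = x := fun x => by
      rw [← End.mul_apply, ← End.mul_apply, ← map_mul, ← map_mul,
        show Y * Y * Y = 1 by rw [← pow_two, ← pow_succ, hY3], map_one, End.one_apply]
    have h := le_fixd_of_orbits hsys (σ Y) p
      (fun a x hx => by rw [hp]; exact map_act hζ.pow_eq_one hYs a hx) hY3' fixW minW htriv
      (fun b hb => by rw [hp, hp]; exact minW_ok b hb)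
    rw [Finset.sum_congr rfl fun lam _ => hmW lam] at h
    exact weights_count.ge.trans h
  have h86 : fixd (σ Y) = 86 := by
    obtain ⟨e1, e2, e3⟩ := hprod 3
    have htrivσ : Triv π σ 3 := fun x hx j hj => by rw [hker x hx j hj, map_one]
    obtain ⟨g, hg⟩ := exists_conj_alt t4 t1 t3 (c := Equiv.swap 9 10) (by decide +kernel) t5
    rw [← dd_eq htrivσ (a := top) ⟨hYπ, 1, by rw [pow_one]; exact hY3⟩, ← hg, dd_conj hπ htrivσ t4,
      dd_eq htrivσ ⟨e2, 1, by rw [pow_one]; exact e3⟩, e1, hrow, q0, q1, q2, q3, q4, q5, q6]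
    decide +kernel
  omega

end CfsgLib.Known.AltE8
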