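import Cfsg.Agent.Lib.Known.AltE7.Elements

/-!
# Six three cycles in the alternating group of degree eighteen with normalising elements
-/

set_option autoImplicit false
set_option maxRecDepth 20000
set_option maxHeartbeats 2000000

namespace CfsgLib.Known.AltE8

open CfsgLib.Known.AltE7 (alt)

/-- Six disjoint three cycles. -/
def t8 : Fin 6 → alternatingGroup (Fin 18) :=
  ![alt ⟨![1, 2, 0, 3, 4, 5, 6, 7, 8, 9, 10, 11, 12, 13, 14, 15, 16, 17], ![2, 0, 1, 3, 4, 5, 6, 7, 8, 9, 10, 11, 12, 13, 14, 15, 16, 17], by decide +kernel, by decide +kernel⟩ (by decide +kernel),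
    alt ⟨![0, 1, 2, 4, 5, 3, 6, 7, 8, 9, 10, 11, 12, 13, 14, 15, 16, 17], ![0, 1, 2, 5, 3, 4, 6, 7, 8, 9, 10, 11, 12, 13, 14, 15, 16, 17], by decide +kernel, by decide +kernel⟩ (by decide +kernel),
    alt ⟨![0, 1, 2, 3, 4, 5, 7, 8, 6, 9, 10, 11, 12, 13, 14, 15, 16, 17], ![0, 1, 2, 3, 4, 5, 8, 6, 7, 9, 10, 11, 12, 13, 14, 15, 16, 17], by decide +kernel, by decide +kernel⟩ (by decide +kernel),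
    alt ⟨![0, 1, 2, 3, 4, 5, 6, 7, 8, 10, 11, 9, 12, 13, 14, 15, 16, 17], ![0, 1, 2, 3, 4, 5, 6, 7, 8, 11, 9, 10, 12, 13, 14, 15, 16, 17], by decide +kernel, by decide +kernel⟩ (by decide +kernel),
    alt ⟨![0, 1, 2, 3, 4, 5, 6, 7, 8, 9, 10, 11, 13, 14, 12, 15, 16, 17], ![0, 1, 2, 3, 4, 5, 6, 7, 8, 9, 10, 11, 14, 12, 13, 15, 16, 17], by decide +kernel, by decide +kernel⟩ (by decide +kernel),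
    alt ⟨![0, 1, 2, 3, 4, 5, 6, 7, 8, 9, 10, 11, 12, 13, 14, 16, 17, 15], ![0, 1, 2, 3, 4, 5, 6, 7, 8, 9, 10, 11, 12, 13, 14, 17, 15, 16], by decide +kernel, by decide +kernel⟩ (by decide +kernel)]

/-- Normalising elements, their matrices and the inverse matrices. -/
def gens8 : List (alternatingGroup (Fin 18) × (Fin 6 → Fin 6 → ℕ) × (Fin 6 → Fin 6 → ℕ)) :=
  [(alt ⟨![3, 4, 5, 0, 2, 1, 6, 7, 8, 9, 10, 11, 12, 13, 14, 15, 16, 17], ![3, 5, 4, 0, 1, 2, 6, 7, 8, 9, 10, 11, 12, 13, 14, 15, 16, 17], by decide +kernel, by decide +kernel⟩ (by decide +kernel),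
    ![![0, 2, 0, 0, 0, 0], ![1, 0, 0, 0, 0, 0], ![0, 0, 1, 0, 0, 0], ![0, 0, 0, 1, 0, 0], ![0, 0, 0, 0, 1, 0], ![0, 0, 0, 0, 0, 1]],
    ![![0, 1, 0, 0, 0, 0], ![2, 0, 0, 0, 0, 0], ![0, 0, 1, 0, 0, 0], ![0, 0, 0, 1, 0, 0], ![0, 0, 0, 0, 1, 0], ![0, 0, 0, 0, 0, 1]]),
   (alt ⟨![0, 1, 2, 6, 7, 8, 3, 5, 4, 9, 10, 11, 12, 13, 14, 15, 16, 17], ![0, 1, 2, 6, 8, 7, 3, 4, 5, 9, 10, 11, 12, 13, 14, 15, 16, 17], by decide +kernel, by decide +kernel⟩ (by decide +kernel),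
    ![![1, 0, 0, 0, 0, 0], ![0, 0, 2, 0, 0, 0], ![0, 1, 0, 0, 0, 0], ![0, 0, 0, 1, 0, 0], ![0, 0, 0, 0, 1, 0], ![0, 0, 0, 0, 0, 1]],
    ![![1, 0, 0, 0, 0, 0], ![0, 0, 1, 0, 0, 0], ![0, 2, 0, 0, 0, 0], ![0, 0, 0, 1, 0, 0], ![0, 0, 0, 0, 1, 0], ![0, 0, 0, 0, 0, 1]]),
   (alt ⟨![0, 1, 2, 3, 4, 5, 9, 10, 11, 6, 8, 7, 12, 13, 14, 15, 16, 17], ![0, 1, 2, 3, 4, 5, 9, 11, 10, 6, 7, 8, 12, 13, 14, 15, 16, 17], by decide +kernel, by decide +kernel⟩ (by decide +kernel),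
    ![![1, 0, 0, 0, 0, 0], ![0, 1, 0, 0, 0, 0], ![0, 0, 0, 2, 0, 0], ![0, 0, 1, 0, 0, 0], ![0, 0, 0, 0, 1, 0], ![0, 0, 0, 0, 0, 1]],
    ![![1, 0, 0, 0, 0, 0], ![0, 1, 0, 0, 0, 0], ![0, 0, 0, 1, 0, 0], ![0, 0, 2, 0, 0, 0], ![0, 0, 0, 0, 1, 0], ![0, 0, 0, 0, 0, 1]]),
   (alt ⟨![0, 1, 2, 3, 4, 5, 6, 7, 8, 12, 13, 14, 9, 11, 10, 15, 16, 17], ![0, 1, 2, 3, 4, 5, 6, 7, 8, 12, 14, 13, 9, 10, 11, 15, 16, 17], by decide +kernel, by decide +kernel⟩ (by decide +kernel),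
    ![![1, 0, 0, 0, 0, 0], ![0, 1, 0, 0, 0, 0], ![0, 0, 1, 0, 0, 0], ![0, 0, 0, 0, 2, 0], ![0, 0, 0, 1, 0, 0], ![0, 0, 0, 0, 0, 1]],
    ![![1, 0, 0, 0, 0, 0], ![0, 1, 0, 0, 0, 0], ![0, 0, 1, 0, 0, 0], ![0, 0, 0, 0, 1, 0], ![0, 0, 0, 2, 0, 0], ![0, 0, 0, 0, 0, 1]]),
   (alt ⟨![0, 1, 2, 3, 4, 5, 6, 7, 8, 9, 10, 11, 15, 16, 17, 12, 14, 13], ![0, 1, 2, 3, 4, 5, 6, 7, 8, 9, 10, 11, 15, 17, 16, 12, 13, 14], by decide +kernel, by decide +kernel⟩ (by decide +kernel),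
    ![![1, 0, 0, 0, 0, 0], ![0, 1, 0, 0, 0, 0], ![0, 0, 1, 0, 0, 0], ![0, 0, 0, 1, 0, 0], ![0, 0, 0, 0, 0, 2], ![0, 0, 0, 0, 1, 0]],
    ![![1, 0, 0, 0, 0, 0], ![0, 1, 0, 0, 0, 0], ![0, 0, 1, 0, 0, 0], ![0, 0, 0, 1, 0, 0], ![0, 0, 0, 0, 0, 1], ![0, 0, 0, 0, 2, 0]]),
   (alt ⟨![3, 4, 5, 0, 1, 2, 6, 8, 7, 9, 10, 11, 12, 13, 14, 15, 16, 17], ![3, 4, 5, 0, 1, 2, 6, 8, 7, 9, 10, 11, 12, 13, 14, 15, 16, 17], by decide +kernel, by decide +kernel⟩ (by decide +kernel),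
    ![![0, 1, 0, 0, 0, 0], ![1, 0, 0, 0, 0, 0], ![0, 0, 2, 0, 0, 0], ![0, 0, 0, 1, 0, 0], ![0, 0, 0, 0, 1, 0], ![0, 0, 0, 0, 0, 1]],
    ![![0, 1, 0, 0, 0, 0], ![1, 0, 0, 0, 0, 0], ![0, 0, 2, 0, 0, 0], ![0, 0, 0, 1, 0, 0], ![0, 0, 0, 0, 1, 0], ![0, 0, 0, 0, 0, 1]]),
   (alt ⟨![0, 1, 2, 6, 7, 8, 3, 4, 5, 9, 11, 10, 12, 13, 14, 15, 16, 17], ![0, 1, 2, 6, 7, 8, 3, 4, 5, 9, 11, 10, 12, 13, 14, 15, 16, 17], by decide +kernel, by decide +kernel⟩ (by decide +kernel),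
    ![![1, 0, 0, 0, 0, 0], ![0, 0, 1, 0, 0, 0], ![0, 1, 0, 0, 0, 0], ![0, 0, 0, 2, 0, 0], ![0, 0, 0, 0, 1, 0], ![0, 0, 0, 0, 0, 1]],
    ![![1, 0, 0, 0, 0, 0], ![0, 0, 1, 0, 0, 0], ![0, 1, 0, 0, 0, 0], ![0, 0, 0, 2, 0, 0], ![0, 0, 0, 0, 1, 0], ![0, 0, 0, 0, 0, 1]]),
   (alt ⟨![0, 1, 2, 3, 4, 5, 6, 7, 8, 9, 10, 11, 12, 14, 13, 15, 17, 16], ![0, 1, 2, 3, 4, 5, 6, 7, 8, 9, 10, 11, 12, 14, 13, 15, 17, 16], by decide +kernel, by decide +kernel⟩ (by decide +kernel),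
    ![![1, 0, 0, 0, 0, 0], ![0, 1, 0, 0, 0, 0], ![0, 0, 1, 0, 0, 0], ![0, 0, 0, 1, 0, 0], ![0, 0, 0, 0, 2, 0], ![0, 0, 0, 0, 0, 2]],
    ![![1, 0, 0, 0, 0, 0], ![0, 1, 0, 0, 0, 0], ![0, 0, 1, 0, 0, 0], ![0, 0, 0, 1, 0, 0], ![0, 0, 0, 0, 2, 0], ![0, 0, 0, 0, 0, 2]])]

/-- The permutation of the first three cycles. -/
def top : alternatingGroup (Fin 18) := alt ⟨![6, 7, 8, 0, 1, 2, 3, 4, 5, 9, 10, 11, 12, 13, 14, 15, 16, 17], ![3, 4, 5, 6, 7, 8, 0, 1, 2, 9, 10, 11, 12, 13, 14, 15, 16, 17], by decide +kernel, by decide +kernel⟩ (by decide +kernel)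

/-- Its matrix. -/
def topV : Fin 6 → Fin 6 → ℕ := ![![0, 1, 0, 0, 0, 0], ![0, 0, 1, 0, 0, 0], ![1, 0, 0, 0, 0, 0], ![0, 0, 0, 1, 0, 0], ![0, 0, 0, 0, 1, 0], ![0, 0, 0, 0, 0, 1]]

/-- Elements fixing the weights of full support which are fixed by the first permutation. -/
def stab : List ((Fin 6 → Fin 3) × (alternatingGroup (Fin 18) × (Fin 6 → Fin 6 → ℕ)) ×
    (alternatingGroup (Fin 18) × (Fin 6 → Fin 6 → ℕ))) :=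
  [(![1, 1, 1, 1, 1, 1], (alt ⟨![0, 1, 2, 3, 4, 5, 6, 7, 8, 15, 16, 17, 9, 10, 11, 12, 13, 14], ![0, 1, 2, 3, 4, 5, 6, 7, 8, 12, 13, 14, 15, 16, 17, 9, 10, 11], by decide +kernel, by decide +kernel⟩ (by decide +kernel),
    ![![1, 0, 0, 0, 0, 0], ![0, 1, 0, 0, 0, 0], ![0, 0, 1, 0, 0, 0], ![0, 0, 0, 0, 1, 0], ![0, 0, 0, 0, 0, 1], ![0, 0, 0, 1, 0, 0]]), (alt ⟨![9, 10, 11, 15, 16, 17, 12, 13, 14, 0, 1, 2, 3, 4, 5, 6, 7, 8], ![9, 10, 11, 12, 13, 14, 15, 16, 17, 0, 1, 2, 6, 7, 8, 3, 4, 5], by decide +kernel, by decide +kernel⟩ (by decide +kernel),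
    ![![0, 0, 0, 1, 0, 0], ![0, 0, 0, 0, 1, 0], ![0, 0, 0, 0, 0, 1], ![1, 0, 0, 0, 0, 0], ![0, 0, 1, 0, 0, 0], ![0, 1, 0, 0, 0, 0]])),
   (![1, 1, 1, 1, 1, 2], (alt ⟨![0, 1, 2, 3, 4, 5, 6, 7, 8, 15, 17, 16, 9, 10, 11, 12, 14, 13], ![0, 1, 2, 3, 4, 5, 6, 7, 8, 12, 13, 14, 15, 17, 16, 9, 11, 10], by decide +kernel, by decide +kernel⟩ (by decide +kernel),
    ![![1, 0, 0, 0, 0, 0], ![0, 1, 0, 0, 0, 0], ![0, 0, 1, 0, 0, 0], ![0, 0, 0, 0, 1, 0], ![0, 0, 0, 0, 0, 2], ![0, 0, 0, 2, 0, 0]]), (alt ⟨![9, 10, 11, 15, 17, 16, 12, 13, 14, 0, 1, 2, 3, 4, 5, 6, 8, 7], ![9, 10, 11, 12, 13, 14, 15, 17, 16, 0, 1, 2, 6, 7, 8, 3, 5, 4], by decide +kernel, by decide +kernel⟩ (by decide +kernel),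
    ![![0, 0, 0, 1, 0, 0], ![0, 0, 0, 0, 1, 0], ![0, 0, 0, 0, 0, 2], ![1, 0, 0, 0, 0, 0], ![0, 0, 1, 0, 0, 0], ![0, 2, 0, 0, 0, 0]])),
   (![1, 1, 1, 1, 2, 1], (alt ⟨![0, 1, 2, 3, 4, 5, 6, 7, 8, 15, 16, 17, 9, 11, 10, 12, 14, 13], ![0, 1, 2, 3, 4, 5, 6, 7, 8, 12, 14, 13, 15, 17, 16, 9, 10, 11], by decide +kernel, by decide +kernel⟩ (by decide +kernel),
    ![![1, 0, 0, 0, 0, 0], ![0, 1, 0, 0, 0, 0], ![0, 0, 1, 0, 0, 0], ![0, 0, 0, 0, 2, 0], ![0, 0, 0, 0, 0, 2], ![0, 0, 0, 1, 0, 0]]), (alt ⟨![9, 10, 11, 15, 16, 17, 12, 14, 13, 0, 1, 2, 3, 5, 4, 6, 7, 8], ![9, 10, 11, 12, 14, 13, 15, 16, 17, 0, 1, 2, 6, 8, 7, 3, 4, 5], by decide +kernel, by decide +kernel⟩ (by decide +kernel),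
    ![![0, 0, 0, 1, 0, 0], ![0, 0, 0, 0, 2, 0], ![0, 0, 0, 0, 0, 1], ![1, 0, 0, 0, 0, 0], ![0, 0, 2, 0, 0, 0], ![0, 1, 0, 0, 0, 0]])),
   (![1, 1, 1, 1, 2, 2], (alt ⟨![0, 1, 2, 3, 4, 5, 6, 7, 8, 15, 17, 16, 9, 11, 10, 12, 13, 14], ![0, 1, 2, 3, 4, 5, 6, 7, 8, 12, 14, 13, 15, 16, 17, 9, 11, 10], by decide +kernel, by decide +kernel⟩ (by decide +kernel),
    ![![1, 0, 0, 0, 0, 0], ![0, 1, 0, 0, 0, 0], ![0, 0, 1, 0, 0, 0], ![0, 0, 0, 0, 2, 0], ![0, 0, 0, 0, 0, 1], ![0, 0, 0, 2, 0, 0]]), (alt ⟨![9, 10, 11, 15, 17, 16, 12, 14, 13, 0, 1, 2, 3, 5, 4, 6, 8, 7], ![9, 10, 11, 12, 14, 13, 15, 17, 16, 0, 1, 2, 6, 8, 7, 3, 5, 4], by decide +kernel, by decide +kernel⟩ (by decide +kernel),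
    ![![0, 0, 0, 1, 0, 0], ![0, 0, 0, 0, 2, 0], ![0, 0, 0, 0, 0, 2], ![1, 0, 0, 0, 0, 0], ![0, 0, 2, 0, 0, 0], ![0, 2, 0, 0, 0, 0]])),
   (![1, 1, 1, 2, 1, 1], (alt ⟨![0, 1, 2, 3, 4, 5, 6, 7, 8, 15, 17, 16, 9, 11, 10, 12, 13, 14], ![0, 1, 2, 3, 4, 5, 6, 7, 8, 12, 14, 13, 15, 16, 17, 9, 11, 10], by decide +kernel, by decide +kernel⟩ (by decide +kernel),
    ![![1, 0, 0, 0, 0, 0], ![0, 1, 0, 0, 0, 0], ![0, 0, 1, 0, 0, 0], ![0, 0, 0, 0, 2, 0], ![0, 0, 0, 0, 0, 1], ![0, 0, 0, 2, 0, 0]]), (alt ⟨![9, 11, 10, 15, 16, 17, 12, 13, 14, 0, 2, 1, 3, 4, 5, 6, 7, 8], ![9, 11, 10, 12, 13, 14, 15, 16, 17, 0, 2, 1, 6, 7, 8, 3, 4, 5], by decide +kernel, by decide +kernel⟩ (by decide +kernel),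
    ![![0, 0, 0, 2, 0, 0], ![0, 0, 0, 0, 1, 0], ![0, 0, 0, 0, 0, 1], ![2, 0, 0, 0, 0, 0], ![0, 0, 1, 0, 0, 0], ![0, 1, 0, 0, 0, 0]])),
   (![1, 1, 1, 2, 1, 2], (alt ⟨![0, 1, 2, 3, 4, 5, 6, 7, 8, 15, 16, 17, 9, 11, 10, 12, 14, 13], ![0, 1, 2, 3, 4, 5, 6, 7, 8, 12, 14, 13, 15, 17, 16, 9, 10, 11], by decide +kernel, by decide +kernel⟩ (by decide +kernel),
    ![![1, 0, 0, 0, 0, 0], ![0, 1, 0, 0, 0, 0], ![0, 0, 1, 0, 0, 0], ![0, 0, 0, 0, 2, 0], ![0, 0, 0, 0, 0, 2], ![0, 0, 0, 1, 0, 0]]), (alt ⟨![9, 11, 10, 15, 17, 16, 12, 13, 14, 0, 2, 1, 3, 4, 5, 6, 8, 7], ![9, 11, 10, 12, 13, 14, 15, 17, 16, 0, 2, 1, 6, 7, 8, 3, 5, 4], by decide +kernel, by decide +kernel⟩ (by decide +kernel),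
    ![![0, 0, 0, 2, 0, 0], ![0, 0, 0, 0, 1, 0], ![0, 0, 0, 0, 0, 2], ![2, 0, 0, 0, 0, 0], ![0, 0, 1, 0, 0, 0], ![0, 2, 0, 0, 0, 0]])),
   (![1, 1, 1, 2, 2, 1], (alt ⟨![0, 1, 2, 3, 4, 5, 6, 7, 8, 15, 17, 16, 9, 10, 11, 12, 14, 13], ![0, 1, 2, 3, 4, 5, 6, 7, 8, 12, 13, 14, 15, 17, 16, 9, 11, 10], by decide +kernel, by decide +kernel⟩ (by decide +kernel),
    ![![1, 0, 0, 0, 0, 0], ![0, 1, 0, 0, 0, 0], ![0, 0, 1, 0, 0, 0], ![0, 0, 0, 0, 1, 0], ![0, 0, 0, 0, 0, 2], ![0, 0, 0, 2, 0, 0]]), (alt ⟨![9, 11, 10, 15, 16, 17, 12, 14, 13, 0, 2, 1, 3, 5, 4, 6, 7, 8], ![9, 11, 10, 12, 14, 13, 15, 16, 17, 0, 2, 1, 6, 8, 7, 3, 4, 5], by decide +kernel, by decide +kernel⟩ (by decide +kernel),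
    ![![0, 0, 0, 2, 0, 0], ![0, 0, 0, 0, 2, 0], ![0, 0, 0, 0, 0, 1], ![2, 0, 0, 0, 0, 0], ![0, 0, 2, 0, 0, 0], ![0, 1, 0, 0, 0, 0]])),
   (![1, 1, 1, 2, 2, 2], (alt ⟨![0, 1, 2, 3, 4, 5, 6, 7, 8, 15, 16, 17, 9, 10, 11, 12, 13, 14], ![0, 1, 2, 3, 4, 5, 6, 7, 8, 12, 13, 14, 15, 16, 17, 9, 10, 11], by decide +kernel, by decide +kernel⟩ (by decide +kernel),
    ![![1, 0, 0, 0, 0, 0], ![0, 1, 0, 0, 0, 0], ![0, 0, 1, 0, 0, 0], ![0, 0, 0, 0, 1, 0], ![0, 0, 0, 0, 0, 1], ![0, 0, 0, 1, 0, 0]]), (alt ⟨![9, 11, 10, 15, 17, 16, 12, 14, 13, 0, 2, 1, 3, 5, 4, 6, 8, 7], ![9, 11, 10, 12, 14, 13, 15, 17, 16, 0, 2, 1, 6, 8, 7, 3, 5, 4], by decide +kernel, by decide +kernel⟩ (by decide +kernel),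
    ![![0, 0, 0, 2, 0, 0], ![0, 0, 0, 0, 2, 0], ![0, 0, 0, 0, 0, 2], ![2, 0, 0, 0, 0, 0], ![0, 0, 2, 0, 0, 0], ![0, 2, 0, 0, 0, 0]])),
   (![2, 2, 2, 1, 1, 1], (alt ⟨![0, 1, 2, 3, 4, 5, 6, 7, 8, 15, 16, 17, 9, 10, 11, 12, 13, 14], ![0, 1, 2, 3, 4, 5, 6, 7, 8, 12, 13, 14, 15, 16, 17, 9, 10, 11], by decide +kernel, by decide +kernel⟩ (by decide +kernel),
    ![![1, 0, 0, 0, 0, 0], ![0, 1, 0, 0, 0, 0], ![0, 0, 1, 0, 0, 0], ![0, 0, 0, 0, 1, 0], ![0, 0, 0, 0, 0, 1], ![0, 0, 0, 1, 0, 0]]), (alt ⟨![9, 11, 10, 15, 17, 16, 12, 14, 13, 0, 2, 1, 3, 5, 4, 6, 8, 7], ![9, 11, 10, 12, 14, 13, 15, 17, 16, 0, 2, 1, 6, 8, 7, 3, 5, 4], by decide +kernel, by decide +kernel⟩ (by decide +kernel),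
    ![![0, 0, 0, 2, 0, 0], ![0, 0, 0, 0, 2, 0], ![0, 0, 0, 0, 0, 2], ![2, 0, 0, 0, 0, 0], ![0, 0, 2, 0, 0, 0], ![0, 2, 0, 0, 0, 0]])),
   (![2, 2, 2, 1, 1, 2], (alt ⟨![0, 1, 2, 3, 4, 5, 6, 7, 8, 15, 17, 16, 9, 10, 11, 12, 14, 13], ![0, 1, 2, 3, 4, 5, 6, 7, 8, 12, 13, 14, 15, 17, 16, 9, 11, 10], by decide +kernel, by decide +kernel⟩ (by decide +kernel),
    ![![1, 0, 0, 0, 0, 0], ![0, 1, 0, 0, 0, 0], ![0, 0, 1, 0, 0, 0], ![0, 0, 0, 0, 1, 0], ![0, 0, 0, 0, 0, 2], ![0, 0, 0, 2, 0, 0]]), (alt ⟨![9, 11, 10, 15, 16, 17, 12, 14, 13, 0, 2, 1, 3, 5, 4, 6, 7, 8], ![9, 11, 10, 12, 14, 13, 15, 16, 17, 0, 2, 1, 6, 8, 7, 3, 4, 5], by decide +kernel, by decide +kernel⟩ (by decide +kernel),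
    ![![0, 0, 0, 2, 0, 0], ![0, 0, 0, 0, 2, 0], ![0, 0, 0, 0, 0, 1], ![2, 0, 0, 0, 0, 0], ![0, 0, 2, 0, 0, 0], ![0, 1, 0, 0, 0, 0]])),
   (![2, 2, 2, 1, 2, 1], (alt ⟨![0, 1, 2, 3, 4, 5, 6, 7, 8, 15, 16, 17, 9, 11, 10, 12, 14, 13], ![0, 1, 2, 3, 4, 5, 6, 7, 8, 12, 14, 13, 15, 17, 16, 9, 10, 11], by decide +kernel, by decide +kernel⟩ (by decide +kernel),
    ![![1, 0, 0, 0, 0, 0], ![0, 1, 0, 0, 0, 0], ![0, 0, 1, 0, 0, 0], ![0, 0, 0, 0, 2, 0], ![0, 0, 0, 0, 0, 2], ![0, 0, 0, 1, 0, 0]]), (alt ⟨![9, 11, 10, 15, 17, 16, 12, 13, 14, 0, 2, 1, 3, 4, 5, 6, 8, 7], ![9, 11, 10, 12, 13, 14, 15, 17, 16, 0, 2, 1, 6, 7, 8, 3, 5, 4], by decide +kernel, by decide +kernel⟩ (by decide +kernel),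
    ![![0, 0, 0, 2, 0, 0], ![0, 0, 0, 0, 1, 0], ![0, 0, 0, 0, 0, 2], ![2, 0, 0, 0, 0, 0], ![0, 0, 1, 0, 0, 0], ![0, 2, 0, 0, 0, 0]])),
   (![2, 2, 2, 1, 2, 2], (alt ⟨![0, 1, 2, 3, 4, 5, 6, 7, 8, 15, 17, 16, 9, 11, 10, 12, 13, 14], ![0, 1, 2, 3, 4, 5, 6, 7, 8, 12, 14, 13, 15, 16, 17, 9, 11, 10], by decide +kernel, by decide +kernel⟩ (by decide +kernel),
    ![![1, 0, 0, 0, 0, 0], ![0, 1, 0, 0, 0, 0], ![0, 0, 1, 0, 0, 0], ![0, 0, 0, 0, 2, 0], ![0, 0, 0, 0, 0, 1], ![0, 0, 0, 2, 0, 0]]), (alt ⟨![9, 11, 10, 15, 16, 17, 12, 13, 14, 0, 2, 1, 3, 4, 5, 6, 7, 8], ![9, 11, 10, 12, 13, 14, 15, 16, 17, 0, 2, 1, 6, 7, 8, 3, 4, 5], by decide +kernel, by decide +kernel⟩ (by decide +kernel),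
    ![![0, 0, 0, 2, 0, 0], ![0, 0, 0, 0, 1, 0], ![0, 0, 0, 0, 0, 1], ![2, 0, 0, 0, 0, 0], ![0, 0, 1, 0, 0, 0], ![0, 1, 0, 0, 0, 0]])),
   (![2, 2, 2, 2, 1, 1], (alt ⟨![0, 1, 2, 3, 4, 5, 6, 7, 8, 15, 17, 16, 9, 11, 10, 12, 13, 14], ![0, 1, 2, 3, 4, 5, 6, 7, 8, 12, 14, 13, 15, 16, 17, 9, 11, 10], by decide +kernel, by decide +kernel⟩ (by decide +kernel),
    ![![1, 0, 0, 0, 0, 0], ![0, 1, 0, 0, 0, 0], ![0, 0, 1, 0, 0, 0], ![0, 0, 0, 0, 2, 0], ![0, 0, 0, 0, 0, 1], ![0, 0, 0, 2, 0, 0]]), (alt ⟨![9, 10, 11, 15, 17, 16, 12, 14, 13, 0, 1, 2, 3, 5, 4, 6, 8, 7], ![9, 10, 11, 12, 14, 13, 15, 17, 16, 0, 1, 2, 6, 8, 7, 3, 5, 4], by decide +kernel, by decide +kernel⟩ (by decide +kernel),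
    ![![0, 0, 0, 1, 0, 0], ![0, 0, 0, 0, 2, 0], ![0, 0, 0, 0, 0, 2], ![1, 0, 0, 0, 0, 0], ![0, 0, 2, 0, 0, 0], ![0, 2, 0, 0, 0, 0]])),
   (![2, 2, 2, 2, 1, 2], (alt ⟨![0, 1, 2, 3, 4, 5, 6, 7, 8, 15, 16, 17, 9, 11, 10, 12, 14, 13], ![0, 1, 2, 3, 4, 5, 6, 7, 8, 12, 14, 13, 15, 17, 16, 9, 10, 11], by decide +kernel, by decide +kernel⟩ (by decide +kernel),
    ![![1, 0, 0, 0, 0, 0], ![0, 1, 0, 0, 0, 0], ![0, 0, 1, 0, 0, 0], ![0, 0, 0, 0, 2, 0], ![0, 0, 0, 0, 0, 2], ![0, 0, 0, 1, 0, 0]]), (alt ⟨![9, 10, 11, 15, 16, 17, 12, 14, 13, 0, 1, 2, 3, 5, 4, 6, 7, 8], ![9, 10, 11, 12, 14, 13, 15, 16, 17, 0, 1, 2, 6, 8, 7, 3, 4, 5], by decide +kernel, by decide +kernel⟩ (by decide +kernel),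
    ![![0, 0, 0, 1, 0, 0], ![0, 0, 0, 0, 2, 0], ![0, 0, 0, 0, 0, 1], ![1, 0, 0, 0, 0, 0], ![0, 0, 2, 0, 0, 0], ![0, 1, 0, 0, 0, 0]])),
   (![2, 2, 2, 2, 2, 1], (alt ⟨![0, 1, 2, 3, 4, 5, 6, 7, 8, 15, 17, 16, 9, 10, 11, 12, 14, 13], ![0, 1, 2, 3, 4, 5, 6, 7, 8, 12, 13, 14, 15, 17, 16, 9, 11, 10], by decide +kernel, by decide +kernel⟩ (by decide +kernel),
    ![![1, 0, 0, 0, 0, 0], ![0, 1, 0, 0, 0, 0], ![0, 0, 1, 0, 0, 0], ![0, 0, 0, 0, 1, 0], ![0, 0, 0, 0, 0, 2], ![0, 0, 0, 2, 0, 0]]), (alt ⟨![9, 10, 11, 15, 17, 16, 12, 13, 14, 0, 1, 2, 3, 4, 5, 6, 8, 7], ![9, 10, 11, 12, 13, 14, 15, 17, 16, 0, 1, 2, 6, 7, 8, 3, 5, 4], by decide +kernel, by decide +kernel⟩ (by decide +kernel),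
    ![![0, 0, 0, 1, 0, 0], ![0, 0, 0, 0, 1, 0], ![0, 0, 0, 0, 0, 2], ![1, 0, 0, 0, 0, 0], ![0, 0, 1, 0, 0, 0], ![0, 2, 0, 0, 0, 0]])),
   (![2, 2, 2, 2, 2, 2], (alt ⟨![0, 1, 2, 3, 4, 5, 6, 7, 8, 15, 16, 17, 9, 10, 11, 12, 13, 14], ![0, 1, 2, 3, 4, 5, 6, 7, 8, 12, 13, 14, 15, 16, 17, 9, 10, 11], by decide +kernel, by decide +kernel⟩ (by decide +kernel),
    ![![1, 0, 0, 0, 0, 0], ![0, 1, 0, 0, 0, 0], ![0, 0, 1, 0, 0, 0], ![0, 0, 0, 0, 1, 0], ![0, 0, 0, 0, 0, 1], ![0, 0, 0, 1, 0, 0]]), (alt ⟨![9, 10, 11, 15, 16, 17, 12, 13, 14, 0, 1, 2, 3, 4, 5, 6, 7, 8], ![9, 10, 11, 12, 13, 14, 15, 16, 17, 0, 1, 2, 6, 7, 8, 3, 4, 5], by decide +kernel, by decide +kernel⟩ (by decide +kernel),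
    ![![0, 0, 0, 1, 0, 0], ![0, 0, 0, 0, 1, 0], ![0, 0, 0, 0, 0, 1], ![1, 0, 0, 0, 0, 0], ![0, 0, 1, 0, 0, 0], ![0, 1, 0, 0, 0, 0]]))]

end CfsgLib.Known.AltE8
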