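import Cfsg.Agent.Lib.Known.AltE6.W
import Cfsg.Agent.Lib.Lie.Chev.Data.CertE8
import Cfsg.Agent.Lib.Lie.Rel.OrderData

/-!
# A Sylow subgroup for the prime three of the Weyl group of type E8 and the classes of its elements of order three
-/

set_option autoImplicit false
set_option maxRecDepth 20000

namespace CfsgLib.Known.AltE8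

open Cfsg.Lie (chevE8)
open CfsgLib.Lie.Chev
open CfsgLib.Known.AltE6 (Table)

/-- The words of the elements. -/
def w3Words : List (List ℕ) := [
  [],
  [7, 6, 5, 4, 3, 2, 1, 3, 4, 5, 6, 0, 2, 3, 4, 5, 1, 3, 4, 2, 3, 0, 2, 1, 3, 4, 5, 6, 7, 6, 5, 4, 3, 2, 1, 3, 4, 5, 6, 0, 2, 3, 4, 5, 1, 3, 4, 2, 3, 0, 2, 1, 3, 4, 5, 6],
  [5, 4], [6, 7, 5, 6, 4, 5, 3, 4, 2, 3, 0, 2, 1, 3, 4, 5, 6, 7, 4, 5, 6, 3, 4, 5, 1, 3, 4, 2, 3, 0, 2, 1, 3, 4, 5, 6, 3, 2, 1, 3, 4, 5, 0, 2, 3, 4, 1, 3],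
  [6, 5, 4, 3, 2, 1, 3, 4, 5, 6, 0, 2, 3, 4, 5, 1, 3, 4, 2, 3, 0, 2, 1, 3, 4, 5, 6, 7, 6, 5, 4, 3, 2, 1, 3, 4, 5, 6, 0, 2, 3, 4, 5, 1, 3, 4, 2, 3, 0, 2, 1, 3, 4, 5, 6, 7],
  [7, 6, 5, 4, 3, 2, 1, 3, 4, 5, 6, 0, 2, 3, 4, 5, 1, 3, 4, 2, 3, 0, 2, 1, 3, 4, 5, 6, 7, 6, 5, 4, 3, 2, 1, 3, 4, 5, 6, 0, 2, 3, 4, 5, 1, 3, 4, 2, 3, 0, 2, 1, 3, 4, 5, 6, 5, 4],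
  [3, 4, 2, 3, 0, 2, 1, 3, 4, 5, 6, 7, 4, 3, 2, 1, 3, 4, 5, 6, 0, 2, 3, 4, 5, 1, 3, 4, 2, 3, 0, 2, 1, 3, 4, 5, 6, 7, 4, 5, 6, 3, 4, 5, 1, 3, 4, 2, 3, 0, 2, 1, 3, 4, 5, 6, 3, 2, 1, 3, 4, 5, 0, 2, 3, 4, 1, 3],
  [4, 5],
  [6, 7, 5, 6, 4, 5, 3, 4, 2, 3, 0, 2, 1, 3, 4, 5, 6, 7, 4, 5, 6, 3, 4, 5, 1, 3, 4, 2, 3, 0, 2, 1, 3, 4, 5, 6, 3, 0, 2, 1, 3, 4, 5, 0, 2, 1, 3, 4, 1, 3],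
  [6, 7, 5, 6, 4, 5, 3, 4, 2, 3, 0, 2, 1, 3, 4, 5, 6, 7, 4, 5, 6, 3, 4, 5, 1, 3, 4, 2, 3, 0, 2, 1, 3, 4, 5, 6, 3, 2, 1, 3, 4, 5, 0, 2, 3, 4, 1, 3, 0, 2],
  [3, 4, 5, 6, 7, 1, 3, 4, 5, 6, 2, 3, 4, 5, 1, 3, 4, 2, 3, 0, 2, 1, 3, 4, 5, 6, 7, 1, 3, 4, 2, 3, 0, 2, 1, 3, 4, 5, 6, 3, 4, 5, 2, 3, 4, 0, 2, 3],
  [6, 5, 4, 3, 2, 1, 3, 4, 5, 6, 0, 2, 3, 4, 5, 1, 3, 4, 2, 3, 0, 2, 1, 3, 4, 5, 6, 7, 6, 5, 4, 3, 2, 1, 3, 4, 5, 6, 0, 2, 3, 4, 5, 1, 3, 4, 2, 3, 0, 2, 1, 3, 4, 5, 6, 7, 5, 4],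
  [1, 3, 4, 5, 6, 7, 2, 3, 4, 5, 6, 0, 2, 3, 4, 5, 1, 3, 4, 2, 3, 0, 2, 1, 3, 4, 5, 6, 7, 2, 3, 0, 2, 1, 3, 4, 5, 6, 3, 2, 1, 3, 4, 5, 0, 2, 3, 4, 1, 3],
  [7, 6, 5, 4, 3, 2, 1, 3, 4, 5, 6, 0, 2, 3, 4, 5, 1, 3, 4, 2, 3, 0, 2, 1, 3, 4, 5, 6, 7, 6, 5, 4, 3, 2, 1, 3, 4, 5, 6, 0, 2, 3, 4, 5, 1, 3, 4, 2, 3, 0, 2, 1, 3, 4, 5, 6, 4, 5],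
  [3, 4, 2, 3, 0, 2, 1, 3, 4, 5, 6, 7, 4, 3, 2, 1, 3, 4, 5, 6, 0, 2, 3, 4, 5, 1, 3, 4, 2, 3, 0, 2, 1, 3, 4, 5, 6, 7, 4, 5, 6, 3, 4, 5, 1, 3, 4, 2, 3, 0, 2, 1, 3, 4, 5, 6, 3, 0, 2, 1, 3, 4, 5, 0, 2, 1, 3, 4, 1, 3],
  [3, 4, 2, 3, 0, 2, 1, 3, 4, 5, 6, 7, 4, 3, 2, 1, 3, 4, 5, 6, 0, 2, 3, 4, 5, 1, 3, 4, 2, 3, 0, 2, 1, 3, 4, 5, 6, 7, 4, 5, 6, 3, 4, 5, 1, 3, 4, 2, 3, 0, 2, 1, 3, 4, 5, 6, 3, 2, 1, 3, 4, 5, 0, 2, 3, 4, 1, 3, 0, 2],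
  [0, 2, 3, 4, 5, 6, 7, 1, 3, 4, 5, 6, 2, 3, 4, 5, 1, 3, 4, 2, 3, 0, 2, 1, 3, 4, 5, 6, 7, 1, 3, 4, 2, 3, 0, 2, 1, 3, 4, 5, 6, 3, 4, 5, 2, 3, 4, 0, 2, 3],
  [6, 7, 5, 6, 4, 5, 3, 4, 2, 3, 0, 2, 1, 3, 4, 5, 6, 7, 4, 5, 6, 3, 4, 5, 1, 3, 4, 2, 3, 0, 2, 1, 3, 4, 5, 6, 2, 3, 0, 2, 1, 3, 4, 5, 0, 2, 3, 4, 1, 3],
  [6, 7, 5, 6, 4, 5, 3, 4, 2, 3, 0, 2, 1, 3, 4, 5, 6, 7, 4, 5, 6, 3, 4, 5, 1, 3, 4, 2, 3, 0, 2, 1, 3, 4, 5, 6, 3, 0, 2, 1, 3, 4, 5, 0, 2, 1, 3, 4, 1, 3, 0, 2],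
  [3, 4, 5, 6, 7, 1, 3, 4, 5, 6, 2, 3, 4, 5, 1, 3, 4, 2, 3, 0, 2, 1, 3, 4, 5, 6, 7, 1, 3, 4, 2, 3, 0, 2, 1, 3, 4, 5, 6, 2, 3, 4, 5, 0, 2, 3, 4, 0, 2, 3],
  [6, 7, 5, 6, 4, 5, 3, 4, 2, 3, 0, 2, 1, 3, 4, 5, 6, 7, 4, 5, 6, 3, 4, 5, 1, 3, 4, 2, 3, 0, 2, 1, 3, 4, 5, 6, 3, 2, 1, 3, 4, 5, 0, 2, 3, 4, 1, 3, 2, 0],
  [3, 4, 5, 6, 7, 1, 3, 4, 5, 6, 2, 3, 4, 5, 1, 3, 4, 2, 3, 0, 2, 1, 3, 4, 5, 6, 7, 1, 3, 4, 2, 3, 0, 2, 1, 3, 4, 5, 6, 3, 4, 5, 2, 3, 4, 0, 2, 3, 0, 2],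
  [3, 4, 5, 6, 7, 1, 3, 4, 5, 6, 2, 3, 4, 5, 1, 3, 4, 2, 3, 0, 2, 1, 3, 4, 5, 6, 7, 1, 3, 4, 2, 3, 0, 2, 1, 3, 4, 5, 6, 1, 3, 4, 5, 2, 3, 4, 0, 2, 3, 1],
  [6, 5, 4, 3, 2, 1, 3, 4, 5, 6, 0, 2, 3, 4, 5, 1, 3, 4, 2, 3, 0, 2, 1, 3, 4, 5, 6, 7, 6, 5, 4, 3, 2, 1, 3, 4, 5, 6, 0, 2, 3, 4, 5, 1, 3, 4, 2, 3, 0, 2, 1, 3, 4, 5, 6, 7, 4, 5],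
  [1, 3, 4, 5, 6, 7, 2, 3, 4, 5, 6, 0, 2, 3, 4, 5, 1, 3, 4, 2, 3, 0, 2, 1, 3, 4, 5, 6, 7, 2, 3, 0, 2, 1, 3, 4, 5, 6, 3, 0, 2, 1, 3, 4, 5, 0, 2, 1, 3, 4, 1, 3],
  [1, 3, 4, 5, 6, 7, 2, 3, 4, 5, 6, 0, 2, 3, 4, 5, 1, 3, 4, 2, 3, 0, 2, 1, 3, 4, 5, 6, 7, 2, 3, 0, 2, 1, 3, 4, 5, 6, 3, 2, 1, 3, 4, 5, 0, 2, 3, 4, 1, 3, 0, 2],
  [2, 3, 4, 5, 6, 7, 1, 3, 4, 5, 6, 0, 2, 3, 4, 5, 1, 3, 4, 2, 3, 0, 2, 1, 3, 4, 5, 6, 7, 1, 3, 4, 2, 3, 0, 2, 1, 3, 4, 5, 6, 3, 4, 5, 2, 3, 4, 0, 2, 3],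
  [3, 4, 2, 3, 0, 2, 1, 3, 4, 5, 6, 7, 4, 3, 2, 1, 3, 4, 5, 6, 0, 2, 3, 4, 5, 1, 3, 4, 2, 3, 0, 2, 1, 3, 4, 5, 6, 7, 4, 5, 6, 3, 4, 5, 1, 3, 4, 2, 3, 0, 2, 1, 3, 4, 5, 6, 2, 3, 0, 2, 1, 3, 4, 5, 0, 2, 3, 4, 1, 3],
  [3, 4, 2, 3, 0, 2, 1, 3, 4, 5, 6, 7, 4, 3, 2, 1, 3, 4, 5, 6, 0, 2, 3, 4, 5, 1, 3, 4, 2, 3, 0, 2, 1, 3, 4, 5, 6, 7, 4, 5, 6, 3, 4, 5, 1, 3, 4, 2, 3, 0, 2, 1, 3, 4, 5, 6, 3, 0, 2, 1, 3, 4, 5, 0, 2, 1, 3, 4, 1, 3, 0, 2],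
  [0, 2, 3, 4, 5, 6, 7, 1, 3, 4, 5, 6, 2, 3, 4, 5, 1, 3, 4, 2, 3, 0, 2, 1, 3, 4, 5, 6, 7, 1, 3, 4, 2, 3, 0, 2, 1, 3, 4, 5, 6, 2, 3, 4, 5, 0, 2, 3, 4, 0, 2, 3],
  [3, 4, 2, 3, 0, 2, 1, 3, 4, 5, 6, 7, 4, 3, 2, 1, 3, 4, 5, 6, 0, 2, 3, 4, 5, 1, 3, 4, 2, 3, 0, 2, 1, 3, 4, 5, 6, 7, 4, 5, 6, 3, 4, 5, 1, 3, 4, 2, 3, 0, 2, 1, 3, 4, 5, 6, 3, 2, 1, 3, 4, 5, 0, 2, 3, 4, 1, 3, 2, 0],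
  [0, 2, 3, 4, 5, 6, 7, 1, 3, 4, 5, 6, 2, 3, 4, 5, 1, 3, 4, 2, 3, 0, 2, 1, 3, 4, 5, 6, 7, 1, 3, 4, 2, 3, 0, 2, 1, 3, 4, 5, 6, 3, 4, 5, 2, 3, 4, 0, 2, 3, 0, 2],
  [0, 2, 3, 4, 5, 6, 7, 1, 3, 4, 5, 6, 2, 3, 4, 5, 1, 3, 4, 2, 3, 0, 2, 1, 3, 4, 5, 6, 7, 1, 3, 4, 2, 3, 0, 2, 1, 3, 4, 5, 6, 1, 3, 4, 5, 2, 3, 4, 0, 2, 3, 1],
  [6, 7, 5, 6, 4, 5, 3, 4, 2, 3, 0, 2, 1, 3, 4, 5, 6, 7, 4, 5, 6, 3, 4, 5, 1, 3, 4, 2, 3, 0, 2, 1, 3, 4, 5, 6, 2, 3, 0, 2, 1, 3, 4, 5, 0, 2, 3, 4, 1, 3, 0, 2],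
  [3, 4, 5, 6, 7, 1, 3, 4, 5, 6, 2, 3, 4, 5, 1, 3, 4, 2, 3, 0, 2, 1, 3, 4, 5, 6, 7, 1, 3, 4, 2, 3, 0, 2, 1, 3, 4, 5, 6, 0, 2, 3, 4, 5, 2, 3, 4, 0, 2, 3],
  [6, 7, 5, 6, 4, 5, 3, 4, 2, 3, 0, 2, 1, 3, 4, 5, 6, 7, 4, 5, 6, 3, 4, 5, 1, 3, 4, 2, 3, 0, 2, 1, 3, 4, 5, 6, 3, 0, 2, 1, 3, 4, 5, 0, 2, 1, 3, 4, 1, 3, 2, 0],
  [3, 4, 5, 6, 7, 1, 3, 4, 5, 6, 2, 3, 4, 5, 1, 3, 4, 2, 3, 0, 2, 1, 3, 4, 5, 6, 7, 1, 3, 4, 2, 3, 0, 2, 1, 3, 4, 5, 6, 2, 3, 4, 5, 0, 2, 3, 4, 0, 2, 3, 0, 2],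
  [3, 4, 5, 6, 7, 1, 3, 4, 5, 6, 2, 3, 4, 5, 1, 3, 4, 2, 3, 0, 2, 1, 3, 4, 5, 6, 7, 1, 3, 4, 2, 3, 0, 2, 1, 3, 4, 5, 6, 2, 1, 3, 4, 5, 0, 2, 3, 4, 0, 2, 3, 1],
  [3, 4, 5, 6, 7, 1, 3, 4, 5, 6, 2, 3, 4, 5, 1, 3, 4, 2, 3, 0, 2, 1, 3, 4, 5, 6, 7, 1, 3, 4, 2, 3, 0, 2, 1, 3, 4, 5, 6, 3, 4, 5, 2, 3, 4, 0, 2, 3, 2, 0],
  [3, 4, 5, 6, 7, 1, 3, 4, 5, 6, 2, 3, 4, 5, 1, 3, 4, 2, 3, 0, 2, 1, 3, 4, 5, 6, 7, 1, 3, 4, 2, 3, 0, 2, 1, 3, 4, 5, 6, 1, 3, 4, 5, 2, 3, 4, 0, 2, 3, 0, 2, 1],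
  [0, 2],
  [3, 4, 5, 6, 7, 1, 3, 4, 5, 6, 2, 3, 4, 5, 1, 3, 4, 2, 3, 0, 2, 1, 3, 4, 5, 6, 7, 1, 3, 4, 2, 3, 0, 2, 1, 3, 4, 5, 6, 3, 4, 5, 1, 3, 4, 2, 3, 0, 2, 1, 3, 4, 5, 3, 4, 2, 3, 0, 2, 1, 3, 4, 2, 3, 0, 2, 1, 3],
  [3, 4, 2, 3, 0, 2, 1, 3, 4, 5, 4, 3, 2, 1, 3, 4, 0, 2, 3, 1],
  [1, 3, 4, 5, 6, 7, 2, 3, 4, 5, 6, 0, 2, 3, 4, 5, 1, 3, 4, 2, 3, 0, 2, 1, 3, 4, 5, 6, 7, 2, 3, 0, 2, 1, 3, 4, 5, 6, 2, 3, 0, 2, 1, 3, 4, 5, 0, 2, 3, 4, 1, 3],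
  [1, 3, 4, 5, 6, 7, 2, 3, 4, 5, 6, 0, 2, 3, 4, 5, 1, 3, 4, 2, 3, 0, 2, 1, 3, 4, 5, 6, 7, 2, 3, 0, 2, 1, 3, 4, 5, 6, 3, 0, 2, 1, 3, 4, 5, 0, 2, 1, 3, 4, 1, 3, 0, 2],
  [2, 3, 4, 5, 6, 7, 1, 3, 4, 5, 6, 0, 2, 3, 4, 5, 1, 3, 4, 2, 3, 0, 2, 1, 3, 4, 5, 6, 7, 1, 3, 4, 2, 3, 0, 2, 1, 3, 4, 5, 6, 2, 3, 4, 5, 0, 2, 3, 4, 0, 2, 3],
  [1, 3, 4, 5, 6, 7, 2, 3, 4, 5, 6, 0, 2, 3, 4, 5, 1, 3, 4, 2, 3, 0, 2, 1, 3, 4, 5, 6, 7, 2, 3, 0, 2, 1, 3, 4, 5, 6, 3, 2, 1, 3, 4, 5, 0, 2, 3, 4, 1, 3, 2, 0],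
  [2, 3, 4, 5, 6, 7, 1, 3, 4, 5, 6, 0, 2, 3, 4, 5, 1, 3, 4, 2, 3, 0, 2, 1, 3, 4, 5, 6, 7, 1, 3, 4, 2, 3, 0, 2, 1, 3, 4, 5, 6, 3, 4, 5, 2, 3, 4, 0, 2, 3, 0, 2],
  [2, 3, 4, 5, 6, 7, 1, 3, 4, 5, 6, 0, 2, 3, 4, 5, 1, 3, 4, 2, 3, 0, 2, 1, 3, 4, 5, 6, 7, 1, 3, 4, 2, 3, 0, 2, 1, 3, 4, 5, 6, 1, 3, 4, 5, 2, 3, 4, 0, 2, 3, 1],
  [3, 4, 2, 3, 0, 2, 1, 3, 4, 5, 6, 7, 4, 3, 2, 1, 3, 4, 5, 6, 0, 2, 3, 4, 5, 1, 3, 4, 2, 3, 0, 2, 1, 3, 4, 5, 6, 7, 4, 5, 6, 3, 4, 5, 1, 3, 4, 2, 3, 0, 2, 1, 3, 4, 5, 6, 2, 3, 0, 2, 1, 3, 4, 5, 0, 2, 3, 4, 1, 3, 0, 2],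
  [0, 2, 3, 4, 5, 6, 7, 1, 3, 4, 5, 6, 2, 3, 4, 5, 1, 3, 4, 2, 3, 0, 2, 1, 3, 4, 5, 6, 7, 1, 3, 4, 2, 3, 0, 2, 1, 3, 4, 5, 6, 0, 2, 3, 4, 5, 2, 3, 4, 0, 2, 3],
  [3, 4, 2, 3, 0, 2, 1, 3, 4, 5, 6, 7, 4, 3, 2, 1, 3, 4, 5, 6, 0, 2, 3, 4, 5, 1, 3, 4, 2, 3, 0, 2, 1, 3, 4, 5, 6, 7, 4, 5, 6, 3, 4, 5, 1, 3, 4, 2, 3, 0, 2, 1, 3, 4, 5, 6, 3, 0, 2, 1, 3, 4, 5, 0, 2, 1, 3, 4, 1, 3, 2, 0],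
  [0, 2, 3, 4, 5, 6, 7, 1, 3, 4, 5, 6, 2, 3, 4, 5, 1, 3, 4, 2, 3, 0, 2, 1, 3, 4, 5, 6, 7, 1, 3, 4, 2, 3, 0, 2, 1, 3, 4, 5, 6, 2, 3, 4, 5, 0, 2, 3, 4, 0, 2, 3, 0, 2],
  [0, 2, 3, 4, 5, 6, 7, 1, 3, 4, 5, 6, 2, 3, 4, 5, 1, 3, 4, 2, 3, 0, 2, 1, 3, 4, 5, 6, 7, 1, 3, 4, 2, 3, 0, 2, 1, 3, 4, 5, 6, 2, 1, 3, 4, 5, 0, 2, 3, 4, 0, 2, 3, 1],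
  [0, 2, 3, 4, 5, 6, 7, 1, 3, 4, 5, 6, 2, 3, 4, 5, 1, 3, 4, 2, 3, 0, 2, 1, 3, 4, 5, 6, 7, 1, 3, 4, 2, 3, 0, 2, 1, 3, 4, 5, 6, 3, 4, 5, 2, 3, 4, 0, 2, 3, 2, 0],
  [0, 2, 3, 4, 5, 6, 7, 1, 3, 4, 5, 6, 2, 3, 4, 5, 1, 3, 4, 2, 3, 0, 2, 1, 3, 4, 5, 6, 7, 1, 3, 4, 2, 3, 0, 2, 1, 3, 4, 5, 6, 1, 3, 4, 5, 2, 3, 4, 0, 2, 3, 0, 2, 1],
  [7, 6, 5, 4, 3, 2, 1, 3, 4, 5, 6, 0, 2, 3, 4, 5, 1, 3, 4, 2, 3, 0, 2, 1, 3, 4, 5, 6, 7, 6, 5, 4, 3, 2, 1, 3, 4, 5, 6, 0, 2, 3, 4, 5, 1, 3, 4, 2, 3, 0, 2, 1, 3, 4, 5, 6, 0, 2],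
  [0, 2, 3, 4, 5, 6, 7, 1, 3, 4, 5, 6, 2, 3, 4, 5, 1, 3, 4, 2, 3, 0, 2, 1, 3, 4, 5, 6, 7, 1, 3, 4, 2, 3, 0, 2, 1, 3, 4, 5, 6, 3, 4, 5, 1, 3, 4, 2, 3, 0, 2, 1, 3, 4, 5, 3, 4, 2, 3, 0, 2, 1, 3, 4, 2, 3, 0, 2, 1, 3],
  [7, 6, 5, 4, 3, 2, 1, 3, 4, 5, 6, 0, 2, 3, 4, 5, 1, 3, 4, 2, 3, 0, 2, 1, 3, 4, 5, 6, 7, 6, 5, 4, 3, 2, 1, 3, 4, 5, 6, 0, 2, 3, 4, 5, 1, 3, 4, 2, 3, 0, 2, 1, 3, 4, 5, 6, 3, 4, 2, 3, 0, 2, 1, 3, 4, 5, 4, 3, 2, 1, 3, 4, 0, 2, 3, 1],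
  [6, 7, 5, 6, 4, 5, 3, 4, 2, 3, 0, 2, 1, 3, 4, 5, 6, 7, 4, 5, 6, 3, 4, 5, 1, 3, 4, 2, 3, 0, 2, 1, 3, 4, 5, 6, 2, 3, 0, 2, 1, 3, 4, 5, 0, 2, 3, 4, 1, 3, 2, 0],
  [3, 4, 5, 6, 7, 1, 3, 4, 5, 6, 2, 3, 4, 5, 1, 3, 4, 2, 3, 0, 2, 1, 3, 4, 5, 6, 7, 1, 3, 4, 2, 3, 0, 2, 1, 3, 4, 5, 6, 0, 2, 3, 4, 5, 2, 3, 4, 0, 2, 3, 0, 2],
  [3, 4, 5, 6, 7, 1, 3, 4, 5, 6, 2, 3, 4, 5, 1, 3, 4, 2, 3, 0, 2, 1, 3, 4, 5, 6, 7, 1, 3, 4, 2, 3, 0, 2, 1, 3, 4, 5, 6, 0, 2, 1, 3, 4, 5, 2, 3, 4, 0, 2, 3, 1],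
  [3, 4, 5, 6, 7, 1, 3, 4, 5, 6, 2, 3, 4, 5, 1, 3, 4, 2, 3, 0, 2, 1, 3, 4, 5, 6, 7, 1, 3, 4, 2, 3, 0, 2, 1, 3, 4, 5, 6, 2, 3, 4, 5, 0, 2, 3, 4, 0, 2, 3, 2, 0],
  [3, 4, 5, 6, 7, 1, 3, 4, 5, 6, 2, 3, 4, 5, 1, 3, 4, 2, 3, 0, 2, 1, 3, 4, 5, 6, 7, 1, 3, 4, 2, 3, 0, 2, 1, 3, 4, 5, 6, 2, 1, 3, 4, 5, 0, 2, 3, 4, 0, 2, 3, 0, 2, 1],
  [5, 4, 0, 2],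
  [3, 4, 5, 6, 7, 1, 3, 4, 5, 6, 2, 3, 4, 5, 1, 3, 4, 2, 3, 0, 2, 1, 3, 4, 5, 6, 7, 1, 3, 4, 2, 3, 0, 2, 1, 3, 4, 5, 6, 2, 3, 4, 5, 1, 3, 4, 2, 3, 0, 2, 1, 3, 4, 5, 1, 3, 4, 2, 3, 0, 2, 1, 3, 4, 2, 3, 0, 2, 1, 3],
  [5, 3, 4, 2, 3, 0, 2, 1, 3, 4, 5, 4, 3, 0, 2, 1, 3, 4, 0, 2, 3, 1],
  [3, 4, 5, 6, 7, 1, 3, 4, 5, 6, 2, 3, 4, 5, 1, 3, 4, 2, 3, 0, 2, 1, 3, 4, 5, 6, 7, 1, 3, 4, 2, 3, 0, 2, 1, 3, 4, 5, 6, 1, 3, 4, 5, 2, 3, 4, 0, 2, 3, 2, 1, 0],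
  [2, 0],
  [3, 4, 5, 6, 7, 1, 3, 4, 5, 6, 2, 3, 4, 5, 1, 3, 4, 2, 3, 0, 2, 1, 3, 4, 5, 6, 7, 1, 3, 4, 2, 3, 0, 2, 1, 3, 4, 5, 6, 3, 4, 5, 1, 3, 4, 2, 3, 0, 2, 1, 3, 4, 5, 3, 4, 2, 3, 0, 2, 1, 3, 4, 2, 3, 0, 2, 1, 3, 0, 2],
  [3, 4, 2, 3, 0, 2, 1, 3, 4, 5, 4, 3, 2, 1, 3, 4, 0, 2, 3, 0, 2, 1], [1, 3, 4, 2, 3, 0, 2, 1, 3, 4, 5, 4, 3, 2, 1, 3, 4, 0, 2, 3],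
  [6, 7, 5, 6, 4, 5, 3, 4, 2, 3, 0, 2, 1, 3, 4, 5, 6, 7, 4, 5, 6, 3, 4, 5, 1, 3, 4, 2, 3, 0, 2, 1, 3, 4, 5, 6, 4, 3, 2, 1, 3, 4, 5, 0, 2, 3, 4, 1, 3, 1],
  [1, 3, 4, 5, 6, 7, 2, 3, 4, 5, 6, 0, 2, 3, 4, 5, 1, 3, 4, 2, 3, 0, 2, 1, 3, 4, 5, 6, 7, 2, 3, 0, 2, 1, 3, 4, 5, 6, 2, 3, 0, 2, 1, 3, 4, 5, 0, 2, 3, 4, 1, 3, 0, 2],
  [2, 3, 4, 5, 6, 7, 1, 3, 4, 5, 6, 0, 2, 3, 4, 5, 1, 3, 4, 2, 3, 0, 2, 1, 3, 4, 5, 6, 7, 1, 3, 4, 2, 3, 0, 2, 1, 3, 4, 5, 6, 0, 2, 3, 4, 5, 2, 3, 4, 0, 2, 3],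
  [1, 3, 4, 5, 6, 7, 2, 3, 4, 5, 6, 0, 2, 3, 4, 5, 1, 3, 4, 2, 3, 0, 2, 1, 3, 4, 5, 6, 7, 2, 3, 0, 2, 1, 3, 4, 5, 6, 3, 0, 2, 1, 3, 4, 5, 0, 2, 1, 3, 4, 1, 3, 2, 0],
  [2, 3, 4, 5, 6, 7, 1, 3, 4, 5, 6, 0, 2, 3, 4, 5, 1, 3, 4, 2, 3, 0, 2, 1, 3, 4, 5, 6, 7, 1, 3, 4, 2, 3, 0, 2, 1, 3, 4, 5, 6, 2, 3, 4, 5, 0, 2, 3, 4, 0, 2, 3, 0, 2],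
  [2, 3, 4, 5, 6, 7, 1, 3, 4, 5, 6, 0, 2, 3, 4, 5, 1, 3, 4, 2, 3, 0, 2, 1, 3, 4, 5, 6, 7, 1, 3, 4, 2, 3, 0, 2, 1, 3, 4, 5, 6, 2, 1, 3, 4, 5, 0, 2, 3, 4, 0, 2, 3, 1],
  [2, 3, 4, 5, 6, 7, 1, 3, 4, 5, 6, 0, 2, 3, 4, 5, 1, 3, 4, 2, 3, 0, 2, 1, 3, 4, 5, 6, 7, 1, 3, 4, 2, 3, 0, 2, 1, 3, 4, 5, 6, 3, 4, 5, 2, 3, 4, 0, 2, 3, 2, 0],
  [2, 3, 4, 5, 6, 7, 1, 3, 4, 5, 6, 0, 2, 3, 4, 5, 1, 3, 4, 2, 3, 0, 2, 1, 3, 4, 5, 6, 7, 1, 3, 4, 2, 3, 0, 2, 1, 3, 4, 5, 6, 1, 3, 4, 5, 2, 3, 4, 0, 2, 3, 0, 2, 1],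
  [6, 5, 4, 3, 2, 1, 3, 4, 5, 6, 0, 2, 3, 4, 5, 1, 3, 4, 2, 3, 0, 2, 1, 3, 4, 5, 6, 7, 6, 5, 4, 3, 2, 1, 3, 4, 5, 6, 0, 2, 3, 4, 5, 1, 3, 4, 2, 3, 0, 2, 1, 3, 4, 5, 6, 7, 0, 2],
  [2, 3, 4, 5, 6, 7, 1, 3, 4, 5, 6, 0, 2, 3, 4, 5, 1, 3, 4, 2, 3, 0, 2, 1, 3, 4, 5, 6, 7, 1, 3, 4, 2, 3, 0, 2, 1, 3, 4, 5, 6, 3, 4, 5, 1, 3, 4, 2, 3, 0, 2, 1, 3, 4, 5, 3, 4, 2, 3, 0, 2, 1, 3, 4, 2, 3, 0, 2, 1, 3],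
  [6, 5, 4, 3, 2, 1, 3, 4, 5, 6, 0, 2, 3, 4, 5, 1, 3, 4, 2, 3, 0, 2, 1, 3, 4, 5, 6, 7, 6, 5, 4, 3, 2, 1, 3, 4, 5, 6, 0, 2, 3, 4, 5, 1, 3, 4, 2, 3, 0, 2, 1, 3, 4, 5, 6, 7, 3, 4, 2, 3, 0, 2, 1, 3, 4, 5, 4, 3, 2, 1, 3, 4, 0, 2, 3, 1],
  [3, 4, 2, 3, 0, 2, 1, 3, 4, 5, 6, 7, 4, 3, 2, 1, 3, 4, 5, 6, 0, 2, 3, 4, 5, 1, 3, 4, 2, 3, 0, 2, 1, 3, 4, 5, 6, 7, 4, 5, 6, 3, 4, 5, 1, 3, 4, 2, 3, 0, 2, 1, 3, 4, 5, 6, 2, 3, 0, 2, 1, 3, 4, 5, 0, 2, 3, 4, 1, 3, 2, 0],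
  [0, 2, 3, 4, 5, 6, 7, 1, 3, 4, 5, 6, 2, 3, 4, 5, 1, 3, 4, 2, 3, 0, 2, 1, 3, 4, 5, 6, 7, 1, 3, 4, 2, 3, 0, 2, 1, 3, 4, 5, 6, 0, 2, 3, 4, 5, 2, 3, 4, 0, 2, 3, 0, 2],
  [0, 2, 3, 4, 5, 6, 7, 1, 3, 4, 5, 6, 2, 3, 4, 5, 1, 3, 4, 2, 3, 0, 2, 1, 3, 4, 5, 6, 7, 1, 3, 4, 2, 3, 0, 2, 1, 3, 4, 5, 6, 0, 2, 1, 3, 4, 5, 2, 3, 4, 0, 2, 3, 1],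
  [0, 2, 3, 4, 5, 6, 7, 1, 3, 4, 5, 6, 2, 3, 4, 5, 1, 3, 4, 2, 3, 0, 2, 1, 3, 4, 5, 6, 7, 1, 3, 4, 2, 3, 0, 2, 1, 3, 4, 5, 6, 2, 3, 4, 5, 0, 2, 3, 4, 0, 2, 3, 2, 0],
  [0, 2, 3, 4, 5, 6, 7, 1, 3, 4, 5, 6, 2, 3, 4, 5, 1, 3, 4, 2, 3, 0, 2, 1, 3, 4, 5, 6, 7, 1, 3, 4, 2, 3, 0, 2, 1, 3, 4, 5, 6, 2, 1, 3, 4, 5, 0, 2, 3, 4, 0, 2, 3, 0, 2, 1],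
  [7, 6, 5, 4, 3, 2, 1, 3, 4, 5, 6, 0, 2, 3, 4, 5, 1, 3, 4, 2, 3, 0, 2, 1, 3, 4, 5, 6, 7, 6, 5, 4, 3, 2, 1, 3, 4, 5, 6, 0, 2, 3, 4, 5, 1, 3, 4, 2, 3, 0, 2, 1, 3, 4, 5, 6, 5, 4, 0, 2],
  [0, 2, 3, 4, 5, 6, 7, 1, 3, 4, 5, 6, 2, 3, 4, 5, 1, 3, 4, 2, 3, 0, 2, 1, 3, 4, 5, 6, 7, 1, 3, 4, 2, 3, 0, 2, 1, 3, 4, 5, 6, 2, 3, 4, 5, 1, 3, 4, 2, 3, 0, 2, 1, 3, 4, 5, 1, 3, 4, 2, 3, 0, 2, 1, 3, 4, 2, 3, 0, 2, 1, 3],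
  [7, 6, 5, 4, 3, 2, 1, 3, 4, 5, 6, 0, 2, 3, 4, 5, 1, 3, 4, 2, 3, 0, 2, 1, 3, 4, 5, 6, 7, 6, 5, 4, 3, 2, 1, 3, 4, 5, 6, 0, 2, 3, 4, 5, 1, 3, 4, 2, 3, 0, 2, 1, 3, 4, 5, 6, 5, 3, 4, 2, 3, 0, 2, 1, 3, 4, 5, 4, 3, 0, 2, 1, 3, 4, 0, 2, 3, 1],
  [0, 2, 3, 4, 5, 6, 7, 1, 3, 4, 5, 6, 2, 3, 4, 5, 1, 3, 4, 2, 3, 0, 2, 1, 3, 4, 5, 6, 7, 1, 3, 4, 2, 3, 0, 2, 1, 3, 4, 5, 6, 1, 3, 4, 5, 2, 3, 4, 0, 2, 3, 2, 1, 0],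
  [7, 6, 5, 4, 3, 2, 1, 3, 4, 5, 6, 0, 2, 3, 4, 5, 1, 3, 4, 2, 3, 0, 2, 1, 3, 4, 5, 6, 7, 6, 5, 4, 3, 2, 1, 3, 4, 5, 6, 0, 2, 3, 4, 5, 1, 3, 4, 2, 3, 0, 2, 1, 3, 4, 5, 6, 2, 0],
  [0, 2, 3, 4, 5, 6, 7, 1, 3, 4, 5, 6, 2, 3, 4, 5, 1, 3, 4, 2, 3, 0, 2, 1, 3, 4, 5, 6, 7, 1, 3, 4, 2, 3, 0, 2, 1, 3, 4, 5, 6, 3, 4, 5, 1, 3, 4, 2, 3, 0, 2, 1, 3, 4, 5, 3, 4, 2, 3, 0, 2, 1, 3, 4, 2, 3, 0, 2, 1, 3, 0, 2],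
  [7, 6, 5, 4, 3, 2, 1, 3, 4, 5, 6, 0, 2, 3, 4, 5, 1, 3, 4, 2, 3, 0, 2, 1, 3, 4, 5, 6, 7, 6, 5, 4, 3, 2, 1, 3, 4, 5, 6, 0, 2, 3, 4, 5, 1, 3, 4, 2, 3, 0, 2, 1, 3, 4, 5, 6, 3, 4, 2, 3, 0, 2, 1, 3, 4, 5, 4, 3, 2, 1, 3, 4, 0, 2, 3, 0, 2, 1],
  [7, 6, 5, 4, 3, 2, 1, 3, 4, 5, 6, 0, 2, 3, 4, 5, 1, 3, 4, 2, 3, 0, 2, 1, 3, 4, 5, 6, 7, 6, 5, 4, 3, 2, 1, 3, 4, 5, 6, 0, 2, 3, 4, 5, 1, 3, 4, 2, 3, 0, 2, 1, 3, 4, 5, 6, 1, 3, 4, 2, 3, 0, 2, 1, 3, 4, 5, 4, 3, 2, 1, 3, 4, 0, 2, 3],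
  [3, 4, 2, 3, 0, 2, 1, 3, 4, 5, 6, 7, 4, 3, 2, 1, 3, 4, 5, 6, 0, 2, 3, 4, 5, 1, 3, 4, 2, 3, 0, 2, 1, 3, 4, 5, 6, 7, 4, 5, 6, 3, 4, 5, 1, 3, 4, 2, 3, 0, 2, 1, 3, 4, 5, 6, 4, 3, 2, 1, 3, 4, 5, 0, 2, 3, 4, 1, 3, 1],
  [3, 4, 5, 6, 7, 1, 3, 4, 5, 6, 2, 3, 4, 5, 1, 3, 4, 2, 3, 0, 2, 1, 3, 4, 5, 6, 7, 1, 3, 4, 2, 3, 0, 2, 1, 3, 4, 5, 6, 0, 2, 3, 4, 5, 2, 3, 4, 0, 2, 3, 2, 0],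
  [3, 4, 5, 6, 7, 1, 3, 4, 5, 6, 2, 3, 4, 5, 1, 3, 4, 2, 3, 0, 2, 1, 3, 4, 5, 6, 7, 1, 3, 4, 2, 3, 0, 2, 1, 3, 4, 5, 6, 0, 2, 1, 3, 4, 5, 2, 3, 4, 0, 2, 3, 0, 2, 1],
  [4, 5, 0, 2],
  [3, 4, 5, 6, 7, 1, 3, 4, 5, 6, 2, 3, 4, 5, 1, 3, 4, 2, 3, 0, 2, 1, 3, 4, 5, 6, 7, 1, 3, 4, 2, 3, 0, 2, 1, 3, 4, 5, 6, 0, 2, 3, 4, 5, 1, 3, 4, 2, 3, 0, 2, 1, 3, 4, 5, 3, 4, 2, 3, 0, 2, 1, 3, 4, 2, 3, 0, 2, 1, 3],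
  [4, 5, 3, 4, 2, 3, 0, 2, 1, 3, 4, 5, 4, 3, 2, 1, 3, 4, 0, 2, 3, 1],
  [3, 4, 5, 6, 7, 1, 3, 4, 5, 6, 2, 3, 4, 5, 1, 3, 4, 2, 3, 0, 2, 1, 3, 4, 5, 6, 7, 1, 3, 4, 2, 3, 0, 2, 1, 3, 4, 5, 6, 2, 1, 3, 4, 5, 0, 2, 3, 4, 0, 2, 3, 2, 1, 0],
  [5, 4, 2, 0],
  [3, 4, 5, 6, 7, 1, 3, 4, 5, 6, 2, 3, 4, 5, 1, 3, 4, 2, 3, 0, 2, 1, 3, 4, 5, 6, 7, 1, 3, 4, 2, 3, 0, 2, 1, 3, 4, 5, 6, 2, 3, 4, 5, 1, 3, 4, 2, 3, 0, 2, 1, 3, 4, 5, 1, 3, 4, 2, 3, 0, 2, 1, 3, 4, 2, 3, 0, 2, 1, 3, 0, 2],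
  [5, 3, 4, 2, 3, 0, 2, 1, 3, 4, 5, 4, 3, 0, 2, 1, 3, 4, 0, 2, 3, 0, 2, 1], [5, 1, 3, 4, 2, 3, 0, 2, 1, 3, 4, 5, 4, 3, 0, 2, 1, 3, 4, 0, 2, 3],
  [6, 7, 5, 6, 4, 5, 3, 4, 2, 3, 0, 2, 1, 3, 4, 5, 6, 7, 4, 5, 6, 3, 4, 5, 1, 3, 4, 2, 3, 0, 2, 1, 3, 4, 5, 6, 4, 3, 0, 2, 1, 3, 4, 5, 0, 2, 1, 3, 4, 1, 3, 1],
  [3, 4, 5, 6, 7, 1, 3, 4, 5, 6, 2, 3, 4, 5, 1, 3, 4, 2, 3, 0, 2, 1, 3, 4, 5, 6, 7, 1, 3, 4, 2, 3, 0, 2, 1, 3, 4, 5, 6, 3, 4, 5, 1, 3, 4, 2, 3, 0, 2, 1, 3, 4, 5, 3, 4, 2, 3, 0, 2, 1, 3, 4, 2, 3, 0, 2, 1, 3, 2, 0],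
  [3, 4, 2, 3, 0, 2, 1, 3, 4, 5, 4, 3, 2, 1, 3, 4, 0, 2, 3, 2, 1, 0], [1, 3, 4, 2, 3, 0, 2, 1, 3, 4, 5, 4, 3, 2, 1, 3, 4, 0, 2, 3, 0, 2],
  [6, 7, 5, 6, 4, 5, 3, 4, 2, 3, 0, 2, 1, 3, 4, 5, 6, 7, 4, 5, 6, 3, 4, 5, 1, 3, 4, 2, 3, 0, 2, 1, 3, 4, 5, 6, 4, 3, 2, 1, 3, 4, 5, 0, 2, 3, 4, 1, 3, 0, 2, 1],
  [6, 7, 5, 6, 4, 5, 3, 4, 2, 3, 0, 2, 1, 3, 4, 5, 6, 7, 4, 5, 6, 3, 4, 5, 1, 3, 4, 2, 3, 0, 2, 1, 3, 4, 5, 6, 5, 4, 3, 2, 1, 3, 4, 5, 0, 2, 3, 4, 1, 3],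
  [1, 3, 4, 5, 6, 7, 2, 3, 4, 5, 6, 0, 2, 3, 4, 5, 1, 3, 4, 2, 3, 0, 2, 1, 3, 4, 5, 6, 7, 2, 3, 0, 2, 1, 3, 4, 5, 6, 2, 3, 0, 2, 1, 3, 4, 5, 0, 2, 3, 4, 1, 3, 2, 0],
  [2, 3, 4, 5, 6, 7, 1, 3, 4, 5, 6, 0, 2, 3, 4, 5, 1, 3, 4, 2, 3, 0, 2, 1, 3, 4, 5, 6, 7, 1, 3, 4, 2, 3, 0, 2, 1, 3, 4, 5, 6, 0, 2, 3, 4, 5, 2, 3, 4, 0, 2, 3, 0, 2],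
  [2, 3, 4, 5, 6, 7, 1, 3, 4, 5, 6, 0, 2, 3, 4, 5, 1, 3, 4, 2, 3, 0, 2, 1, 3, 4, 5, 6, 7, 1, 3, 4, 2, 3, 0, 2, 1, 3, 4, 5, 6, 0, 2, 1, 3, 4, 5, 2, 3, 4, 0, 2, 3, 1],
  [2, 3, 4, 5, 6, 7, 1, 3, 4, 5, 6, 0, 2, 3, 4, 5, 1, 3, 4, 2, 3, 0, 2, 1, 3, 4, 5, 6, 7, 1, 3, 4, 2, 3, 0, 2, 1, 3, 4, 5, 6, 2, 3, 4, 5, 0, 2, 3, 4, 0, 2, 3, 2, 0],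
  [2, 3, 4, 5, 6, 7, 1, 3, 4, 5, 6, 0, 2, 3, 4, 5, 1, 3, 4, 2, 3, 0, 2, 1, 3, 4, 5, 6, 7, 1, 3, 4, 2, 3, 0, 2, 1, 3, 4, 5, 6, 2, 1, 3, 4, 5, 0, 2, 3, 4, 0, 2, 3, 0, 2, 1],
  [6, 5, 4, 3, 2, 1, 3, 4, 5, 6, 0, 2, 3, 4, 5, 1, 3, 4, 2, 3, 0, 2, 1, 3, 4, 5, 6, 7, 6, 5, 4, 3, 2, 1, 3, 4, 5, 6, 0, 2, 3, 4, 5, 1, 3, 4, 2, 3, 0, 2, 1, 3, 4, 5, 6, 7, 5, 4, 0, 2],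
  [2, 3, 4, 5, 6, 7, 1, 3, 4, 5, 6, 0, 2, 3, 4, 5, 1, 3, 4, 2, 3, 0, 2, 1, 3, 4, 5, 6, 7, 1, 3, 4, 2, 3, 0, 2, 1, 3, 4, 5, 6, 2, 3, 4, 5, 1, 3, 4, 2, 3, 0, 2, 1, 3, 4, 5, 1, 3, 4, 2, 3, 0, 2, 1, 3, 4, 2, 3, 0, 2, 1, 3],
  [6, 5, 4, 3, 2, 1, 3, 4, 5, 6, 0, 2, 3, 4, 5, 1, 3, 4, 2, 3, 0, 2, 1, 3, 4, 5, 6, 7, 6, 5, 4, 3, 2, 1, 3, 4, 5, 6, 0, 2, 3, 4, 5, 1, 3, 4, 2, 3, 0, 2, 1, 3, 4, 5, 6, 7, 5, 3, 4, 2, 3, 0, 2, 1, 3, 4, 5, 4, 3, 0, 2, 1, 3, 4, 0, 2, 3, 1],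
  [2, 3, 4, 5, 6, 7, 1, 3, 4, 5, 6, 0, 2, 3, 4, 5, 1, 3, 4, 2, 3, 0, 2, 1, 3, 4, 5, 6, 7, 1, 3, 4, 2, 3, 0, 2, 1, 3, 4, 5, 6, 1, 3, 4, 5, 2, 3, 4, 0, 2, 3, 2, 1, 0],
  [6, 5, 4, 3, 2, 1, 3, 4, 5, 6, 0, 2, 3, 4, 5, 1, 3, 4, 2, 3, 0, 2, 1, 3, 4, 5, 6, 7, 6, 5, 4, 3, 2, 1, 3, 4, 5, 6, 0, 2, 3, 4, 5, 1, 3, 4, 2, 3, 0, 2, 1, 3, 4, 5, 6, 7, 2, 0],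
  [2, 3, 4, 5, 6, 7, 1, 3, 4, 5, 6, 0, 2, 3, 4, 5, 1, 3, 4, 2, 3, 0, 2, 1, 3, 4, 5, 6, 7, 1, 3, 4, 2, 3, 0, 2, 1, 3, 4, 5, 6, 3, 4, 5, 1, 3, 4, 2, 3, 0, 2, 1, 3, 4, 5, 3, 4, 2, 3, 0, 2, 1, 3, 4, 2, 3, 0, 2, 1, 3, 0, 2],
  [6, 5, 4, 3, 2, 1, 3, 4, 5, 6, 0, 2, 3, 4, 5, 1, 3, 4, 2, 3, 0, 2, 1, 3, 4, 5, 6, 7, 6, 5, 4, 3, 2, 1, 3, 4, 5, 6, 0, 2, 3, 4, 5, 1, 3, 4, 2, 3, 0, 2, 1, 3, 4, 5, 6, 7, 3, 4, 2, 3, 0, 2, 1, 3, 4, 5, 4, 3, 2, 1, 3, 4, 0, 2, 3, 0, 2, 1],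
  [6, 5, 4, 3, 2, 1, 3, 4, 5, 6, 0, 2, 3, 4, 5, 1, 3, 4, 2, 3, 0, 2, 1, 3, 4, 5, 6, 7, 6, 5, 4, 3, 2, 1, 3, 4, 5, 6, 0, 2, 3, 4, 5, 1, 3, 4, 2, 3, 0, 2, 1, 3, 4, 5, 6, 7, 1, 3, 4, 2, 3, 0, 2, 1, 3, 4, 5, 4, 3, 2, 1, 3, 4, 0, 2, 3],
  [1, 3, 4, 5, 6, 7, 2, 3, 4, 5, 6, 0, 2, 3, 4, 5, 1, 3, 4, 2, 3, 0, 2, 1, 3, 4, 5, 6, 7, 2, 3, 0, 2, 1, 3, 4, 5, 6, 4, 3, 2, 1, 3, 4, 5, 0, 2, 3, 4, 1, 3, 1],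
  [0, 2, 3, 4, 5, 6, 7, 1, 3, 4, 5, 6, 2, 3, 4, 5, 1, 3, 4, 2, 3, 0, 2, 1, 3, 4, 5, 6, 7, 1, 3, 4, 2, 3, 0, 2, 1, 3, 4, 5, 6, 0, 2, 3, 4, 5, 2, 3, 4, 0, 2, 3, 2, 0],
  [0, 2, 3, 4, 5, 6, 7, 1, 3, 4, 5, 6, 2, 3, 4, 5, 1, 3, 4, 2, 3, 0, 2, 1, 3, 4, 5, 6, 7, 1, 3, 4, 2, 3, 0, 2, 1, 3, 4, 5, 6, 0, 2, 1, 3, 4, 5, 2, 3, 4, 0, 2, 3, 0, 2, 1],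
  [7, 6, 5, 4, 3, 2, 1, 3, 4, 5, 6, 0, 2, 3, 4, 5, 1, 3, 4, 2, 3, 0, 2, 1, 3, 4, 5, 6, 7, 6, 5, 4, 3, 2, 1, 3, 4, 5, 6, 0, 2, 3, 4, 5, 1, 3, 4, 2, 3, 0, 2, 1, 3, 4, 5, 6, 4, 5, 0, 2],
  [0, 2, 3, 4, 5, 6, 7, 1, 3, 4, 5, 6, 2, 3, 4, 5, 1, 3, 4, 2, 3, 0, 2, 1, 3, 4, 5, 6, 7, 1, 3, 4, 2, 3, 0, 2, 1, 3, 4, 5, 6, 0, 2, 3, 4, 5, 1, 3, 4, 2, 3, 0, 2, 1, 3, 4, 5, 3, 4, 2, 3, 0, 2, 1, 3, 4, 2, 3, 0, 2, 1, 3],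
  [7, 6, 5, 4, 3, 2, 1, 3, 4, 5, 6, 0, 2, 3, 4, 5, 1, 3, 4, 2, 3, 0, 2, 1, 3, 4, 5, 6, 7, 6, 5, 4, 3, 2, 1, 3, 4, 5, 6, 0, 2, 3, 4, 5, 1, 3, 4, 2, 3, 0, 2, 1, 3, 4, 5, 6, 4, 5, 3, 4, 2, 3, 0, 2, 1, 3, 4, 5, 4, 3, 2, 1, 3, 4, 0, 2, 3, 1],
  [0, 2, 3, 4, 5, 6, 7, 1, 3, 4, 5, 6, 2, 3, 4, 5, 1, 3, 4, 2, 3, 0, 2, 1, 3, 4, 5, 6, 7, 1, 3, 4, 2, 3, 0, 2, 1, 3, 4, 5, 6, 2, 1, 3, 4, 5, 0, 2, 3, 4, 0, 2, 3, 2, 1, 0],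
  [7, 6, 5, 4, 3, 2, 1, 3, 4, 5, 6, 0, 2, 3, 4, 5, 1, 3, 4, 2, 3, 0, 2, 1, 3, 4, 5, 6, 7, 6, 5, 4, 3, 2, 1, 3, 4, 5, 6, 0, 2, 3, 4, 5, 1, 3, 4, 2, 3, 0, 2, 1, 3, 4, 5, 6, 5, 4, 2, 0],
  [0, 2, 3, 4, 5, 6, 7, 1, 3, 4, 5, 6, 2, 3, 4, 5, 1, 3, 4, 2, 3, 0, 2, 1, 3, 4, 5, 6, 7, 1, 3, 4, 2, 3, 0, 2, 1, 3, 4, 5, 6, 2, 3, 4, 5, 1, 3, 4, 2, 3, 0, 2, 1, 3, 4, 5, 1, 3, 4, 2, 3, 0, 2, 1, 3, 4, 2, 3, 0, 2, 1, 3, 0, 2],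
  [7, 6, 5, 4, 3, 2, 1, 3, 4, 5, 6, 0, 2, 3, 4, 5, 1, 3, 4, 2, 3, 0, 2, 1, 3, 4, 5, 6, 7, 6, 5, 4, 3, 2, 1, 3, 4, 5, 6, 0, 2, 3, 4, 5, 1, 3, 4, 2, 3, 0, 2, 1, 3, 4, 5, 6, 5, 3, 4, 2, 3, 0, 2, 1, 3, 4, 5, 4, 3, 0, 2, 1, 3, 4, 0, 2, 3, 0, 2, 1],
  [7, 6, 5, 4, 3, 2, 1, 3, 4, 5, 6, 0, 2, 3, 4, 5, 1, 3, 4, 2, 3, 0, 2, 1, 3, 4, 5, 6, 7, 6, 5, 4, 3, 2, 1, 3, 4, 5, 6, 0, 2, 3, 4, 5, 1, 3, 4, 2, 3, 0, 2, 1, 3, 4, 5, 6, 5, 1, 3, 4, 2, 3, 0, 2, 1, 3, 4, 5, 4, 3, 0, 2, 1, 3, 4, 0, 2, 3],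
  [3, 4, 2, 3, 0, 2, 1, 3, 4, 5, 6, 7, 4, 3, 2, 1, 3, 4, 5, 6, 0, 2, 3, 4, 5, 1, 3, 4, 2, 3, 0, 2, 1, 3, 4, 5, 6, 7, 4, 5, 6, 3, 4, 5, 1, 3, 4, 2, 3, 0, 2, 1, 3, 4, 5, 6, 4, 3, 0, 2, 1, 3, 4, 5, 0, 2, 1, 3, 4, 1, 3, 1],
  [0, 2, 3, 4, 5, 6, 7, 1, 3, 4, 5, 6, 2, 3, 4, 5, 1, 3, 4, 2, 3, 0, 2, 1, 3, 4, 5, 6, 7, 1, 3, 4, 2, 3, 0, 2, 1, 3, 4, 5, 6, 3, 4, 5, 1, 3, 4, 2, 3, 0, 2, 1, 3, 4, 5, 3, 4, 2, 3, 0, 2, 1, 3, 4, 2, 3, 0, 2, 1, 3, 2, 0],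
  [7, 6, 5, 4, 3, 2, 1, 3, 4, 5, 6, 0, 2, 3, 4, 5, 1, 3, 4, 2, 3, 0, 2, 1, 3, 4, 5, 6, 7, 6, 5, 4, 3, 2, 1, 3, 4, 5, 6, 0, 2, 3, 4, 5, 1, 3, 4, 2, 3, 0, 2, 1, 3, 4, 5, 6, 3, 4, 2, 3, 0, 2, 1, 3, 4, 5, 4, 3, 2, 1, 3, 4, 0, 2, 3, 2, 1, 0],
  [7, 6, 5, 4, 3, 2, 1, 3, 4, 5, 6, 0, 2, 3, 4, 5, 1, 3, 4, 2, 3, 0, 2, 1, 3, 4, 5, 6, 7, 6, 5, 4, 3, 2, 1, 3, 4, 5, 6, 0, 2, 3, 4, 5, 1, 3, 4, 2, 3, 0, 2, 1, 3, 4, 5, 6, 1, 3, 4, 2, 3, 0, 2, 1, 3, 4, 5, 4, 3, 2, 1, 3, 4, 0, 2, 3, 0, 2],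
  [3, 4, 2, 3, 0, 2, 1, 3, 4, 5, 6, 7, 4, 3, 2, 1, 3, 4, 5, 6, 0, 2, 3, 4, 5, 1, 3, 4, 2, 3, 0, 2, 1, 3, 4, 5, 6, 7, 4, 5, 6, 3, 4, 5, 1, 3, 4, 2, 3, 0, 2, 1, 3, 4, 5, 6, 4, 3, 2, 1, 3, 4, 5, 0, 2, 3, 4, 1, 3, 0, 2, 1],
  [3, 4, 2, 3, 0, 2, 1, 3, 4, 5, 6, 7, 4, 3, 2, 1, 3, 4, 5, 6, 0, 2, 3, 4, 5, 1, 3, 4, 2, 3, 0, 2, 1, 3, 4, 5, 6, 7, 4, 5, 6, 3, 4, 5, 1, 3, 4, 2, 3, 0, 2, 1, 3, 4, 5, 6, 5, 4, 3, 2, 1, 3, 4, 5, 0, 2, 3, 4, 1, 3],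
  [3, 4, 5, 6, 7, 1, 3, 4, 5, 6, 2, 3, 4, 5, 1, 3, 4, 2, 3, 0, 2, 1, 3, 4, 5, 6, 7, 1, 3, 4, 2, 3, 0, 2, 1, 3, 4, 5, 6, 0, 2, 1, 3, 4, 5, 2, 3, 4, 0, 2, 3, 2, 1, 0],
  [4, 5, 2, 0],
  [3, 4, 5, 6, 7, 1, 3, 4, 5, 6, 2, 3, 4, 5, 1, 3, 4, 2, 3, 0, 2, 1, 3, 4, 5, 6, 7, 1, 3, 4, 2, 3, 0, 2, 1, 3, 4, 5, 6, 0, 2, 3, 4, 5, 1, 3, 4, 2, 3, 0, 2, 1, 3, 4, 5, 3, 4, 2, 3, 0, 2, 1, 3, 4, 2, 3, 0, 2, 1, 3, 0, 2],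
  [4, 5, 3, 4, 2, 3, 0, 2, 1, 3, 4, 5, 4, 3, 2, 1, 3, 4, 0, 2, 3, 0, 2, 1], [4, 5, 1, 3, 4, 2, 3, 0, 2, 1, 3, 4, 5, 4, 3, 2, 1, 3, 4, 0, 2, 3],
  [6, 7, 5, 6, 4, 5, 3, 4, 2, 3, 0, 2, 1, 3, 4, 5, 6, 7, 4, 5, 6, 3, 4, 5, 1, 3, 4, 2, 3, 0, 2, 1, 3, 4, 5, 6, 4, 2, 3, 0, 2, 1, 3, 4, 5, 0, 2, 3, 4, 1, 3, 1],
  [3, 4, 5, 6, 7, 1, 3, 4, 5, 6, 2, 3, 4, 5, 1, 3, 4, 2, 3, 0, 2, 1, 3, 4, 5, 6, 7, 1, 3, 4, 2, 3, 0, 2, 1, 3, 4, 5, 6, 2, 3, 4, 5, 1, 3, 4, 2, 3, 0, 2, 1, 3, 4, 5, 1, 3, 4, 2, 3, 0, 2, 1, 3, 4, 2, 3, 0, 2, 1, 3, 2, 0],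
  [5, 3, 4, 2, 3, 0, 2, 1, 3, 4, 5, 4, 3, 0, 2, 1, 3, 4, 0, 2, 3, 2, 1, 0], [5, 1, 3, 4, 2, 3, 0, 2, 1, 3, 4, 5, 4, 3, 0, 2, 1, 3, 4, 0, 2, 3, 0, 2],
  [6, 7, 5, 6, 4, 5, 3, 4, 2, 3, 0, 2, 1, 3, 4, 5, 6, 7, 4, 5, 6, 3, 4, 5, 1, 3, 4, 2, 3, 0, 2, 1, 3, 4, 5, 6, 4, 3, 0, 2, 1, 3, 4, 5, 0, 2, 1, 3, 4, 1, 3, 0, 2, 1],
  [6, 7, 5, 6, 4, 5, 3, 4, 2, 3, 0, 2, 1, 3, 4, 5, 6, 7, 4, 5, 6, 3, 4, 5, 1, 3, 4, 2, 3, 0, 2, 1, 3, 4, 5, 6, 5, 4, 3, 0, 2, 1, 3, 4, 5, 0, 2, 1, 3, 4, 1, 3],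
  [1, 3, 4, 2, 3, 0, 2, 1, 3, 4, 5, 4, 3, 2, 1, 3, 4, 0, 2, 3, 2, 0],
  [6, 7, 5, 6, 4, 5, 3, 4, 2, 3, 0, 2, 1, 3, 4, 5, 6, 7, 4, 5, 6, 3, 4, 5, 1, 3, 4, 2, 3, 0, 2, 1, 3, 4, 5, 6, 4, 3, 2, 1, 3, 4, 5, 0, 2, 3, 4, 1, 3, 2, 1, 0],
  [6, 7, 5, 6, 4, 5, 3, 4, 2, 3, 0, 2, 1, 3, 4, 5, 6, 7, 4, 5, 6, 3, 4, 5, 1, 3, 4, 2, 3, 0, 2, 1, 3, 4, 5, 6, 5, 4, 3, 2, 1, 3, 4, 5, 0, 2, 3, 4, 1, 3, 0, 2],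
  [2, 3, 4, 5, 6, 7, 1, 3, 4, 5, 6, 0, 2, 3, 4, 5, 1, 3, 4, 2, 3, 0, 2, 1, 3, 4, 5, 6, 7, 1, 3, 4, 2, 3, 0, 2, 1, 3, 4, 5, 6, 0, 2, 3, 4, 5, 2, 3, 4, 0, 2, 3, 2, 0],
  [2, 3, 4, 5, 6, 7, 1, 3, 4, 5, 6, 0, 2, 3, 4, 5, 1, 3, 4, 2, 3, 0, 2, 1, 3, 4, 5, 6, 7, 1, 3, 4, 2, 3, 0, 2, 1, 3, 4, 5, 6, 0, 2, 1, 3, 4, 5, 2, 3, 4, 0, 2, 3, 0, 2, 1],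
  [6, 5, 4, 3, 2, 1, 3, 4, 5, 6, 0, 2, 3, 4, 5, 1, 3, 4, 2, 3, 0, 2, 1, 3, 4, 5, 6, 7, 6, 5, 4, 3, 2, 1, 3, 4, 5, 6, 0, 2, 3, 4, 5, 1, 3, 4, 2, 3, 0, 2, 1, 3, 4, 5, 6, 7, 4, 5, 0, 2],
  [2, 3, 4, 5, 6, 7, 1, 3, 4, 5, 6, 0, 2, 3, 4, 5, 1, 3, 4, 2, 3, 0, 2, 1, 3, 4, 5, 6, 7, 1, 3, 4, 2, 3, 0, 2, 1, 3, 4, 5, 6, 0, 2, 3, 4, 5, 1, 3, 4, 2, 3, 0, 2, 1, 3, 4, 5, 3, 4, 2, 3, 0, 2, 1, 3, 4, 2, 3, 0, 2, 1, 3],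
  [6, 5, 4, 3, 2, 1, 3, 4, 5, 6, 0, 2, 3, 4, 5, 1, 3, 4, 2, 3, 0, 2, 1, 3, 4, 5, 6, 7, 6, 5, 4, 3, 2, 1, 3, 4, 5, 6, 0, 2, 3, 4, 5, 1, 3, 4, 2, 3, 0, 2, 1, 3, 4, 5, 6, 7, 4, 5, 3, 4, 2, 3, 0, 2, 1, 3, 4, 5, 4, 3, 2, 1, 3, 4, 0, 2, 3, 1],
  [2, 3, 4, 5, 6, 7, 1, 3, 4, 5, 6, 0, 2, 3, 4, 5, 1, 3, 4, 2, 3, 0, 2, 1, 3, 4, 5, 6, 7, 1, 3, 4, 2, 3, 0, 2, 1, 3, 4, 5, 6, 2, 1, 3, 4, 5, 0, 2, 3, 4, 0, 2, 3, 2, 1, 0],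
  [6, 5, 4, 3, 2, 1, 3, 4, 5, 6, 0, 2, 3, 4, 5, 1, 3, 4, 2, 3, 0, 2, 1, 3, 4, 5, 6, 7, 6, 5, 4, 3, 2, 1, 3, 4, 5, 6, 0, 2, 3, 4, 5, 1, 3, 4, 2, 3, 0, 2, 1, 3, 4, 5, 6, 7, 5, 4, 2, 0],
  [2, 3, 4, 5, 6, 7, 1, 3, 4, 5, 6, 0, 2, 3, 4, 5, 1, 3, 4, 2, 3, 0, 2, 1, 3, 4, 5, 6, 7, 1, 3, 4, 2, 3, 0, 2, 1, 3, 4, 5, 6, 2, 3, 4, 5, 1, 3, 4, 2, 3, 0, 2, 1, 3, 4, 5, 1, 3, 4, 2, 3, 0, 2, 1, 3, 4, 2, 3, 0, 2, 1, 3, 0, 2],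
  [6, 5, 4, 3, 2, 1, 3, 4, 5, 6, 0, 2, 3, 4, 5, 1, 3, 4, 2, 3, 0, 2, 1, 3, 4, 5, 6, 7, 6, 5, 4, 3, 2, 1, 3, 4, 5, 6, 0, 2, 3, 4, 5, 1, 3, 4, 2, 3, 0, 2, 1, 3, 4, 5, 6, 7, 5, 3, 4, 2, 3, 0, 2, 1, 3, 4, 5, 4, 3, 0, 2, 1, 3, 4, 0, 2, 3, 0, 2, 1],
  [6, 5, 4, 3, 2, 1, 3, 4, 5, 6, 0, 2, 3, 4, 5, 1, 3, 4, 2, 3, 0, 2, 1, 3, 4, 5, 6, 7, 6, 5, 4, 3, 2, 1, 3, 4, 5, 6, 0, 2, 3, 4, 5, 1, 3, 4, 2, 3, 0, 2, 1, 3, 4, 5, 6, 7, 5, 1, 3, 4, 2, 3, 0, 2, 1, 3, 4, 5, 4, 3, 0, 2, 1, 3, 4, 0, 2, 3],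
  [1, 3, 4, 5, 6, 7, 2, 3, 4, 5, 6, 0, 2, 3, 4, 5, 1, 3, 4, 2, 3, 0, 2, 1, 3, 4, 5, 6, 7, 2, 3, 0, 2, 1, 3, 4, 5, 6, 4, 3, 0, 2, 1, 3, 4, 5, 0, 2, 1, 3, 4, 1, 3, 1],
  [2, 3, 4, 5, 6, 7, 1, 3, 4, 5, 6, 0, 2, 3, 4, 5, 1, 3, 4, 2, 3, 0, 2, 1, 3, 4, 5, 6, 7, 1, 3, 4, 2, 3, 0, 2, 1, 3, 4, 5, 6, 3, 4, 5, 1, 3, 4, 2, 3, 0, 2, 1, 3, 4, 5, 3, 4, 2, 3, 0, 2, 1, 3, 4, 2, 3, 0, 2, 1, 3, 2, 0],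
  [6, 5, 4, 3, 2, 1, 3, 4, 5, 6, 0, 2, 3, 4, 5, 1, 3, 4, 2, 3, 0, 2, 1, 3, 4, 5, 6, 7, 6, 5, 4, 3, 2, 1, 3, 4, 5, 6, 0, 2, 3, 4, 5, 1, 3, 4, 2, 3, 0, 2, 1, 3, 4, 5, 6, 7, 3, 4, 2, 3, 0, 2, 1, 3, 4, 5, 4, 3, 2, 1, 3, 4, 0, 2, 3, 2, 1, 0],
  [6, 5, 4, 3, 2, 1, 3, 4, 5, 6, 0, 2, 3, 4, 5, 1, 3, 4, 2, 3, 0, 2, 1, 3, 4, 5, 6, 7, 6, 5, 4, 3, 2, 1, 3, 4, 5, 6, 0, 2, 3, 4, 5, 1, 3, 4, 2, 3, 0, 2, 1, 3, 4, 5, 6, 7, 1, 3, 4, 2, 3, 0, 2, 1, 3, 4, 5, 4, 3, 2, 1, 3, 4, 0, 2, 3, 0, 2],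
  [1, 3, 4, 5, 6, 7, 2, 3, 4, 5, 6, 0, 2, 3, 4, 5, 1, 3, 4, 2, 3, 0, 2, 1, 3, 4, 5, 6, 7, 2, 3, 0, 2, 1, 3, 4, 5, 6, 4, 3, 2, 1, 3, 4, 5, 0, 2, 3, 4, 1, 3, 0, 2, 1],
  [1, 3, 4, 5, 6, 7, 2, 3, 4, 5, 6, 0, 2, 3, 4, 5, 1, 3, 4, 2, 3, 0, 2, 1, 3, 4, 5, 6, 7, 2, 3, 0, 2, 1, 3, 4, 5, 6, 5, 4, 3, 2, 1, 3, 4, 5, 0, 2, 3, 4, 1, 3],
  [0, 2, 3, 4, 5, 6, 7, 1, 3, 4, 5, 6, 2, 3, 4, 5, 1, 3, 4, 2, 3, 0, 2, 1, 3, 4, 5, 6, 7, 1, 3, 4, 2, 3, 0, 2, 1, 3, 4, 5, 6, 0, 2, 1, 3, 4, 5, 2, 3, 4, 0, 2, 3, 2, 1, 0],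
  [7, 6, 5, 4, 3, 2, 1, 3, 4, 5, 6, 0, 2, 3, 4, 5, 1, 3, 4, 2, 3, 0, 2, 1, 3, 4, 5, 6, 7, 6, 5, 4, 3, 2, 1, 3, 4, 5, 6, 0, 2, 3, 4, 5, 1, 3, 4, 2, 3, 0, 2, 1, 3, 4, 5, 6, 4, 5, 2, 0],
  [0, 2, 3, 4, 5, 6, 7, 1, 3, 4, 5, 6, 2, 3, 4, 5, 1, 3, 4, 2, 3, 0, 2, 1, 3, 4, 5, 6, 7, 1, 3, 4, 2, 3, 0, 2, 1, 3, 4, 5, 6, 0, 2, 3, 4, 5, 1, 3, 4, 2, 3, 0, 2, 1, 3, 4, 5, 3, 4, 2, 3, 0, 2, 1, 3, 4, 2, 3, 0, 2, 1, 3, 0, 2],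
  [7, 6, 5, 4, 3, 2, 1, 3, 4, 5, 6, 0, 2, 3, 4, 5, 1, 3, 4, 2, 3, 0, 2, 1, 3, 4, 5, 6, 7, 6, 5, 4, 3, 2, 1, 3, 4, 5, 6, 0, 2, 3, 4, 5, 1, 3, 4, 2, 3, 0, 2, 1, 3, 4, 5, 6, 4, 5, 3, 4, 2, 3, 0, 2, 1, 3, 4, 5, 4, 3, 2, 1, 3, 4, 0, 2, 3, 0, 2, 1],
  [7, 6, 5, 4, 3, 2, 1, 3, 4, 5, 6, 0, 2, 3, 4, 5, 1, 3, 4, 2, 3, 0, 2, 1, 3, 4, 5, 6, 7, 6, 5, 4, 3, 2, 1, 3, 4, 5, 6, 0, 2, 3, 4, 5, 1, 3, 4, 2, 3, 0, 2, 1, 3, 4, 5, 6, 4, 5, 1, 3, 4, 2, 3, 0, 2, 1, 3, 4, 5, 4, 3, 2, 1, 3, 4, 0, 2, 3],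
  [3, 4, 2, 3, 0, 2, 1, 3, 4, 5, 6, 7, 4, 3, 2, 1, 3, 4, 5, 6, 0, 2, 3, 4, 5, 1, 3, 4, 2, 3, 0, 2, 1, 3, 4, 5, 6, 7, 4, 5, 6, 3, 4, 5, 1, 3, 4, 2, 3, 0, 2, 1, 3, 4, 5, 6, 4, 2, 3, 0, 2, 1, 3, 4, 5, 0, 2, 3, 4, 1, 3, 1],
  [0, 2, 3, 4, 5, 6, 7, 1, 3, 4, 5, 6, 2, 3, 4, 5, 1, 3, 4, 2, 3, 0, 2, 1, 3, 4, 5, 6, 7, 1, 3, 4, 2, 3, 0, 2, 1, 3, 4, 5, 6, 2, 3, 4, 5, 1, 3, 4, 2, 3, 0, 2, 1, 3, 4, 5, 1, 3, 4, 2, 3, 0, 2, 1, 3, 4, 2, 3, 0, 2, 1, 3, 2, 0],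
  [7, 6, 5, 4, 3, 2, 1, 3, 4, 5, 6, 0, 2, 3, 4, 5, 1, 3, 4, 2, 3, 0, 2, 1, 3, 4, 5, 6, 7, 6, 5, 4, 3, 2, 1, 3, 4, 5, 6, 0, 2, 3, 4, 5, 1, 3, 4, 2, 3, 0, 2, 1, 3, 4, 5, 6, 5, 3, 4, 2, 3, 0, 2, 1, 3, 4, 5, 4, 3, 0, 2, 1, 3, 4, 0, 2, 3, 2, 1, 0],
  [7, 6, 5, 4, 3, 2, 1, 3, 4, 5, 6, 0, 2, 3, 4, 5, 1, 3, 4, 2, 3, 0, 2, 1, 3, 4, 5, 6, 7, 6, 5, 4, 3, 2, 1, 3, 4, 5, 6, 0, 2, 3, 4, 5, 1, 3, 4, 2, 3, 0, 2, 1, 3, 4, 5, 6, 5, 1, 3, 4, 2, 3, 0, 2, 1, 3, 4, 5, 4, 3, 0, 2, 1, 3, 4, 0, 2, 3, 0, 2],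
  [3, 4, 2, 3, 0, 2, 1, 3, 4, 5, 6, 7, 4, 3, 2, 1, 3, 4, 5, 6, 0, 2, 3, 4, 5, 1, 3, 4, 2, 3, 0, 2, 1, 3, 4, 5, 6, 7, 4, 5, 6, 3, 4, 5, 1, 3, 4, 2, 3, 0, 2, 1, 3, 4, 5, 6, 4, 3, 0, 2, 1, 3, 4, 5, 0, 2, 1, 3, 4, 1, 3, 0, 2, 1],
  [3, 4, 2, 3, 0, 2, 1, 3, 4, 5, 6, 7, 4, 3, 2, 1, 3, 4, 5, 6, 0, 2, 3, 4, 5, 1, 3, 4, 2, 3, 0, 2, 1, 3, 4, 5, 6, 7, 4, 5, 6, 3, 4, 5, 1, 3, 4, 2, 3, 0, 2, 1, 3, 4, 5, 6, 5, 4, 3, 0, 2, 1, 3, 4, 5, 0, 2, 1, 3, 4, 1, 3],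
  [7, 6, 5, 4, 3, 2, 1, 3, 4, 5, 6, 0, 2, 3, 4, 5, 1, 3, 4, 2, 3, 0, 2, 1, 3, 4, 5, 6, 7, 6, 5, 4, 3, 2, 1, 3, 4, 5, 6, 0, 2, 3, 4, 5, 1, 3, 4, 2, 3, 0, 2, 1, 3, 4, 5, 6, 1, 3, 4, 2, 3, 0, 2, 1, 3, 4, 5, 4, 3, 2, 1, 3, 4, 0, 2, 3, 2, 0],
  [3, 4, 2, 3, 0, 2, 1, 3, 4, 5, 6, 7, 4, 3, 2, 1, 3, 4, 5, 6, 0, 2, 3, 4, 5, 1, 3, 4, 2, 3, 0, 2, 1, 3, 4, 5, 6, 7, 4, 5, 6, 3, 4, 5, 1, 3, 4, 2, 3, 0, 2, 1, 3, 4, 5, 6, 4, 3, 2, 1, 3, 4, 5, 0, 2, 3, 4, 1, 3, 2, 1, 0],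
  [3, 4, 2, 3, 0, 2, 1, 3, 4, 5, 6, 7, 4, 3, 2, 1, 3, 4, 5, 6, 0, 2, 3, 4, 5, 1, 3, 4, 2, 3, 0, 2, 1, 3, 4, 5, 6, 7, 4, 5, 6, 3, 4, 5, 1, 3, 4, 2, 3, 0, 2, 1, 3, 4, 5, 6, 5, 4, 3, 2, 1, 3, 4, 5, 0, 2, 3, 4, 1, 3, 0, 2],
  [3, 4, 5, 6, 7, 1, 3, 4, 5, 6, 2, 3, 4, 5, 1, 3, 4, 2, 3, 0, 2, 1, 3, 4, 5, 6, 7, 1, 3, 4, 2, 3, 0, 2, 1, 3, 4, 5, 6, 0, 2, 3, 4, 5, 1, 3, 4, 2, 3, 0, 2, 1, 3, 4, 5, 3, 4, 2, 3, 0, 2, 1, 3, 4, 2, 3, 0, 2, 1, 3, 2, 0],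
  [4, 5, 3, 4, 2, 3, 0, 2, 1, 3, 4, 5, 4, 3, 2, 1, 3, 4, 0, 2, 3, 2, 1, 0], [4, 5, 1, 3, 4, 2, 3, 0, 2, 1, 3, 4, 5, 4, 3, 2, 1, 3, 4, 0, 2, 3, 0, 2],
  [6, 7, 5, 6, 4, 5, 3, 4, 2, 3, 0, 2, 1, 3, 4, 5, 6, 7, 4, 5, 6, 3, 4, 5, 1, 3, 4, 2, 3, 0, 2, 1, 3, 4, 5, 6, 4, 2, 3, 0, 2, 1, 3, 4, 5, 0, 2, 3, 4, 1, 3, 0, 2, 1],
  [6, 7, 5, 6, 4, 5, 3, 4, 2, 3, 0, 2, 1, 3, 4, 5, 6, 7, 4, 5, 6, 3, 4, 5, 1, 3, 4, 2, 3, 0, 2, 1, 3, 4, 5, 6, 5, 4, 2, 3, 0, 2, 1, 3, 4, 5, 0, 2, 3, 4, 1, 3],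
  [5, 1, 3, 4, 2, 3, 0, 2, 1, 3, 4, 5, 4, 3, 0, 2, 1, 3, 4, 0, 2, 3, 2, 0],
  [6, 7, 5, 6, 4, 5, 3, 4, 2, 3, 0, 2, 1, 3, 4, 5, 6, 7, 4, 5, 6, 3, 4, 5, 1, 3, 4, 2, 3, 0, 2, 1, 3, 4, 5, 6, 4, 3, 0, 2, 1, 3, 4, 5, 0, 2, 1, 3, 4, 1, 3, 2, 1, 0],
  [6, 7, 5, 6, 4, 5, 3, 4, 2, 3, 0, 2, 1, 3, 4, 5, 6, 7, 4, 5, 6, 3, 4, 5, 1, 3, 4, 2, 3, 0, 2, 1, 3, 4, 5, 6, 5, 4, 3, 0, 2, 1, 3, 4, 5, 0, 2, 1, 3, 4, 1, 3, 0, 2],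
  [6, 7, 5, 6, 4, 5, 3, 4, 2, 3, 0, 2, 1, 3, 4, 5, 6, 7, 4, 5, 6, 3, 4, 5, 1, 3, 4, 2, 3, 0, 2, 1, 3, 4, 5, 6, 5, 4, 3, 2, 1, 3, 4, 5, 0, 2, 3, 4, 1, 3, 2, 0],
  [2, 3, 4, 5, 6, 7, 1, 3, 4, 5, 6, 0, 2, 3, 4, 5, 1, 3, 4, 2, 3, 0, 2, 1, 3, 4, 5, 6, 7, 1, 3, 4, 2, 3, 0, 2, 1, 3, 4, 5, 6, 0, 2, 1, 3, 4, 5, 2, 3, 4, 0, 2, 3, 2, 1, 0],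
  [6, 5, 4, 3, 2, 1, 3, 4, 5, 6, 0, 2, 3, 4, 5, 1, 3, 4, 2, 3, 0, 2, 1, 3, 4, 5, 6, 7, 6, 5, 4, 3, 2, 1, 3, 4, 5, 6, 0, 2, 3, 4, 5, 1, 3, 4, 2, 3, 0, 2, 1, 3, 4, 5, 6, 7, 4, 5, 2, 0],
  [2, 3, 4, 5, 6, 7, 1, 3, 4, 5, 6, 0, 2, 3, 4, 5, 1, 3, 4, 2, 3, 0, 2, 1, 3, 4, 5, 6, 7, 1, 3, 4, 2, 3, 0, 2, 1, 3, 4, 5, 6, 0, 2, 3, 4, 5, 1, 3, 4, 2, 3, 0, 2, 1, 3, 4, 5, 3, 4, 2, 3, 0, 2, 1, 3, 4, 2, 3, 0, 2, 1, 3, 0, 2],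
  [6, 5, 4, 3, 2, 1, 3, 4, 5, 6, 0, 2, 3, 4, 5, 1, 3, 4, 2, 3, 0, 2, 1, 3, 4, 5, 6, 7, 6, 5, 4, 3, 2, 1, 3, 4, 5, 6, 0, 2, 3, 4, 5, 1, 3, 4, 2, 3, 0, 2, 1, 3, 4, 5, 6, 7, 4, 5, 3, 4, 2, 3, 0, 2, 1, 3, 4, 5, 4, 3, 2, 1, 3, 4, 0, 2, 3, 0, 2, 1],
  [6, 5, 4, 3, 2, 1, 3, 4, 5, 6, 0, 2, 3, 4, 5, 1, 3, 4, 2, 3, 0, 2, 1, 3, 4, 5, 6, 7, 6, 5, 4, 3, 2, 1, 3, 4, 5, 6, 0, 2, 3, 4, 5, 1, 3, 4, 2, 3, 0, 2, 1, 3, 4, 5, 6, 7, 4, 5, 1, 3, 4, 2, 3, 0, 2, 1, 3, 4, 5, 4, 3, 2, 1, 3, 4, 0, 2, 3],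
  [1, 3, 4, 5, 6, 7, 2, 3, 4, 5, 6, 0, 2, 3, 4, 5, 1, 3, 4, 2, 3, 0, 2, 1, 3, 4, 5, 6, 7, 2, 3, 0, 2, 1, 3, 4, 5, 6, 4, 2, 3, 0, 2, 1, 3, 4, 5, 0, 2, 3, 4, 1, 3, 1],
  [2, 3, 4, 5, 6, 7, 1, 3, 4, 5, 6, 0, 2, 3, 4, 5, 1, 3, 4, 2, 3, 0, 2, 1, 3, 4, 5, 6, 7, 1, 3, 4, 2, 3, 0, 2, 1, 3, 4, 5, 6, 2, 3, 4, 5, 1, 3, 4, 2, 3, 0, 2, 1, 3, 4, 5, 1, 3, 4, 2, 3, 0, 2, 1, 3, 4, 2, 3, 0, 2, 1, 3, 2, 0],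
  [6, 5, 4, 3, 2, 1, 3, 4, 5, 6, 0, 2, 3, 4, 5, 1, 3, 4, 2, 3, 0, 2, 1, 3, 4, 5, 6, 7, 6, 5, 4, 3, 2, 1, 3, 4, 5, 6, 0, 2, 3, 4, 5, 1, 3, 4, 2, 3, 0, 2, 1, 3, 4, 5, 6, 7, 5, 3, 4, 2, 3, 0, 2, 1, 3, 4, 5, 4, 3, 0, 2, 1, 3, 4, 0, 2, 3, 2, 1, 0],
  [6, 5, 4, 3, 2, 1, 3, 4, 5, 6, 0, 2, 3, 4, 5, 1, 3, 4, 2, 3, 0, 2, 1, 3, 4, 5, 6, 7, 6, 5, 4, 3, 2, 1, 3, 4, 5, 6, 0, 2, 3, 4, 5, 1, 3, 4, 2, 3, 0, 2, 1, 3, 4, 5, 6, 7, 5, 1, 3, 4, 2, 3, 0, 2, 1, 3, 4, 5, 4, 3, 0, 2, 1, 3, 4, 0, 2, 3, 0, 2],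
  [1, 3, 4, 5, 6, 7, 2, 3, 4, 5, 6, 0, 2, 3, 4, 5, 1, 3, 4, 2, 3, 0, 2, 1, 3, 4, 5, 6, 7, 2, 3, 0, 2, 1, 3, 4, 5, 6, 4, 3, 0, 2, 1, 3, 4, 5, 0, 2, 1, 3, 4, 1, 3, 0, 2, 1],
  [1, 3, 4, 5, 6, 7, 2, 3, 4, 5, 6, 0, 2, 3, 4, 5, 1, 3, 4, 2, 3, 0, 2, 1, 3, 4, 5, 6, 7, 2, 3, 0, 2, 1, 3, 4, 5, 6, 5, 4, 3, 0, 2, 1, 3, 4, 5, 0, 2, 1, 3, 4, 1, 3],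
  [6, 5, 4, 3, 2, 1, 3, 4, 5, 6, 0, 2, 3, 4, 5, 1, 3, 4, 2, 3, 0, 2, 1, 3, 4, 5, 6, 7, 6, 5, 4, 3, 2, 1, 3, 4, 5, 6, 0, 2, 3, 4, 5, 1, 3, 4, 2, 3, 0, 2, 1, 3, 4, 5, 6, 7, 1, 3, 4, 2, 3, 0, 2, 1, 3, 4, 5, 4, 3, 2, 1, 3, 4, 0, 2, 3, 2, 0],
  [1, 3, 4, 5, 6, 7, 2, 3, 4, 5, 6, 0, 2, 3, 4, 5, 1, 3, 4, 2, 3, 0, 2, 1, 3, 4, 5, 6, 7, 2, 3, 0, 2, 1, 3, 4, 5, 6, 4, 3, 2, 1, 3, 4, 5, 0, 2, 3, 4, 1, 3, 2, 1, 0],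
  [1, 3, 4, 5, 6, 7, 2, 3, 4, 5, 6, 0, 2, 3, 4, 5, 1, 3, 4, 2, 3, 0, 2, 1, 3, 4, 5, 6, 7, 2, 3, 0, 2, 1, 3, 4, 5, 6, 5, 4, 3, 2, 1, 3, 4, 5, 0, 2, 3, 4, 1, 3, 0, 2],
  [0, 2, 3, 4, 5, 6, 7, 1, 3, 4, 5, 6, 2, 3, 4, 5, 1, 3, 4, 2, 3, 0, 2, 1, 3, 4, 5, 6, 7, 1, 3, 4, 2, 3, 0, 2, 1, 3, 4, 5, 6, 0, 2, 3, 4, 5, 1, 3, 4, 2, 3, 0, 2, 1, 3, 4, 5, 3, 4, 2, 3, 0, 2, 1, 3, 4, 2, 3, 0, 2, 1, 3, 2, 0],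
  [7, 6, 5, 4, 3, 2, 1, 3, 4, 5, 6, 0, 2, 3, 4, 5, 1, 3, 4, 2, 3, 0, 2, 1, 3, 4, 5, 6, 7, 6, 5, 4, 3, 2, 1, 3, 4, 5, 6, 0, 2, 3, 4, 5, 1, 3, 4, 2, 3, 0, 2, 1, 3, 4, 5, 6, 4, 5, 3, 4, 2, 3, 0, 2, 1, 3, 4, 5, 4, 3, 2, 1, 3, 4, 0, 2, 3, 2, 1, 0],
  [7, 6, 5, 4, 3, 2, 1, 3, 4, 5, 6, 0, 2, 3, 4, 5, 1, 3, 4, 2, 3, 0, 2, 1, 3, 4, 5, 6, 7, 6, 5, 4, 3, 2, 1, 3, 4, 5, 6, 0, 2, 3, 4, 5, 1, 3, 4, 2, 3, 0, 2, 1, 3, 4, 5, 6, 4, 5, 1, 3, 4, 2, 3, 0, 2, 1, 3, 4, 5, 4, 3, 2, 1, 3, 4, 0, 2, 3, 0, 2],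
  [3, 4, 2, 3, 0, 2, 1, 3, 4, 5, 6, 7, 4, 3, 2, 1, 3, 4, 5, 6, 0, 2, 3, 4, 5, 1, 3, 4, 2, 3, 0, 2, 1, 3, 4, 5, 6, 7, 4, 5, 6, 3, 4, 5, 1, 3, 4, 2, 3, 0, 2, 1, 3, 4, 5, 6, 4, 2, 3, 0, 2, 1, 3, 4, 5, 0, 2, 3, 4, 1, 3, 0, 2, 1],
  [3, 4, 2, 3, 0, 2, 1, 3, 4, 5, 6, 7, 4, 3, 2, 1, 3, 4, 5, 6, 0, 2, 3, 4, 5, 1, 3, 4, 2, 3, 0, 2, 1, 3, 4, 5, 6, 7, 4, 5, 6, 3, 4, 5, 1, 3, 4, 2, 3, 0, 2, 1, 3, 4, 5, 6, 5, 4, 2, 3, 0, 2, 1, 3, 4, 5, 0, 2, 3, 4, 1, 3],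
  [7, 6, 5, 4, 3, 2, 1, 3, 4, 5, 6, 0, 2, 3, 4, 5, 1, 3, 4, 2, 3, 0, 2, 1, 3, 4, 5, 6, 7, 6, 5, 4, 3, 2, 1, 3, 4, 5, 6, 0, 2, 3, 4, 5, 1, 3, 4, 2, 3, 0, 2, 1, 3, 4, 5, 6, 5, 1, 3, 4, 2, 3, 0, 2, 1, 3, 4, 5, 4, 3, 0, 2, 1, 3, 4, 0, 2, 3, 2, 0],
  [3, 4, 2, 3, 0, 2, 1, 3, 4, 5, 6, 7, 4, 3, 2, 1, 3, 4, 5, 6, 0, 2, 3, 4, 5, 1, 3, 4, 2, 3, 0, 2, 1, 3, 4, 5, 6, 7, 4, 5, 6, 3, 4, 5, 1, 3, 4, 2, 3, 0, 2, 1, 3, 4, 5, 6, 4, 3, 0, 2, 1, 3, 4, 5, 0, 2, 1, 3, 4, 1, 3, 2, 1, 0],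
  [3, 4, 2, 3, 0, 2, 1, 3, 4, 5, 6, 7, 4, 3, 2, 1, 3, 4, 5, 6, 0, 2, 3, 4, 5, 1, 3, 4, 2, 3, 0, 2, 1, 3, 4, 5, 6, 7, 4, 5, 6, 3, 4, 5, 1, 3, 4, 2, 3, 0, 2, 1, 3, 4, 5, 6, 5, 4, 3, 0, 2, 1, 3, 4, 5, 0, 2, 1, 3, 4, 1, 3, 0, 2],
  [3, 4, 2, 3, 0, 2, 1, 3, 4, 5, 6, 7, 4, 3, 2, 1, 3, 4, 5, 6, 0, 2, 3, 4, 5, 1, 3, 4, 2, 3, 0, 2, 1, 3, 4, 5, 6, 7, 4, 5, 6, 3, 4, 5, 1, 3, 4, 2, 3, 0, 2, 1, 3, 4, 5, 6, 5, 4, 3, 2, 1, 3, 4, 5, 0, 2, 3, 4, 1, 3, 2, 0],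
  [4, 5, 1, 3, 4, 2, 3, 0, 2, 1, 3, 4, 5, 4, 3, 2, 1, 3, 4, 0, 2, 3, 2, 0],
  [6, 7, 5, 6, 4, 5, 3, 4, 2, 3, 0, 2, 1, 3, 4, 5, 6, 7, 4, 5, 6, 3, 4, 5, 1, 3, 4, 2, 3, 0, 2, 1, 3, 4, 5, 6, 4, 2, 3, 0, 2, 1, 3, 4, 5, 0, 2, 3, 4, 1, 3, 2, 1, 0],
  [6, 7, 5, 6, 4, 5, 3, 4, 2, 3, 0, 2, 1, 3, 4, 5, 6, 7, 4, 5, 6, 3, 4, 5, 1, 3, 4, 2, 3, 0, 2, 1, 3, 4, 5, 6, 5, 4, 2, 3, 0, 2, 1, 3, 4, 5, 0, 2, 3, 4, 1, 3, 0, 2],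
  [6, 7, 5, 6, 4, 5, 3, 4, 2, 3, 0, 2, 1, 3, 4, 5, 6, 7, 4, 5, 6, 3, 4, 5, 1, 3, 4, 2, 3, 0, 2, 1, 3, 4, 5, 6, 5, 4, 3, 0, 2, 1, 3, 4, 5, 0, 2, 1, 3, 4, 1, 3, 2, 0],
  [2, 3, 4, 5, 6, 7, 1, 3, 4, 5, 6, 0, 2, 3, 4, 5, 1, 3, 4, 2, 3, 0, 2, 1, 3, 4, 5, 6, 7, 1, 3, 4, 2, 3, 0, 2, 1, 3, 4, 5, 6, 0, 2, 3, 4, 5, 1, 3, 4, 2, 3, 0, 2, 1, 3, 4, 5, 3, 4, 2, 3, 0, 2, 1, 3, 4, 2, 3, 0, 2, 1, 3, 2, 0],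
  [6, 5, 4, 3, 2, 1, 3, 4, 5, 6, 0, 2, 3, 4, 5, 1, 3, 4, 2, 3, 0, 2, 1, 3, 4, 5, 6, 7, 6, 5, 4, 3, 2, 1, 3, 4, 5, 6, 0, 2, 3, 4, 5, 1, 3, 4, 2, 3, 0, 2, 1, 3, 4, 5, 6, 7, 4, 5, 3, 4, 2, 3, 0, 2, 1, 3, 4, 5, 4, 3, 2, 1, 3, 4, 0, 2, 3, 2, 1, 0],
  [6, 5, 4, 3, 2, 1, 3, 4, 5, 6, 0, 2, 3, 4, 5, 1, 3, 4, 2, 3, 0, 2, 1, 3, 4, 5, 6, 7, 6, 5, 4, 3, 2, 1, 3, 4, 5, 6, 0, 2, 3, 4, 5, 1, 3, 4, 2, 3, 0, 2, 1, 3, 4, 5, 6, 7, 4, 5, 1, 3, 4, 2, 3, 0, 2, 1, 3, 4, 5, 4, 3, 2, 1, 3, 4, 0, 2, 3, 0, 2],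
  [1, 3, 4, 5, 6, 7, 2, 3, 4, 5, 6, 0, 2, 3, 4, 5, 1, 3, 4, 2, 3, 0, 2, 1, 3, 4, 5, 6, 7, 2, 3, 0, 2, 1, 3, 4, 5, 6, 4, 2, 3, 0, 2, 1, 3, 4, 5, 0, 2, 3, 4, 1, 3, 0, 2, 1],
  [1, 3, 4, 5, 6, 7, 2, 3, 4, 5, 6, 0, 2, 3, 4, 5, 1, 3, 4, 2, 3, 0, 2, 1, 3, 4, 5, 6, 7, 2, 3, 0, 2, 1, 3, 4, 5, 6, 5, 4, 2, 3, 0, 2, 1, 3, 4, 5, 0, 2, 3, 4, 1, 3],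
  [6, 5, 4, 3, 2, 1, 3, 4, 5, 6, 0, 2, 3, 4, 5, 1, 3, 4, 2, 3, 0, 2, 1, 3, 4, 5, 6, 7, 6, 5, 4, 3, 2, 1, 3, 4, 5, 6, 0, 2, 3, 4, 5, 1, 3, 4, 2, 3, 0, 2, 1, 3, 4, 5, 6, 7, 5, 1, 3, 4, 2, 3, 0, 2, 1, 3, 4, 5, 4, 3, 0, 2, 1, 3, 4, 0, 2, 3, 2, 0],
  [1, 3, 4, 5, 6, 7, 2, 3, 4, 5, 6, 0, 2, 3, 4, 5, 1, 3, 4, 2, 3, 0, 2, 1, 3, 4, 5, 6, 7, 2, 3, 0, 2, 1, 3, 4, 5, 6, 4, 3, 0, 2, 1, 3, 4, 5, 0, 2, 1, 3, 4, 1, 3, 2, 1, 0],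
  [1, 3, 4, 5, 6, 7, 2, 3, 4, 5, 6, 0, 2, 3, 4, 5, 1, 3, 4, 2, 3, 0, 2, 1, 3, 4, 5, 6, 7, 2, 3, 0, 2, 1, 3, 4, 5, 6, 5, 4, 3, 0, 2, 1, 3, 4, 5, 0, 2, 1, 3, 4, 1, 3, 0, 2],
  [1, 3, 4, 5, 6, 7, 2, 3, 4, 5, 6, 0, 2, 3, 4, 5, 1, 3, 4, 2, 3, 0, 2, 1, 3, 4, 5, 6, 7, 2, 3, 0, 2, 1, 3, 4, 5, 6, 5, 4, 3, 2, 1, 3, 4, 5, 0, 2, 3, 4, 1, 3, 2, 0],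
  [7, 6, 5, 4, 3, 2, 1, 3, 4, 5, 6, 0, 2, 3, 4, 5, 1, 3, 4, 2, 3, 0, 2, 1, 3, 4, 5, 6, 7, 6, 5, 4, 3, 2, 1, 3, 4, 5, 6, 0, 2, 3, 4, 5, 1, 3, 4, 2, 3, 0, 2, 1, 3, 4, 5, 6, 4, 5, 1, 3, 4, 2, 3, 0, 2, 1, 3, 4, 5, 4, 3, 2, 1, 3, 4, 0, 2, 3, 2, 0],
  [3, 4, 2, 3, 0, 2, 1, 3, 4, 5, 6, 7, 4, 3, 2, 1, 3, 4, 5, 6, 0, 2, 3, 4, 5, 1, 3, 4, 2, 3, 0, 2, 1, 3, 4, 5, 6, 7, 4, 5, 6, 3, 4, 5, 1, 3, 4, 2, 3, 0, 2, 1, 3, 4, 5, 6, 4, 2, 3, 0, 2, 1, 3, 4, 5, 0, 2, 3, 4, 1, 3, 2, 1, 0],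
  [3, 4, 2, 3, 0, 2, 1, 3, 4, 5, 6, 7, 4, 3, 2, 1, 3, 4, 5, 6, 0, 2, 3, 4, 5, 1, 3, 4, 2, 3, 0, 2, 1, 3, 4, 5, 6, 7, 4, 5, 6, 3, 4, 5, 1, 3, 4, 2, 3, 0, 2, 1, 3, 4, 5, 6, 5, 4, 2, 3, 0, 2, 1, 3, 4, 5, 0, 2, 3, 4, 1, 3, 0, 2],
  [3, 4, 2, 3, 0, 2, 1, 3, 4, 5, 6, 7, 4, 3, 2, 1, 3, 4, 5, 6, 0, 2, 3, 4, 5, 1, 3, 4, 2, 3, 0, 2, 1, 3, 4, 5, 6, 7, 4, 5, 6, 3, 4, 5, 1, 3, 4, 2, 3, 0, 2, 1, 3, 4, 5, 6, 5, 4, 3, 0, 2, 1, 3, 4, 5, 0, 2, 1, 3, 4, 1, 3, 2, 0],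
  [6, 7, 5, 6, 4, 5, 3, 4, 2, 3, 0, 2, 1, 3, 4, 5, 6, 7, 4, 5, 6, 3, 4, 5, 1, 3, 4, 2, 3, 0, 2, 1, 3, 4, 5, 6, 5, 4, 2, 3, 0, 2, 1, 3, 4, 5, 0, 2, 3, 4, 1, 3, 2, 0],
  [6, 5, 4, 3, 2, 1, 3, 4, 5, 6, 0, 2, 3, 4, 5, 1, 3, 4, 2, 3, 0, 2, 1, 3, 4, 5, 6, 7, 6, 5, 4, 3, 2, 1, 3, 4, 5, 6, 0, 2, 3, 4, 5, 1, 3, 4, 2, 3, 0, 2, 1, 3, 4, 5, 6, 7, 4, 5, 1, 3, 4, 2, 3, 0, 2, 1, 3, 4, 5, 4, 3, 2, 1, 3, 4, 0, 2, 3, 2, 0],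
  [1, 3, 4, 5, 6, 7, 2, 3, 4, 5, 6, 0, 2, 3, 4, 5, 1, 3, 4, 2, 3, 0, 2, 1, 3, 4, 5, 6, 7, 2, 3, 0, 2, 1, 3, 4, 5, 6, 4, 2, 3, 0, 2, 1, 3, 4, 5, 0, 2, 3, 4, 1, 3, 2, 1, 0],
  [1, 3, 4, 5, 6, 7, 2, 3, 4, 5, 6, 0, 2, 3, 4, 5, 1, 3, 4, 2, 3, 0, 2, 1, 3, 4, 5, 6, 7, 2, 3, 0, 2, 1, 3, 4, 5, 6, 5, 4, 2, 3, 0, 2, 1, 3, 4, 5, 0, 2, 3, 4, 1, 3, 0, 2],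
  [1, 3, 4, 5, 6, 7, 2, 3, 4, 5, 6, 0, 2, 3, 4, 5, 1, 3, 4, 2, 3, 0, 2, 1, 3, 4, 5, 6, 7, 2, 3, 0, 2, 1, 3, 4, 5, 6, 5, 4, 3, 0, 2, 1, 3, 4, 5, 0, 2, 1, 3, 4, 1, 3, 2, 0],
  [3, 4, 2, 3, 0, 2, 1, 3, 4, 5, 6, 7, 4, 3, 2, 1, 3, 4, 5, 6, 0, 2, 3, 4, 5, 1, 3, 4, 2, 3, 0, 2, 1, 3, 4, 5, 6, 7, 4, 5, 6, 3, 4, 5, 1, 3, 4, 2, 3, 0, 2, 1, 3, 4, 5, 6, 5, 4, 2, 3, 0, 2, 1, 3, 4, 5, 0, 2, 3, 4, 1, 3, 2, 0],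
  [1, 3, 4, 5, 6, 7, 2, 3, 4, 5, 6, 0, 2, 3, 4, 5, 1, 3, 4, 2, 3, 0, 2, 1, 3, 4, 5, 6, 7, 2, 3, 0, 2, 1, 3, 4, 5, 6, 5, 4, 2, 3, 0, 2, 1, 3, 4, 5, 0, 2, 3, 4, 1, 3, 2, 0]]

/-- The words of the generators. -/
def w3Gens : List (List ℕ) := [
  [7, 6, 5, 4, 3, 2, 1, 3, 4, 5, 6, 0, 2, 3, 4, 5, 1, 3, 4, 2, 3, 0, 2, 1, 3, 4, 5, 6, 7, 6, 5, 4, 3, 2, 1, 3, 4, 5, 6, 0, 2, 3, 4, 5, 1, 3, 4, 2, 3, 0, 2, 1, 3, 4, 5, 6],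
  [5, 4], [6, 7, 5, 6, 4, 5, 3, 4, 2, 3, 0, 2, 1, 3, 4, 5, 6, 7, 4, 5, 6, 3, 4, 5, 1, 3, 4, 2, 3, 0, 2, 1, 3, 4, 5, 6, 3, 2, 1, 3, 4, 5, 0, 2, 3, 4, 1, 3]]

/-- The left multiplications. -/
def w3Next : List (List ℕ) := [
  [1, 2, 3], [4, 5, 6], [5, 7, 8], [9, 8, 10], [0, 11, 12], [11, 13, 14], [15, 14, 16], [13, 0, 17], [18, 17, 19], [20, 18, 21], [22, 19, 0], [2, 23, 24],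
  [25, 24, 26], [23, 1, 27], [28, 27, 29], [30, 28, 31], [32, 29, 1], [33, 3, 34], [35, 33, 36], [37, 34, 2], [3, 35, 38], [39, 36, 40], [41, 37, 42],
  [7, 4, 43], [44, 43, 45], [46, 44, 47], [48, 45, 4], [49, 6, 50], [51, 49, 52], [53, 50, 5], [6, 51, 54], [55, 52, 56], [57, 53, 58], [59, 9, 60],
  [61, 10, 7], [8, 59, 62], [63, 60, 64], [65, 61, 66], [67, 62, 68], [69, 63, 70], [56, 64, 9], [10, 65, 71], [58, 66, 72], [73, 12, 74], [75, 73, 76],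
  [77, 74, 11], [12, 75, 78], [79, 76, 80], [81, 77, 82], [83, 15, 84], [85, 16, 13], [14, 83, 86], [87, 84, 88], [89, 85, 90], [91, 86, 92], [93, 87, 94],
  [80, 88, 15], [16, 89, 95], [82, 90, 96], [17, 20, 97], [98, 21, 99], [100, 22, 101], [102, 97, 103], [104, 98, 105], [88, 99, 18], [19, 100, 106],
  [90, 101, 107], [108, 102, 109], [92, 103, 20], [21, 104, 110], [94, 105, 111], [95, 106, 112], [111, 107, 22], [113, 25, 114], [115, 26, 23],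
  [24, 113, 116], [117, 114, 118], [119, 115, 120], [121, 116, 122], [123, 117, 124], [40, 118, 25], [26, 119, 125], [42, 120, 126], [27, 30, 127],
  [128, 31, 129], [130, 32, 131], [132, 127, 133], [134, 128, 135], [118, 129, 28], [29, 130, 136], [120, 131, 137], [138, 132, 139], [122, 133, 30],
  [31, 134, 140], [124, 135, 141], [125, 136, 142], [141, 137, 32], [143, 38, 144], [145, 39, 146], [129, 40, 33], [34, 41, 147], [131, 42, 148],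
  [149, 143, 150], [133, 144, 35], [36, 145, 151], [135, 146, 152], [136, 147, 153], [152, 148, 37], [38, 149, 154], [139, 150, 155], [140, 151, 156],
  [155, 152, 39], [156, 153, 41], [43, 46, 157], [158, 47, 159], [160, 48, 161], [162, 157, 163], [164, 158, 165], [64, 159, 44], [45, 160, 166],
  [66, 161, 167], [168, 162, 169], [68, 163, 46], [47, 164, 170], [70, 165, 171], [71, 166, 172], [171, 167, 48], [173, 54, 174], [175, 55, 176],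
  [159, 56, 49], [50, 57, 177], [161, 58, 178], [179, 173, 180], [163, 174, 51], [52, 175, 181], [165, 176, 182], [166, 177, 183], [182, 178, 53],
  [54, 179, 184], [169, 180, 185], [170, 181, 186], [185, 182, 55], [186, 183, 57], [187, 67, 188], [174, 68, 59], [60, 69, 189], [176, 70, 190],
  [177, 71, 191], [190, 72, 61], [62, 187, 192], [180, 188, 193], [181, 189, 194], [193, 190, 63], [194, 191, 65], [184, 192, 195], [72, 193, 67],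
  [195, 194, 69], [196, 78, 197], [198, 79, 199], [99, 80, 73], [74, 81, 200], [101, 82, 201], [202, 196, 203], [103, 197, 75], [76, 198, 204],
  [105, 199, 205], [106, 200, 206], [205, 201, 77], [78, 202, 207], [109, 203, 208], [110, 204, 209], [208, 205, 79], [209, 206, 81], [210, 91, 211],
  [197, 92, 83], [84, 93, 212], [199, 94, 213], [200, 95, 214], [213, 96, 85], [86, 210, 215], [203, 211, 216], [204, 212, 217], [216, 213, 87],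
  [217, 214, 89], [207, 215, 218], [96, 216, 91], [218, 217, 93], [97, 108, 219], [211, 109, 220], [212, 110, 221], [220, 111, 98], [221, 112, 100],
  [215, 219, 222], [107, 220, 102], [222, 221, 104], [112, 222, 108], [223, 121, 224], [144, 122, 113], [114, 123, 225], [146, 124, 226], [147, 125, 227],
  [226, 126, 115], [116, 223, 228], [150, 224, 229], [151, 225, 230], [229, 226, 117], [230, 227, 119], [154, 228, 231], [126, 229, 121], [231, 230, 123],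
  [127, 138, 232], [224, 139, 233], [225, 140, 234], [233, 141, 128], [234, 142, 130], [228, 232, 235], [137, 233, 132], [235, 234, 134], [142, 235, 138],
  [232, 154, 236], [148, 155, 143], [236, 156, 145], [153, 236, 149], [157, 168, 237], [188, 169, 238], [189, 170, 239], [238, 171, 158], [239, 172, 160],
  [192, 237, 240], [167, 238, 162], [240, 239, 164], [172, 240, 168], [237, 184, 241], [178, 185, 173], [241, 186, 175], [183, 241, 179], [191, 195, 187],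
  [219, 207, 242], [201, 208, 196], [242, 209, 198], [206, 242, 202], [214, 218, 210], [227, 231, 223]]

/-- The spanning tree. -/
def w3Par : List (ℕ × ℕ) := [
  (0, 0), (0, 0), (0, 1), (0, 2), (1, 0), (1, 1), (1, 2), (2, 1), (2, 2), (3, 0), (3, 2), (4, 1), (4, 2), (5, 1), (5, 2), (6, 0), (6, 2), (7, 2), (8, 0),
  (8, 2), (9, 0), (9, 2), (10, 0), (11, 1), (11, 2), (12, 0), (12, 2), (13, 2), (14, 0), (14, 2), (15, 0), (15, 2), (16, 0), (17, 0), (17, 2), (18, 0),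
  (18, 2), (19, 0), (20, 2), (21, 0), (21, 2), (22, 0), (22, 2), (23, 2), (24, 0), (24, 2), (25, 0), (25, 2), (26, 0), (27, 0), (27, 2), (28, 0), (28, 2),
  (29, 0), (30, 2), (31, 0), (31, 2), (32, 0), (32, 2), (33, 0), (33, 2), (34, 0), (35, 2), (36, 0), (36, 2), (37, 0), (37, 2), (38, 0), (38, 2), (39, 0),
  (39, 2), (41, 2), (42, 2), (43, 0), (43, 2), (44, 0), (44, 2), (45, 0), (46, 2), (47, 0), (47, 2), (48, 0), (48, 2), (49, 0), (49, 2), (50, 0), (51, 2),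
  (52, 0), (52, 2), (53, 0), (53, 2), (54, 0), (54, 2), (55, 0), (55, 2), (57, 2), (58, 2), (59, 2), (60, 0), (60, 2), (61, 0), (61, 2), (62, 0), (62, 2),
  (63, 0), (63, 2), (65, 2), (66, 2), (67, 0), (67, 2), (69, 2), (70, 2), (71, 2), (73, 0), (73, 2), (74, 0), (75, 2), (76, 0), (76, 2), (77, 0), (77, 2),
  (78, 0), (78, 2), (79, 0), (79, 2), (81, 2), (82, 2), (83, 2), (84, 0), (84, 2), (85, 0), (85, 2), (86, 0), (86, 2), (87, 0), (87, 2), (89, 2), (90, 2),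
  (91, 0), (91, 2), (93, 2), (94, 2), (95, 2), (97, 0), (97, 2), (98, 0), (98, 2), (100, 2), (101, 2), (102, 0), (102, 2), (104, 2), (105, 2), (106, 2),
  (108, 2), (109, 2), (110, 2), (113, 2), (114, 0), (114, 2), (115, 0), (115, 2), (116, 0), (116, 2), (117, 0), (117, 2), (119, 2), (120, 2), (121, 0),
  (121, 2), (123, 2), (124, 2), (125, 2), (127, 0), (127, 2), (128, 0), (128, 2), (130, 2), (131, 2), (132, 0), (132, 2), (134, 2), (135, 2), (136, 2),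
  (138, 2), (139, 2), (140, 2), (143, 0), (143, 2), (145, 2), (146, 2), (147, 2), (149, 2), (150, 2), (151, 2), (154, 2), (157, 0), (157, 2), (158, 0),
  (158, 2), (160, 2), (161, 2), (162, 0), (162, 2), (164, 2), (165, 2), (166, 2), (168, 2), (169, 2), (170, 2), (173, 0), (173, 2), (175, 2), (176, 2),
  (177, 2), (179, 2), (180, 2), (181, 2), (184, 2), (187, 2), (188, 2), (189, 2), (192, 2), (196, 0), (196, 2), (198, 2), (199, 2), (200, 2), (202, 2),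
  (203, 2), (204, 2), (207, 2), (210, 2), (211, 2), (212, 2), (215, 2), (219, 2), (223, 2), (224, 2), (225, 2), (228, 2), (232, 2), (237, 2)]

/-- For the elements of order three the class and a conjugating word. -/
def w3Class : List (ℕ × List ℕ) := [
  (0, []),
  (1, []),
  (1, [6, 7, 3, 2, 1, 3, 4, 5, 6, 0, 2, 3, 4, 5, 1, 3, 4, 2, 3, 0, 2, 1, 3, 4, 5, 6, 7, 6, 5, 4, 2, 3, 0, 2, 1, 3, 4, 5, 6]),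
  (2, [0, 2, 1, 3, 4, 5, 6, 7, 6, 5, 4, 3, 0, 2, 1, 3, 4, 5, 6, 1, 3, 4, 2, 3, 0, 2, 1, 3, 1]),
  (1, [7]),
  (2, [3, 2, 1, 3, 4, 5, 0, 2, 3, 4, 1, 3]),
  (0, []),
  (1, [6, 7, 4, 3, 2, 1, 3, 4, 5, 6, 0, 2, 3, 4, 5, 1, 3, 4, 2, 3, 0, 2, 1, 3, 4, 5, 6, 7, 6, 5, 4, 2, 3, 0, 2, 1, 3, 4, 5, 6]),
  (3, [0, 2, 1, 3, 4, 5, 6, 7, 6, 5, 4, 3, 0, 2, 1, 3, 4, 5, 6, 1, 3, 4, 2, 3, 0, 2, 1, 3, 1, 0]),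
  (0, []),
  (2, [7, 6, 5, 4, 2, 3, 0, 2, 1, 3, 4, 5, 6, 7, 2, 1, 3, 4, 5, 6, 1, 3, 4, 2, 3, 0, 2, 1, 3]),
  (2, [7, 3, 2, 1, 3, 4, 5, 0, 2, 3, 4, 1, 3]),
  (0, []),
  (2, [3, 2, 1, 3, 4, 5, 0, 2, 3, 4, 1, 3, 1]),
  (0, []),
  (0, []),
  (0, []),
  (3, [0, 2, 1, 3, 4, 5, 6, 7, 6, 5, 4, 3, 0, 2, 1, 3, 4, 5, 6, 1, 3, 4, 2, 3, 0, 2, 1, 3, 1]),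
  (0, []),
  (3, [7, 6, 5, 4, 2, 3, 0, 2, 1, 3, 4, 5, 6, 7, 2, 1, 3, 4, 5, 6, 1, 3, 4, 2, 3, 0, 2, 1, 3, 0]),
  (0, []),
  (0, []),
  (0, []),
  (2, [7, 3, 2, 1, 3, 4, 5, 0, 2, 3, 4, 1, 3, 1]),
  (0, []),
  (2, [0, 2, 3, 4, 5, 6, 7, 5, 4, 3, 2, 1, 3, 4, 5, 6, 1, 3, 4, 2, 3, 0, 2, 1, 3, 1]),
  (0, []),
  (0, []),
  (0, []),
  (0, []),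
  (2, [6, 5, 4, 2, 3, 0, 2, 1, 3, 4, 5, 6, 7, 3, 4, 5, 6, 5, 4, 3, 1]),
  (0, []),
  (0, []),
  (0, []),
  (3, [2, 3, 0, 2, 1, 3, 4, 5, 6, 7, 2, 3, 0, 2, 1, 3, 4, 5, 6, 5, 3, 4, 2, 3, 0, 2, 1, 3, 1]),
  (0, []),
  (0, []),
  (0, []),
  (0, []),
  (0, []),
  (1, [3, 4, 5, 6, 7, 1, 3, 4, 5, 6, 2, 3, 4, 5, 1, 3, 4, 2, 3, 0, 2, 1, 3, 4, 5, 6, 7, 1, 3, 4, 2, 3, 0, 2, 1, 3, 4, 5, 6]),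
  (0, []),
  (1, [6, 7, 5, 6, 4, 5, 1, 3, 4, 2, 3, 0, 2, 1, 3, 4, 5, 6, 7, 2, 3, 0, 2, 1, 3, 4, 5, 6]),
  (0, []),
  (3, [0, 2, 3, 4, 5, 6, 7, 5, 4, 3, 2, 1, 3, 4, 5, 6, 1, 3, 4, 2, 3, 0, 2, 1, 3, 1, 0]),
  (0, []),
  (0, []),
  (2, [7, 6, 5, 4, 3, 0, 2, 1, 3, 4, 5, 6, 7, 2, 3, 4, 5, 6, 1, 3, 4, 2, 3, 0, 2, 1, 3]),
  (2, [6, 5, 4, 3, 0, 2, 1, 3, 4, 5, 6, 7, 1, 3, 4, 5, 6, 1, 3, 4, 2, 3, 0, 2, 1, 3]),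
  (0, []),
  (0, []),
  (3, [6, 7, 3, 2, 1, 3, 4, 5, 6, 5, 3, 4, 3, 2, 1, 3]),
  (0, []),
  (0, []),
  (2, [7, 6, 5, 4, 3, 2, 1, 3, 4, 5, 6, 7, 2, 1, 3, 4, 5, 6, 1, 3, 4, 2, 3, 0, 2, 1, 3]),
  (2, [6, 5, 4, 3, 2, 1, 3, 4, 5, 6, 7, 3, 4, 5, 6, 1, 3, 4, 2, 3, 0, 2, 1, 3]),
  (2, [3, 4, 5, 1, 3, 4, 2, 3, 0, 2, 1, 3]),
  (2, [2, 3, 4, 5, 6, 7, 5, 4, 3, 0, 2, 1, 3, 4, 5, 6, 5, 4, 3]),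
  (2, [1]),
  (0, []),
  (0, []),
  (0, []),
  (0, []),
  (0, []),
  (2, [6, 7, 3, 2, 1, 3, 4, 5, 6, 0, 2, 3, 4, 5, 1, 3, 4, 2, 3, 0, 2, 1, 3, 4, 5, 6, 7, 6, 5, 4, 2, 3, 0, 2, 1, 3, 4, 5, 6, 3, 2, 1, 3, 4, 5, 0, 2, 3, 4, 1, 3]),
  (0, []),
  (2, [6, 7, 5, 6, 4, 5, 1, 3, 4, 2, 3, 0, 2, 1, 3, 4, 5, 6, 7, 2, 3, 0, 2, 1, 3, 4, 5, 6, 3, 2, 1, 3, 4, 5, 0, 2, 3, 4, 1, 3]),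
  (2, [6, 5, 4, 2, 3, 0, 2, 1, 3, 4, 5, 6, 7, 3, 4, 5, 6, 1, 3, 4, 2, 3, 0, 2, 1, 3]),
  (1, [3, 4, 5, 6, 7, 1, 3, 4, 5, 6, 0, 2, 3, 4, 5, 1, 3, 4, 2, 3, 0, 2, 1, 3, 4, 5, 6, 7, 1, 3, 4, 2, 3, 0, 2, 1, 3, 4, 5, 6]),
  (2, [0, 2, 3, 4, 5, 6, 7, 5, 4, 3, 2, 1, 3, 4, 5, 6, 5, 4, 3]),
  (2, [6, 7, 5, 6, 4, 5, 1, 3, 4, 2, 3, 0, 2, 1, 3, 4, 5, 6, 7, 2, 3, 0, 2, 1, 3, 4, 5, 6, 3, 4, 5, 1, 3, 4, 2, 3, 0, 2, 1, 3, 1]),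
  (1, [6, 7, 5, 6, 4, 5, 3, 4, 2, 3, 0, 2, 1, 3, 4, 5, 6, 7, 2, 3, 0, 2, 1, 3, 4, 5, 6]),
  (0, []),
  (3, [0, 2, 3, 4, 5, 6, 7, 5, 4, 3, 2, 1, 3, 4, 5, 6, 1, 3, 4, 2, 3, 0, 2, 1, 3, 1]),
  (0, []),
  (0, []),
  (3, [7, 6, 5, 4, 3, 0, 2, 1, 3, 4, 5, 6, 7, 2, 3, 4, 5, 6, 1, 3, 4, 2, 3, 0, 2, 1, 3, 0]),
  (3, [6, 5, 4, 3, 0, 2, 1, 3, 4, 5, 6, 7, 1, 3, 4, 5, 6, 1, 3, 4, 2, 3, 0, 2, 1, 3, 0]),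
  (0, []),
  (0, []),
  (2, [7, 3, 4, 5, 1, 3, 4, 2, 3, 0, 2, 1, 3]),
  (0, []),
  (2, [7, 1]),
  (3, [6, 7, 4, 3, 2, 1, 3, 4, 5, 6, 5, 3, 4, 3, 2, 1, 3]),
  (0, []),
  (0, []),
  (3, [7, 6, 5, 4, 3, 2, 1, 3, 4, 5, 6, 7, 2, 1, 3, 4, 5, 6, 1, 3, 4, 2, 3, 0, 2, 1, 3, 0]),
  (3, [6, 5, 4, 3, 2, 1, 3, 4, 5, 6, 7, 3, 4, 5, 6, 1, 3, 4, 2, 3, 0, 2, 1, 3, 0]),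
  (3, [3, 4, 5, 1, 3, 4, 2, 3, 0, 2, 1, 3, 0]),
  (3, [3, 2, 1, 3, 4, 5, 6, 7, 4, 5, 6, 5, 3, 4, 3, 2, 1, 3, 1, 0]),
  (3, [3, 4, 5, 2, 3, 4, 0, 2, 3]),
  (0, []),
  (2, [3, 4, 5, 1, 3, 4, 2, 3, 0, 2, 1, 3, 1]),
  (0, []),
  (3, [1, 0]),
  (2, []),
  (0, []),
  (0, []),
  (0, []),
  (2, [3, 4, 5, 6, 7, 1, 3, 4, 5, 6, 2, 3, 4, 5, 1, 3, 4, 2, 3, 0, 2, 1, 3, 4, 5, 6, 7, 1, 3, 4, 2, 3, 0, 2, 1, 3, 4, 5, 6, 3, 4, 5, 1, 3, 4, 2, 3, 0, 2, 1, 3]),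
  (0, []),
  (2, [6, 7, 5, 6, 4, 5, 1, 3, 4, 2, 3, 0, 2, 1, 3, 4, 5, 6, 7, 2, 3, 0, 2, 1, 3, 4, 5, 6, 3, 2, 1, 3, 4, 5, 0, 2, 3, 4, 1, 3, 1]),
  (3, [6, 5, 4, 2, 3, 0, 2, 1, 3, 4, 5, 6, 7, 3, 4, 5, 6, 1, 3, 4, 2, 3, 0, 2, 1, 3, 0]),
  (2, [6, 7, 3, 2, 1, 3, 4, 5, 6, 0, 2, 3, 4, 5, 1, 3, 4, 2, 3, 0, 2, 1, 3, 4, 5, 6, 7, 6, 5, 4, 2, 3, 0, 2, 1, 3, 4, 5, 6, 3, 2, 1, 3, 4, 5, 0, 2, 3, 4, 1, 3, 1]),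
  (3, [2, 3, 0, 2, 1, 3, 4, 5, 6, 7, 4, 5, 6, 5, 3, 4, 3, 2, 1, 3, 1, 0]),
  (3, [6, 7, 5, 6, 4, 5, 1, 3, 4, 2, 3, 0, 2, 1, 3, 4, 5, 6, 7, 2, 3, 0, 2, 1, 3, 4, 5, 6, 3, 4, 5, 1, 3, 4, 2, 3, 0, 2, 1, 3, 1, 0]),
  (2, [6, 7, 5, 6, 4, 5, 3, 4, 2, 3, 0, 2, 1, 3, 4, 5, 6, 7, 2, 3, 0, 2, 1, 3, 4, 5, 6, 3, 2, 1, 3, 4, 5, 0, 2, 3, 4, 1, 3]),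
  (0, []),
  (0, []),
  (2, [6, 7, 5, 6, 4, 5, 1, 3, 4, 2, 3, 0, 2, 1, 3, 4, 5, 6, 7, 2, 3, 0, 2, 1, 3, 4, 5, 6, 3, 4, 5, 1, 3, 4, 2, 3, 0, 2, 1, 3]),
  (2, [6, 7, 5, 6, 4, 5, 3, 4, 2, 3, 0, 2, 1, 3, 4, 5, 6, 7, 2, 3, 0, 2, 1, 3, 4, 5, 6, 3, 4, 5, 1, 3, 4, 2, 3, 0, 2, 1, 3, 1]),
  (0, []),
  (0, []),
  (0, []),
  (3, [7, 6, 5, 4, 3, 0, 2, 1, 3, 4, 5, 6, 7, 2, 3, 4, 5, 6, 1, 3, 4, 2, 3, 0, 2, 1, 3]),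
  (3, [3, 0, 2, 1, 3, 4, 5, 6, 7, 3, 0, 2, 1, 3, 4, 5, 6, 3, 4, 2, 3, 0, 2, 1, 3, 1]),
  (0, []),
  (0, []),
  (3, [7, 3, 4, 5, 1, 3, 4, 2, 3, 0, 2, 1, 3, 0]),
  (0, []),
  (3, [7, 3, 4, 5, 2, 3, 4, 0, 2, 3]),
  (0, []),
  (2, [7, 3, 4, 5, 1, 3, 4, 2, 3, 0, 2, 1, 3, 1]),
  (0, []),
  (3, [7, 1, 0]),
  (2, [7]),
  (2, [2, 3, 4, 5, 6, 7, 5, 4, 3, 0, 2, 1, 3, 4, 5, 6, 1, 3, 4, 2, 3, 0, 2, 1, 3, 1]),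
  (3, [3, 2, 1, 3, 4, 5, 6, 7, 2, 3, 0, 2, 1, 3, 4, 5, 6, 5, 3, 4, 2, 3, 0, 2, 1, 3, 1]),
  (3, [6, 5, 4, 3, 2, 1, 3, 4, 5, 6, 7, 3, 4, 5, 6, 1, 3, 4, 2, 3, 0, 2, 1, 3]),
  (3, [3, 4, 5, 1, 3, 4, 2, 3, 0, 2, 1, 3]),
  (3, [3, 2, 1, 3, 4, 5, 6, 7, 5, 6, 5, 3, 4, 3, 2, 1, 3, 1, 0]),
  (3, [3, 4, 5, 2, 3, 4, 0, 2, 3, 0]),
  (0, []),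
  (3, [3, 4, 5, 1, 3, 4, 2, 3, 0, 2, 1, 3, 1, 0]),
  (0, []),
  (4, [1, 0]),
  (3, [3, 4, 5, 2, 3, 4, 0, 2, 3, 1]),
  (0, []),
  (0, []),
  (3, [1]),
  (3, [0]),
  (2, [6, 5, 4, 3, 2, 1, 3, 4, 5, 6, 7, 3, 4, 5, 6, 5, 4, 3, 1]),
  (2, [6, 5, 4, 3, 0, 2, 1, 3, 4, 5, 6, 7, 1, 3, 4, 5, 6, 5, 4, 3, 1]),
  (3, [6, 5, 4, 2, 3, 0, 2, 1, 3, 4, 5, 6, 7, 3, 4, 5, 6, 1, 3, 4, 2, 3, 0, 2, 1, 3]),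
  (2, [3, 4, 5, 6, 7, 1, 3, 4, 5, 6, 0, 2, 3, 4, 5, 1, 3, 4, 2, 3, 0, 2, 1, 3, 4, 5, 6, 7, 1, 3, 4, 2, 3, 0, 2, 1, 3, 4, 5, 6, 3, 4, 5, 1, 3, 4, 2, 3, 0, 2, 1, 3]),
  (3, [2, 3, 0, 2, 1, 3, 4, 5, 6, 7, 5, 6, 5, 3, 4, 3, 2, 1, 3, 1, 0]),
  (3, [6, 7, 5, 6, 4, 5, 1, 3, 4, 2, 3, 0, 2, 1, 3, 4, 5, 6, 7, 2, 3, 0, 2, 1, 3, 4, 5, 6, 3, 4, 5, 1, 3, 4, 2, 3, 0, 2, 1, 3, 1]),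
  (2, [6, 7, 5, 6, 4, 5, 3, 4, 2, 3, 0, 2, 1, 3, 4, 5, 6, 7, 2, 3, 0, 2, 1, 3, 4, 5, 6, 3, 2, 1, 3, 4, 5, 0, 2, 3, 4, 1, 3, 1]),
  (0, []),
  (0, []),
  (3, [6, 7, 5, 6, 4, 5, 1, 3, 4, 2, 3, 0, 2, 1, 3, 4, 5, 6, 7, 2, 3, 0, 2, 1, 3, 4, 5, 6, 3, 4, 5, 1, 3, 4, 2, 3, 0, 2, 1, 3, 0]),
  (3, [6, 7, 5, 6, 4, 5, 3, 4, 2, 3, 0, 2, 1, 3, 4, 5, 6, 7, 2, 3, 0, 2, 1, 3, 4, 5, 6, 3, 4, 5, 1, 3, 4, 2, 3, 0, 2, 1, 3, 1, 0]),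
  (0, []),
  (0, []),
  (2, [6, 7, 5, 6, 4, 5, 3, 4, 2, 3, 0, 2, 1, 3, 4, 5, 6, 7, 2, 3, 0, 2, 1, 3, 4, 5, 6, 3, 4, 5, 1, 3, 4, 2, 3, 0, 2, 1, 3]),
  (2, [2, 1, 3, 4, 5, 6, 7, 6, 5, 4, 3, 2, 1, 3, 4, 5, 6, 1, 3, 4, 2, 3, 0, 2, 1, 3, 1]),
  (2, [1, 3, 4, 5, 6, 7, 6, 5, 4, 3, 0, 2, 1, 3, 4, 5, 6, 1, 3, 4, 2, 3, 0, 2, 1, 3, 1]),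
  (0, []),
  (0, []),
  (3, [7, 3, 4, 5, 1, 3, 4, 2, 3, 0, 2, 1, 3]),
  (0, []),
  (3, [7, 3, 4, 5, 2, 3, 4, 0, 2, 3, 0]),
  (0, []),
  (3, [7, 3, 4, 5, 1, 3, 4, 2, 3, 0, 2, 1, 3, 1, 0]),
  (0, []),
  (4, [7, 1, 0]),
  (3, [7, 3, 4, 5, 2, 3, 4, 0, 2, 3, 1]),
  (3, [2, 3, 4, 5, 6, 7, 5, 4, 3, 0, 2, 1, 3, 4, 5, 6, 1, 3, 4, 2, 3, 0, 2, 1, 3, 1, 0]),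
  (2, [3, 4, 5, 6, 7, 5, 4, 3, 2, 1, 3, 4, 5, 6, 5, 4, 3]),
  (3, [7, 1]),
  (3, [7, 0]),
  (0, []),
  (0, []),
  (0, []),
  (3, [3, 4, 5, 1, 3, 4, 2, 3, 0, 2, 1, 3, 1]),
  (0, []),
  (4, [4, 1, 0]),
  (3, [3, 4, 5, 2, 3, 4, 0, 2, 3, 1, 0]),
  (0, []),
  (0, []),
  (4, [1]),
  (4, [0]),
  (3, [6, 7, 3, 0, 2, 1, 3, 4, 5, 6, 2, 3, 4, 3, 2, 1, 3]),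
  (3, [6, 7, 2, 3, 0, 2, 1, 3, 4, 5, 6, 5, 3, 4, 3, 2, 1, 3]),
  (3, []),
  (0, []),
  (0, []),
  (0, []),
  (3, [6, 7, 5, 6, 4, 5, 1, 3, 4, 2, 3, 0, 2, 1, 3, 4, 5, 6, 7, 2, 3, 0, 2, 1, 3, 4, 5, 6, 3, 4, 5, 1, 3, 4, 2, 3, 0, 2, 1, 3]),
  (3, [6, 7, 5, 6, 4, 5, 3, 4, 2, 3, 0, 2, 1, 3, 4, 5, 6, 7, 2, 3, 0, 2, 1, 3, 4, 5, 6, 3, 4, 5, 1, 3, 4, 2, 3, 0, 2, 1, 3, 1]),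
  (0, []),
  (0, []),
  (3, [6, 7, 5, 6, 4, 5, 3, 4, 2, 3, 0, 2, 1, 3, 4, 5, 6, 7, 2, 3, 0, 2, 1, 3, 4, 5, 6, 3, 4, 5, 1, 3, 4, 2, 3, 0, 2, 1, 3, 0]),
  (3, [2, 1, 3, 4, 5, 6, 7, 6, 5, 4, 3, 2, 1, 3, 4, 5, 6, 1, 3, 4, 2, 3, 0, 2, 1, 3, 1, 0]),
  (3, [1, 3, 4, 5, 6, 7, 6, 5, 4, 3, 0, 2, 1, 3, 4, 5, 6, 1, 3, 4, 2, 3, 0, 2, 1, 3, 1, 0]),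
  (0, []),
  (0, []),
  (3, [7, 3, 4, 5, 1, 3, 4, 2, 3, 0, 2, 1, 3, 1]),
  (0, []),
  (4, [7, 4, 1, 0]),
  (3, [7, 3, 4, 5, 2, 3, 4, 0, 2, 3, 1, 0]),
  (3, [2, 3, 4, 5, 6, 7, 5, 4, 3, 0, 2, 1, 3, 4, 5, 6, 1, 3, 4, 2, 3, 0, 2, 1, 3, 1]),
  (3, [3, 0, 2, 1, 3, 4, 5, 6, 7, 4, 5, 6, 2, 3, 4, 3, 2, 1, 3, 1, 0]),
  (4, [7, 1]),
  (4, [7, 0]),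
  (0, []),
  (0, []),
  (3, [7]),
  (0, []),
  (0, []),
  (0, []),
  (4, [4, 1]),
  (4, [4, 0]),
  (3, [6, 7, 4, 3, 0, 2, 1, 3, 4, 5, 6, 2, 3, 4, 3, 2, 1, 3]),
  (3, [6, 7, 4, 2, 3, 0, 2, 1, 3, 4, 5, 6, 5, 3, 4, 3, 2, 1, 3]),
  (4, []),
  (0, []),
  (0, []),
  (0, []),
  (3, [6, 7, 5, 6, 4, 5, 3, 4, 2, 3, 0, 2, 1, 3, 4, 5, 6, 7, 2, 3, 0, 2, 1, 3, 4, 5, 6, 3, 4, 5, 1, 3, 4, 2, 3, 0, 2, 1, 3]),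
  (3, [2, 1, 3, 4, 5, 6, 7, 6, 5, 4, 3, 2, 1, 3, 4, 5, 6, 1, 3, 4, 2, 3, 0, 2, 1, 3, 1]),
  (3, [1, 3, 4, 5, 6, 7, 6, 5, 4, 3, 0, 2, 1, 3, 4, 5, 6, 1, 3, 4, 2, 3, 0, 2, 1, 3, 1]),
  (0, []),
  (3, [3, 0, 2, 1, 3, 4, 5, 6, 7, 5, 6, 2, 3, 4, 3, 2, 1, 3, 1, 0]),
  (4, [7, 4, 1]),
  (4, [7, 4, 0]),
  (0, []),
  (0, []),
  (4, [7]),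
  (0, []),
  (0, []),
  (2, [3, 4, 5, 6, 7, 5, 4, 3, 2, 1, 3, 4, 5, 6, 1, 3, 4, 2, 3, 0, 2, 1, 3, 1]),
  (4, [4]),
  (0, []),
  (0, []),
  (0, []),
  (0, []),
  (4, [7, 4]),
  (0, []),
  (0, []),
  (3, [3, 4, 5, 6, 7, 5, 4, 3, 2, 1, 3, 4, 5, 6, 1, 3, 4, 2, 3, 0, 2, 1, 3, 1, 0]),
  (0, []),
  (3, [3, 4, 5, 6, 7, 5, 4, 3, 2, 1, 3, 4, 5, 6, 1, 3, 4, 2, 3, 0, 2, 1, 3, 1])]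

/-- The representatives of the classes. -/
def w3Reps : List (List ℕ) := [
  [],
  [7, 6, 5, 4, 3, 2, 1, 3, 4, 5, 6, 0, 2, 3, 4, 5, 1, 3, 4, 2, 3, 0, 2, 1, 3, 4, 5, 6, 7, 6, 5, 4, 3, 2, 1, 3, 4, 5, 6, 0, 2, 3, 4, 5, 1, 3, 4, 2, 3, 0, 2, 1, 3, 4, 5, 6],
  [7, 6, 5, 4, 3, 2, 1, 3, 4, 5, 6, 0, 2, 3, 4, 5, 1, 3, 4, 2, 3, 0, 2, 1, 3, 4, 5, 6, 7, 6, 5, 4, 3, 2, 1, 3, 4, 5, 6, 0, 2, 3, 4, 5, 1, 3, 4, 2, 3, 0, 2, 1, 3, 4, 5, 6, 1, 3, 4, 2, 3, 0, 2, 1, 3, 4, 5, 4, 3, 2, 1, 3, 4, 0, 2, 3],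
  [7, 6, 5, 4, 3, 2, 1, 3, 4, 5, 6, 0, 2, 3, 4, 5, 1, 3, 4, 2, 3, 0, 2, 1, 3, 4, 5, 6, 7, 6, 5, 4, 3, 2, 1, 3, 4, 5, 6, 0, 2, 3, 4, 5, 1, 3, 4, 2, 3, 0, 2, 1, 3, 4, 5, 6, 1, 3, 4, 2, 3, 0, 2, 1, 3, 4, 5, 4, 3, 2, 1, 3, 4, 0, 2, 3, 2, 0],
  [7, 6, 5, 4, 3, 2, 1, 3, 4, 5, 6, 0, 2, 3, 4, 5, 1, 3, 4, 2, 3, 0, 2, 1, 3, 4, 5, 6, 7, 6, 5, 4, 3, 2, 1, 3, 4, 5, 6, 0, 2, 3, 4, 5, 1, 3, 4, 2, 3, 0, 2, 1, 3, 4, 5, 6, 5, 1, 3, 4, 2, 3, 0, 2, 1, 3, 4, 5, 4, 3, 0, 2, 1, 3, 4, 0, 2, 3, 2, 0]]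

/-- A basis of the fixed lattice for each class, as columns. -/
def w3P : List (List (List ℤ)) := [
  [[1, 0, 0, 0, 0, 0, 0, 0], [0, 1, 0, 0, 0, 0, 0, 0], [0, 0, 1, 0, 0, 0, 0, 0], [0, 0, 0, 1, 0, 0, 0, 0], [0, 0, 0, 0, 1, 0, 0, 0], [0, 0, 0, 0, 0, 1, 0, 0], [0, 0, 0, 0, 0, 0, 1, 0], [0, 0, 0, 0, 0, 0, 0, 1]],
  [[0, 0, 0, 0, 1, 0], [0, 0, 0, 0, 0, 1], [1, 0, 0, 0, 0, 0], [0, 1, 0, 0, 0, 0], [0, 0, 1, 0, 0, 0], [0, 0, 0, 1, 0, 0], [0, 0, 0, 0, 0, 0], [0, 0, 0, 0, 0, 0]],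
  [[0, 0, 0, 1], [0, 0, 0, 0], [0, 0, 1, 0], [0, 0, 0, 0], [1, 0, 0, 0], [0, 1, 0, 0], [0, 0, 0, 0], [0, 0, 0, 0]],
  [[0, 0], [0, 0], [0, 0], [0, 0], [0, 1], [1, 0], [0, 0], [0, 0]], [[], [], [], [], [], [], [], []]]

/-- The coordinates of the sum over the orbit in these bases. -/
def w3Q : List (List (List ℤ)) := [
  [[3, 0, 0, 0, 0, 0, 0, 0], [0, 3, 0, 0, 0, 0, 0, 0], [0, 0, 3, 0, 0, 0, 0, 0], [0, 0, 0, 3, 0, 0, 0, 0], [0, 0, 0, 0, 3, 0, 0, 0], [0, 0, 0, 0, 0, 3, 0, 0], [0, 0, 0, 0, 0, 0, 3, 0], [0, 0, 0, 0, 0, 0, 0, 3]],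
  [[0, 0, 3, 0, 0, 0, -4, 0], [0, 0, 0, 3, 0, 0, -6, 0], [0, 0, 0, 0, 3, 0, -5, 0], [0, 0, 0, 0, 0, 3, -4, 0], [3, 0, 0, 0, 0, 0, -2, 0], [0, 3, 0, 0, 0, 0, -3, 0]],
  [[0, 0, 0, -2, 3, 0, -1, 0], [0, 0, 0, -1, 0, 3, -2, 0], [0, 0, 3, -2, 0, 0, 0, 0], [3, 0, 0, -1, 0, 0, 0, 0]],
  [[0, 0, 0, -1, 0, 3, -2, 0], [0, 0, 0, -2, 3, 0, -1, 0]], []]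

/-- The fixed roots of the second class with their coordinates in six of them. -/
def fix72 : List (ℕ × List ℤ) := [
  (35, [-1, -2, -3, -2, -2, -1]), (45, [-1, -2, -3, -2, -1, -1]), (51, [-1, -2, -2, -2, -1, -1]), (54, [-1, -1, -2, -2, -1, -1]),
  (55, [0, -1, -2, -2, -1, -1]), (61, [-1, -2, -2, -1, -1, -1]), (64, [-1, -1, -2, -1, -1, -1]), (65, [0, -1, -2, -1, -1, -1]),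
  (68, [-1, -1, -1, -1, -1, -1]), (69, [0, -1, -1, -1, -1, -1]), (70, [0, 0, -1, -1, -1, -1]), (73, [-1, -1, -1, -1, 0, -1]), (74, [0, -1, -1, -1, 0, -1]),
  (75, [0, 0, -1, -1, 0, -1]), (76, [0, 0, 0, -1, 0, -1]), (77, [0, 0, 0, 0, 0, -1]), (83, [-1, -2, -2, -1, -1, 0]), (86, [-1, -1, -2, -1, -1, 0]),
  (87, [0, -1, -2, -1, -1, 0]), (90, [-1, -1, -1, -1, -1, 0]), (91, [0, -1, -1, -1, -1, 0]), (92, [0, 0, -1, -1, -1, 0]), (95, [-1, -1, -1, 0, -1, 0]),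
  (96, [0, -1, -1, 0, -1, 0]), (97, [0, 0, -1, 0, -1, 0]), (98, [0, 0, 0, 0, -1, 0]), (101, [-1, -1, -1, -1, 0, 0]), (102, [0, -1, -1, -1, 0, 0]),
  (103, [0, 0, -1, -1, 0, 0]), (104, [0, 0, 0, -1, 0, 0]), (107, [-1, -1, -1, 0, 0, 0]), (108, [0, -1, -1, 0, 0, 0]), (109, [0, 0, -1, 0, 0, 0]),
  (112, [-1, -1, 0, 0, 0, 0]), (113, [0, -1, 0, 0, 0, 0]), (116, [-1, 0, 0, 0, 0, 0]), (123, [1, 0, 0, 0, 0, 0]), (126, [0, 1, 0, 0, 0, 0]),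
  (127, [1, 1, 0, 0, 0, 0]), (130, [0, 0, 1, 0, 0, 0]), (131, [0, 1, 1, 0, 0, 0]), (132, [1, 1, 1, 0, 0, 0]), (135, [0, 0, 0, 1, 0, 0]),
  (136, [0, 0, 1, 1, 0, 0]), (137, [0, 1, 1, 1, 0, 0]), (138, [1, 1, 1, 1, 0, 0]), (141, [0, 0, 0, 0, 1, 0]), (142, [0, 0, 1, 0, 1, 0]),
  (143, [0, 1, 1, 0, 1, 0]), (144, [1, 1, 1, 0, 1, 0]), (147, [0, 0, 1, 1, 1, 0]), (148, [0, 1, 1, 1, 1, 0]), (149, [1, 1, 1, 1, 1, 0]),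
  (152, [0, 1, 2, 1, 1, 0]), (153, [1, 1, 2, 1, 1, 0]), (156, [1, 2, 2, 1, 1, 0]), (162, [0, 0, 0, 0, 0, 1]), (163, [0, 0, 0, 1, 0, 1]),
  (164, [0, 0, 1, 1, 0, 1]), (165, [0, 1, 1, 1, 0, 1]), (166, [1, 1, 1, 1, 0, 1]), (169, [0, 0, 1, 1, 1, 1]), (170, [0, 1, 1, 1, 1, 1]),
  (171, [1, 1, 1, 1, 1, 1]), (174, [0, 1, 2, 1, 1, 1]), (175, [1, 1, 2, 1, 1, 1]), (178, [1, 2, 2, 1, 1, 1]), (184, [0, 1, 2, 2, 1, 1]),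
  (185, [1, 1, 2, 2, 1, 1]), (188, [1, 2, 2, 2, 1, 1]), (194, [1, 2, 3, 2, 1, 1]), (204, [1, 2, 3, 2, 2, 1])]

/-- Six simple fixed roots. -/
def six : List ℕ := [123, 126, 130, 135, 141, 162]

/-- The table. -/
def threeT8 : Table chevE8 auxE8 243 3 where
  wd i := w3Words.getD i []
  gn j := w3Gens.getD j []
  nx i j := Fin.ofNat 243 ((w3Next.getD i []).getD j 0)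
  par i := (Fin.ofNat 243 (w3Par.getD i (0, 0)).1, Fin.ofNat 3 (w3Par.getD i (0, 0)).2)

theorem threeT8_ok : threeT8.OK :=
  ⟨by decide +kernel, by decide +kernel, by decide, by decide +kernel⟩

theorem card_WQ_E8 {F : Type*} [Field F] {G : Type*} [Group G] (R : Rel chevE8 auxE8 F G) [Finite R.WQ] :
    Nat.card R.WQ = 696729600 := by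
  haveI := Fintype.ofFinite R.WQ
  rw [Nat.card_eq_fintype_card, Lie.OddInvolution.card_WQ R cmat_E8]
  decide +kernel

end CfsgLib.Known.AltE8
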